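import Groth.Agent.H15.Conv
import Groth.Prelude.Def_SGA3
import Mathlib

/-! The fixed vectors of a normal subgroup form a subcomodule. -/

set_option autoImplicit false
universe u v w

namespace Groth.Agent.H83

open TensorProduct HopfRep WithConv

section Pt

variable {k : Type u} [CommRing k] {A : Type v} [AddCommGroup A] [Module k A] [Coalgebra k A]
  {V : Type w} [AddCommGroup V] [Module k V] [Comod k A V]

/-- the action of an `N`-valued linear "point" of `A` on a comodule -/
noncomputable def ptAct {N : Type*} [AddCommGroup N] [Module k N] (f : A →ₗ[k] N) :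
    V →ₗ[k] V ⊗[k] N :=
  f.lTensor V ∘ₗ Comod.coact (k := k) (A := A)

theorem ptAct_apply {N : Type*} [AddCommGroup N] [Module k N] (f : A →ₗ[k] N) (v : V) :
    ptAct f v = f.lTensor V (Comod.coact (k := k) (A := A) v) := rfl

theorem map_ptAct_comp_coact {N N' : Type*} [AddCommGroup N] [Module k N] [AddCommGroup N']
    [Module k N'] (f : A →ₗ[k] N) (f' : A →ₗ[k] N') :
    TensorProduct.map (ptAct (V := V) f) f' ∘ₗ Comod.coact (k := k) (A := A) =
      (TensorProduct.assoc k V N N').symm.toLinearMap ∘ₗ
        ptAct (V := V) (TensorProduct.map f f' ∘ₗ Coalgebra.comul) := by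
  have hco := Comod.coassoc (k := k) (A := A) (V := V)
  have h1 : (Comod.coact (k := k) (A := A) (V := V)).rTensor A ∘ₗ Comod.coact (k := k) (A := A) =
      (TensorProduct.assoc k V A A).symm.toLinearMap ∘ₗ
        (Coalgebra.comul (R := k) (A := A)).lTensor V ∘ₗ Comod.coact (k := k) (A := A) := by
    rw [← hco]
    ext v
    simp
  have h2 : TensorProduct.map (ptAct (V := V) f) f' =
      TensorProduct.map (f.lTensor V) f' ∘ₗ
        (Comod.coact (k := k) (A := A) (V := V)).rTensor A := by
    unfold ptAct
    rw [LinearMap.rTensor, ← TensorProduct.map_comp, LinearMap.comp_id]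
  rw [h2, LinearMap.comp_assoc, h1, ← LinearMap.comp_assoc, LinearMap.lTensor,
    TensorProduct.map_map_comp_assoc_symm_eq]
  unfold ptAct
  rw [LinearMap.comp_assoc, LinearMap.lTensor_comp, LinearMap.comp_assoc]
  rfl

theorem map_ptAct_coact {N N' : Type*} [AddCommGroup N] [Module k N] [AddCommGroup N']
    [Module k N'] (f : A →ₗ[k] N) (f' : A →ₗ[k] N') (v : V) :
    TensorProduct.map (ptAct (V := V) f) f' (Comod.coact (k := k) (A := A) v) =
      (TensorProduct.assoc k V N N').symm
        (ptAct (V := V) (TensorProduct.map f f' ∘ₗ Coalgebra.comul) v) :=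
  LinearMap.congr_fun (map_ptAct_comp_coact f f') v

end Pt

section Normal

theorem mul_conj_aux {G : Type*} [Group G] (n g : G) : n * g = g * (g⁻¹ * n * g) := by group

variable {k A : Type u} [Field k] [CommRing A] [HopfAlgebra k A] (I : Ideal A) [I.IsHopfIdeal k]
  {V : Type v} [AddCommGroup V] [Module k V] [Comod k A V]

omit [I.IsHopfIdeal k] in
theorem lTensor_mul'_assoc_tmul_one {R : Type*} [CommRing R] [Algebra k R] (x : V ⊗[k] R) :
    (LinearMap.mul' k R).lTensor V (TensorProduct.assoc k V R R (x ⊗ₜ[k] (1 : R))) = x := by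
  induction x with
  | zero => simp
  | tmul v r => simp
  | add x y hx hy => rw [TensorProduct.add_tmul, map_add, map_add, hx, hy]

include I in
theorem isSubcomod_fixed_of_normal (hI : SGA3.IsNormalHopfIdeal k A I) (W : Submodule k V)
    (hW : ∀ v : V, v ∈ W ↔
      LinearMap.lTensor V (Ideal.Quotient.mkₐ k I).toLinearMap (Comod.coact (k := k) (A := A) v) =
        v ⊗ₜ[k] (1 : A ⧸ I)) :
    IsSubcomod (k := k) (A := A) W := by
  classical
  let R := (A ⧸ I) ⊗[k] A
  let π : A →ₐ[k] A ⧸ I := Ideal.Quotient.mkₐ k I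
  let n : A →ₐ[k] R := (Algebra.TensorProduct.includeLeft : (A ⧸ I) →ₐ[k] R).comp π
  let g : A →ₐ[k] R := Algebra.TensorProduct.includeRight
  let m : WithConv (A →ₐ[k] R) := (toConv g)⁻¹ * toConv n * toConv g
  -- (a) m kills I
  have hn : ∀ a ∈ I, n a = 0 := by
    intro a ha
    have : π a = 0 := by
      change Ideal.Quotient.mk I a = 0
      exact Ideal.Quotient.eq_zero_iff_mem.mpr ha
    change (Algebra.TensorProduct.includeLeft : (A ⧸ I) →ₐ[k] R) (π a) = 0
    rw [this, map_zero]
  have hm : ∀ a ∈ I, m.ofConv a = 0 := by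
    intro a ha
    have h1 := hI R (g.comp (HopfAlgebra.antipodeAlgHom k A)) n hn a ha
    rw [Groth.Agent.H15.conv3_eq_conv2] at h1
    have h2 : (toConv ((g.comp (HopfAlgebra.antipodeAlgHom k A)).comp
        (HopfAlgebra.antipodeAlgHom k A)) : WithConv (A →ₐ[k] R)) = toConv g := by
      exact inv_inv (toConv g)
    have h3 : Groth.Agent.H15.conv2 k A (Groth.Agent.H15.conv2 k A
        (g.comp (HopfAlgebra.antipodeAlgHom k A)) n)
        ((g.comp (HopfAlgebra.antipodeAlgHom k A)).comp (HopfAlgebra.antipodeAlgHom k A)) =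
        m.ofConv := by
      change ((toConv g)⁻¹ * toConv n * toConv ((g.comp (HopfAlgebra.antipodeAlgHom k A)).comp
        (HopfAlgebra.antipodeAlgHom k A))).ofConv = m.ofConv
      rw [h2]
    rw [h3] at h1
    exact h1
  -- (b) `n g = g (g⁻¹ n g)`
  have hng : toConv n * toConv g = toConv g * m := by
    exact mul_conj_aux (toConv n) (toConv g)
  -- the action of a product of points
  have key : ∀ (f f' : WithConv (A →ₐ[k] R)) (v : V),
      ptAct (V := V) (f * f').ofConv.toLinearMap v =
        (LinearMap.mul' k R).lTensor V (TensorProduct.assoc k V R R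
          (TensorProduct.map (ptAct (V := V) f.ofConv.toLinearMap) f'.ofConv.toLinearMap
            (Comod.coact (k := k) (A := A) v))) := by
    intro f f' v
    rw [map_ptAct_coact, LinearEquiv.apply_symm_apply]
    have h4 : (f * f').ofConv.toLinearMap = LinearMap.mul' k R ∘ₗ
        (TensorProduct.map f.ofConv.toLinearMap f'.ofConv.toLinearMap ∘ₗ
          Coalgebra.comul (R := k) (A := A)) := rfl
    rw [h4, ptAct_apply, ptAct_apply, LinearMap.lTensor_comp]
    rfl
  intro v hv
  -- (c) the two points act in the same way on `v`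
  have hX : ptAct (V := V) (toConv n * toConv g).ofConv.toLinearMap v =
      ptAct (V := V) g.toLinearMap v := by
    rw [hng, key]
    have hmfac : m.ofConv.toLinearMap =
        (Ideal.Quotient.liftₐ I m.ofConv hm).toLinearMap ∘ₗ π.toLinearMap := by
      ext a
      simp [π]
    have h5 : TensorProduct.map (ptAct (V := V) (toConv g).ofConv.toLinearMap)
        ((Ideal.Quotient.liftₐ I m.ofConv hm).toLinearMap ∘ₗ π.toLinearMap) =
        TensorProduct.map (ptAct (V := V) (toConv g).ofConv.toLinearMap)
          (Ideal.Quotient.liftₐ I m.ofConv hm).toLinearMap ∘ₗ π.toLinearMap.lTensor V := by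
      rw [LinearMap.lTensor, ← TensorProduct.map_comp, LinearMap.comp_id]
    rw [hmfac, h5, LinearMap.comp_apply, (hW v).mp hv, TensorProduct.map_tmul,
      AlgHom.toLinearMap_apply, map_one, lTensor_mul'_assoc_tmul_one]
  -- (d) exactness
  let D : V →ₗ[k] V ⊗[k] (A ⧸ I) :=
    ptAct (V := V) π.toLinearMap - (TensorProduct.mk k V (A ⧸ I)).flip 1
  have hex : Function.Exact W.subtype D := by
    intro x
    constructor
    · intro hx
      have hx' : x ∈ W := by
        rw [hW x]
        have : ptAct (V := V) π.toLinearMap x - x ⊗ₜ[k] (1 : A ⧸ I) = 0 := hx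
        exact sub_eq_zero.mp this
      exact ⟨⟨x, hx'⟩, rfl⟩
    · rintro ⟨y, rfl⟩
      have := (hW y).mp y.2
      change ptAct (V := V) π.toLinearMap (y : V) - (y : V) ⊗ₜ[k] (1 : A ⧸ I) = 0
      rw [ptAct_apply]
      exact sub_eq_zero.mpr this
  have hex' := Module.Flat.rTensor_exact A hex
  refine (hex' _).mp ?_
  have h6 : TensorProduct.map π.toLinearMap (LinearMap.id : A →ₗ[k] A) ∘ₗ
      Coalgebra.comul (R := k) (A := A) = (toConv n * toConv g).ofConv.toLinearMap := by
    have h7 : (toConv n * toConv g).ofConv.toLinearMap = LinearMap.mul' k R ∘ₗ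
        (TensorProduct.map n.toLinearMap g.toLinearMap ∘ₗ
          Coalgebra.comul (R := k) (A := A)) := rfl
    rw [h7, ← LinearMap.comp_assoc]
    congr 1
    ext a b
    simp [n, g, R, Algebra.TensorProduct.tmul_mul_tmul]
  have h8 : ((TensorProduct.mk k V (A ⧸ I)).flip 1).rTensor A =
      (TensorProduct.assoc k V (A ⧸ I) A).symm.toLinearMap ∘ₗ g.toLinearMap.lTensor V := by
    ext x a
    simp only [g, TensorProduct.AlgebraTensorModule.curry_apply, TensorProduct.curry_apply,
      LinearMap.coe_restrictScalars, LinearMap.rTensor_tmul, LinearMap.flip_apply,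
      TensorProduct.mk_apply, LinearMap.comp_apply, LinearMap.lTensor_tmul,
      AlgHom.toLinearMap_apply, LinearEquiv.coe_coe]
    rfl
  have h9 : (ptAct (V := V) π.toLinearMap).rTensor A (Comod.coact (k := k) (A := A) v) =
      (TensorProduct.assoc k V (A ⧸ I) A).symm
        (ptAct (V := V) (toConv n * toConv g).ofConv.toLinearMap v) := by
    rw [← h6]
    exact map_ptAct_coact π.toLinearMap LinearMap.id v
  change (D.rTensor A) (Comod.coact (k := k) (A := A) v) = 0
  rw [LinearMap.rTensor_sub, LinearMap.sub_apply, h9, h8, LinearMap.comp_apply, hX, ← ptAct_apply,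
    sub_eq_zero]
  rfl

end Normal

end Groth.Agent.H83
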