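import Mathlib.RingTheory.HopfAlgebra.Convolution
import Mathlib.RingTheory.HopfAlgebra.Basic

set_option autoImplicit false
universe u v

namespace Groth.Agent.H83

open TensorProduct WithConv Coalgebra HopfAlgebra

variable {k : Type u} [CommRing k] {A : Type v} [CommRing A] [HopfAlgebra k A]

/-- In the convolution group of algebra maps `A → A ⊗ A`, the comultiplication is the product
of the two inclusions. -/
theorem comulAlgHom_eq_mul :
    toConv (Bialgebra.comulAlgHom k A) =
      toConv (Algebra.TensorProduct.includeLeft : A →ₐ[k] A ⊗[k] A) *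
        toConv (Algebra.TensorProduct.includeRight : A →ₐ[k] A ⊗[k] A) := by
  apply WithConv.ofConv_injective
  apply AlgHom.ext
  intro a
  have h := AlgHom.convMul_apply (toConv (Algebra.TensorProduct.includeLeft : A →ₐ[k] A ⊗[k] A))
    (toConv (Algebra.TensorProduct.includeRight : A →ₐ[k] A ⊗[k] A)) a
  refine Eq.trans ?_ h.symm
  simp only [Bialgebra.comulAlgHom_apply]
  have : Algebra.TensorProduct.lift (Algebra.TensorProduct.includeLeft : A →ₐ[k] A ⊗[k] A)
      (Algebra.TensorProduct.includeRight : A →ₐ[k] A ⊗[k] A) (fun _ _ => .all ..) =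
      AlgHom.id k (A ⊗[k] A) := by
    ext <;> simp
  rw [this]
  rfl

/-- For a commutative Hopf algebra the antipode reverses the comultiplication:
`Δ (S a) = Σ S a₂ ⊗ S a₁`. -/
theorem comul_comp_antipode :
    (comul : A →ₗ[k] A ⊗[k] A) ∘ₗ antipode k =
      TensorProduct.map (antipode k) (antipode k) ∘ₗ (TensorProduct.comm k A A).toLinearMap ∘ₗ
        comul := by
  have h1 : (toConv (Bialgebra.comulAlgHom k A))⁻¹ =
      (toConv (Algebra.TensorProduct.includeRight : A →ₐ[k] A ⊗[k] A))⁻¹ *
        (toConv (Algebra.TensorProduct.includeLeft : A →ₐ[k] A ⊗[k] A))⁻¹ := by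
    rw [comulAlgHom_eq_mul]
    exact mul_inv_rev (G := WithConv (A →ₐ[k] A ⊗[k] A)) _ _
  apply LinearMap.ext
  intro a
  have h2 := congrArg (fun f : WithConv (A →ₐ[k] A ⊗[k] A) => f.ofConv a) h1
  have h3 := AlgHom.convMul_apply
    (toConv (Algebra.TensorProduct.includeRight : A →ₐ[k] A ⊗[k] A))⁻¹
    (toConv (Algebra.TensorProduct.includeLeft : A →ₐ[k] A ⊗[k] A))⁻¹ a
  have h4 : ((toConv (Bialgebra.comulAlgHom k A))⁻¹).ofConv a = comul (antipode k a) := rfl
  rw [LinearMap.comp_apply, ← h4, h2]
  refine Eq.trans h3 ?_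
  have h5 : (Algebra.TensorProduct.lift
      ((toConv (Algebra.TensorProduct.includeRight : A →ₐ[k] A ⊗[k] A))⁻¹).ofConv
      ((toConv (Algebra.TensorProduct.includeLeft : A →ₐ[k] A ⊗[k] A))⁻¹).ofConv
      (fun _ _ => .all ..)).toLinearMap =
      TensorProduct.map (antipode k) (antipode k) ∘ₗ (TensorProduct.comm k A A).toLinearMap := by
    apply TensorProduct.ext'
    intro x y
    change (1 ⊗ₜ[k] antipode k x : A ⊗[k] A) * (antipode k y ⊗ₜ[k] 1) = _
    simp
  exact LinearMap.congr_fun h5 (comul a)

theorem comul_antipode (a : A) :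
    comul (antipode k a) =
      TensorProduct.map (antipode k) (antipode k) (TensorProduct.comm k A A (comul a)) :=
  LinearMap.congr_fun (comul_comp_antipode (k := k) (A := A)) a

end Groth.Agent.H83
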