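import Mathlib
import Groth.Agent.H82.ConnDomain

/-! A reduced affine algebraic group over an algebraically closed field is smooth. -/

set_option autoImplicit false
universe u v

namespace Groth.Agent.H83.RedSmooth

open Groth.Agent.H82.ConnDomain

section General

variable {k : Type u} {A : Type v} [Field k] [CommRing A] [Algebra k A]

/-- the localizations of a reduced algebra over a perfect field at its minimal primes are
formally smooth -/
theorem minimalPrime_mem_smoothLocus [PerfectField k] [Algebra.FiniteType k A] [IsReduced A]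
    (p : Ideal A) (hp : p ∈ minimalPrimes A) :
    (⟨p, hp.1.1⟩ : PrimeSpectrum A) ∈ Algebra.smoothLocus k A := by
  have := hp.1.1
  have : Ring.KrullDimLE 0 (Localization.AtPrime p) := .of_isLocalization _ hp _
  let : Field (Localization.AtPrime p) := Ring.KrullDimLE.isField_of_isReduced.toField
  have h1 : Algebra.EssFiniteType A (Localization.AtPrime p) :=
    Algebra.EssFiniteType.of_isLocalization (Localization.AtPrime p) p.primeCompl
  have h2 : Algebra.EssFiniteType k (Localization.AtPrime p) :=
    Algebra.EssFiniteType.comp k A (Localization.AtPrime p)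
  show Algebra.FormallySmooth k (Localization.AtPrime p)
  exact Algebra.FormallySmooth.of_perfectField

/-- maximal ideals of a finitely generated algebra over an algebraically closed field are
kernels of points -/
theorem exists_pt_ker_eq [IsAlgClosed k] [Algebra.FiniteType k A] (m : Ideal A)
    [hm : m.IsMaximal] : ∃ g : A →ₐ[k] k, RingHom.ker g = m := by
  let _ : Field (A ⧸ m) := Ideal.Quotient.field m
  have hfin : Module.Finite k (A ⧸ m) := finite_of_finite_type_of_isJacobsonRing k (A ⧸ m)
  have hb : Function.Bijective (algebraMap k (A ⧸ m)) :=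
    IsAlgClosed.algebraMap_bijective_of_isIntegral
  let e : k ≃ₐ[k] (A ⧸ m) := AlgEquiv.ofBijective (Algebra.ofId k (A ⧸ m)) hb
  refine ⟨(e.symm : (A ⧸ m) →ₐ[k] k).comp (Ideal.Quotient.mkₐ k m), ?_⟩
  ext x
  simp [RingHom.mem_ker, Ideal.Quotient.eq_zero_iff_mem]

/-- formal smoothness of the local rings is invariant under automorphisms -/
theorem mem_smoothLocus_comap (σ : A ≃ₐ[k] A) (p : PrimeSpectrum A)
    (hp : p ∈ Algebra.smoothLocus k A) :
    (⟨p.asIdeal.comap (σ : A →+* A), Ideal.IsPrime.comap _⟩ : PrimeSpectrum A) ∈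
      Algebra.smoothLocus k A := by
  have hq : (p.asIdeal.comap (σ : A →+* A)).IsPrime := Ideal.IsPrime.comap _
  show Algebra.FormallySmooth k (Localization.AtPrime (p.asIdeal.comap (σ : A →+* A)))
  have hp' : Algebra.FormallySmooth k (Localization.AtPrime p.asIdeal) := hp
  have hmap : Submonoid.map (σ : A →* A) (p.asIdeal.comap (σ : A →+* A)).primeCompl =
      p.asIdeal.primeCompl := by
    ext x
    constructor
    · rintro ⟨y, hy, rfl⟩
      exact hy
    · intro hx
      refine ⟨σ.symm x, ?_, by simp⟩
      show σ.symm x ∉ p.asIdeal.comap (σ : A →+* A)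
      rw [Ideal.mem_comap]
      simpa using hx
  let e : Localization.AtPrime (p.asIdeal.comap (σ : A →+* A)) ≃ₐ[k]
      Localization.AtPrime p.asIdeal :=
    IsLocalization.algEquivOfAlgEquiv
      (Localization.AtPrime (p.asIdeal.comap (σ : A →+* A)))
      (Localization.AtPrime p.asIdeal) σ hmap
  exact Algebra.FormallySmooth.of_equiv e.symm

end General

section Hopf

variable (k : Type u) (A : Type v) [Field k] [IsAlgClosed k] [CommRing A] [HopfAlgebra k A]
  [Algebra.FiniteType k A]

/-- a reduced affine algebraic group over an algebraically closed field is smooth -/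
theorem smooth_of_isReduced [IsReduced A] : Algebra.Smooth k A := by
  have hfp : Algebra.FinitePresentation k A :=
    Algebra.FinitePresentation.of_finiteType.mp inferInstance
  have hnt : Nontrivial A := nontrivial_of_hopf k
  have hN : IsNoetherianRing A := Algebra.FiniteType.isNoetherianRing k A
  refine ⟨?_, hfp⟩
  rw [← Algebra.smoothLocus_eq_univ_iff]
  have hopen := Algebra.isOpen_smoothLocus (R := k) (A := A)
  obtain ⟨I, hI⟩ := (PrimeSpectrum.isClosed_iff_zeroLocus_ideal _).1 hopen.isClosed_compl
  have hmemU : ∀ x : PrimeSpectrum A, x ∈ Algebra.smoothLocus k A ↔ ¬ I ≤ x.asIdeal := by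
    intro x
    rw [← Set.notMem_compl_iff, hI, PrimeSpectrum.mem_zeroLocus, SetLike.coe_subset_coe]
  -- a minimal prime lies in the smooth locus
  obtain ⟨M, hM⟩ := Ideal.exists_maximal A
  obtain ⟨p, hp, -⟩ := Ideal.exists_minimalPrimes_le (I := (⊥ : Ideal A)) (J := M) bot_le
  have hp' : p ∈ minimalPrimes A := hp
  have hpU := minimalPrime_mem_smoothLocus (k := k) p hp'
  rw [hmemU] at hpU
  have hpU' : ¬ I ≤ p := hpU
  -- hence so does a maximal ideal
  have hJ : IsJacobsonRing A := isJacobsonRing_of_finiteType (A := k)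
  obtain ⟨m, hm, hmU⟩ : ∃ m : Ideal A, m.IsMaximal ∧ ¬ I ≤ m := by
    by_contra hcon
    push Not at hcon
    apply hpU'
    have hpP : p.IsPrime := hp'.1.1
    have hjac : p.jacobson = p := hJ.out hpP.isRadical
    rw [← hjac, Ideal.jacobson]
    apply le_sInf
    rintro m ⟨-, hm⟩
    exact hcon m hm
  -- by homogeneity every maximal ideal lies in the smooth locus
  obtain ⟨g, hg⟩ := exists_pt_ker_eq (k := k) m
  have hall : ∀ m' : Ideal A, m'.IsMaximal → ¬ I ≤ m' := by
    intro m' hm'
    obtain ⟨g', hg'⟩ := exists_pt_ker_eq (k := k) m'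
    obtain ⟨H, hH⟩ := exists_tauEquiv_eq g' g
    have hmU' : (⟨m, hm.isPrime⟩ : PrimeSpectrum A) ∈ Algebra.smoothLocus k A := by
      rw [hmemU]
      exact hmU
    have h2 := mem_smoothLocus_comap (tauEquiv H) _ hmU'
    rw [hmemU] at h2
    have h3 : Ideal.comap ((tauEquiv H : A ≃ₐ[k] A) : A →+* A) m = m' := by
      ext a
      rw [Ideal.mem_comap, ← hg, ← hg', RingHom.mem_ker, RingHom.mem_ker]
      show g (tauEquiv H a) = 0 ↔ g' a = 0
      rw [hH]
    rw [← h3]
    exact h2
  -- hence the smooth locus is everything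
  rw [Set.eq_univ_iff_forall]
  intro x
  rw [hmemU]
  intro hle
  obtain ⟨m', hm', hxm'⟩ := Ideal.exists_le_maximal x.asIdeal x.2.ne_top
  exact hall m' hm' (hle.trans hxm')

end Hopf

end Groth.Agent.H83.RedSmooth
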