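import Groth.Agent.H93.DualMod
import Groth.Agent.H62.Comod
import Groth.Prelude.Def_ComodSub
import Mathlib.LinearAlgebra.FiniteDimensional.Lemmas

/-! Flags of subcomodules when all simple comodules are lines. -/

set_option autoImplicit false
universe u v w

namespace Groth.Agent.H83

open TensorProduct HopfRep Groth.Agent.H93

section

variable {k : Type u} [Field k] {A : Type v} [AddCommGroup A] [Module k A] [Coalgebra k A]

/-- a nonzero finite-dimensional comodule contains a simple subcomodule -/
theorem exists_simple_subcomod (W : Type w) [AddCommGroup W] [Module k W] [Comod k A W]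
    [Module.Finite k W] [Nontrivial W] :
    ∃ (S : Submodule k W) (hS : IsSubcomod (k := k) (A := A) S),
      @IsSimpleComod k A _ _ _ _ S _ _ (Groth.Agent.H62.subComod S hS) := by
  classical
  let P : ℕ → Prop := fun n => ∃ S : Submodule k W, IsSubcomod (k := k) (A := A) S ∧ S ≠ ⊥ ∧
    Module.finrank k S = n
  have hP : ∃ n, P n := ⟨Module.finrank k (⊤ : Submodule k W), ⊤, isSubcomod_top, top_ne_bot, rfl⟩
  obtain ⟨S, hS, hne, hrk⟩ := Nat.find_spec hP
  have hmin : ∀ T : Submodule k W, IsSubcomod (k := k) (A := A) T → T ≠ ⊥ → T ≤ S → T = S := by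
    intro T hT hTne hle
    apply Submodule.eq_of_le_of_finrank_le hle
    rw [hrk]
    exact Nat.find_min' hP ⟨T, hT, hTne, rfl⟩
  refine ⟨S, hS, ?_, ?_⟩
  · exact Submodule.nontrivial_iff_ne_bot.mpr hne
  · intro T hT
    letI := Groth.Agent.H62.subComod S hS
    have hT' : IsSubcomod (k := k) (A := A) (T.map S.subtype) :=
      Groth.Agent.H62.isSubcomod_map S.subtype (Groth.Agent.H62.subtype_isComodHom S hS) T hT
    by_cases hb : T = ⊥
    · exact Or.inl hb
    · right
      have hne' : T.map S.subtype ≠ ⊥ := by
        intro h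
        apply hb
        apply Submodule.map_injective_of_injective S.injective_subtype
        rw [h, Submodule.map_bot]
      have h1 := hmin _ hT' hne' (Submodule.map_subtype_le S T)
      apply Submodule.map_injective_of_injective S.injective_subtype
      rw [h1, Submodule.map_subtype_top]

/-- comap of a subcomodule along a comodule map -/
theorem isSubcomod_comap {V : Type w} [AddCommGroup V] [Module k V] [Comod k A V]
    {W : Type w} [AddCommGroup W] [Module k W] [Comod k A W] (f : V →ₗ[k] W)
    (hf : Hoch.IsComodHom A f) (S : Submodule k W) (hS : IsSubcomod (k := k) (A := A) S) :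
    IsSubcomod (k := k) (A := A) (S.comap f) := by
  rw [isSubcomod_iff] at hS ⊢
  intro ψ v hv
  change f (dualAct V ψ v) ∈ S
  rw [dualAct_comodHom hf]
  exact hS ψ _ hv

end

section

variable {k : Type u} [Field k] {A : Type v} [AddCommGroup A] [Module k A] [Coalgebra k A]

theorem exists_succ_subcomod
    (hT : ∀ (W : Type v) [AddCommGroup W] [Module k W] [Comod k A W], Module.Finite k W →
      IsSimpleComod k A W → Module.finrank k W = 1)
    (V : Type v) [AddCommGroup V] [Module k V] [cV : Comod k A V] [Module.Finite k V]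
    (F : Submodule k V) (hF : IsSubcomod (k := k) (A := A) F) (hne : F ≠ ⊤) :
    ∃ F' : Submodule k V, IsSubcomod (k := k) (A := A) F' ∧ F ≤ F' ∧
      Module.finrank k F' = Module.finrank k F + 1 := by
  classical
  letI cQ : Comod k A (V ⧸ F) := ComodSub.Comod.quot cV F hF
  have hmk : Hoch.IsComodHom A F.mkQ := ComodSub.isComodHom_mkQ cV F hF
  haveI : Nontrivial (V ⧸ F) := Submodule.Quotient.nontrivial_iff.mpr hne
  obtain ⟨S, hS, hsimple⟩ := exists_simple_subcomod (k := k) (A := A) (V ⧸ F)
  have hrk : Module.finrank k S = 1 :=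
    @hT S _ _ (Groth.Agent.H62.subComod S hS) inferInstance hsimple
  obtain ⟨⟨q, hqS⟩, hq0, hq⟩ := finrank_eq_one_iff'.mp hrk
  obtain ⟨v, rfl⟩ := F.mkQ_surjective q
  have hvF : v ∉ F := by
    intro h
    apply hq0
    apply Subtype.ext
    exact (Submodule.Quotient.mk_eq_zero F).mpr h
  refine ⟨S.comap F.mkQ, isSubcomod_comap F.mkQ hmk S hS, ?_, ?_⟩
  · intro x hx
    change F.mkQ x ∈ S
    rw [Submodule.mkQ_apply, (Submodule.Quotient.mk_eq_zero F).mpr hx]
    exact S.zero_mem
  · have heq : S.comap F.mkQ = F ⊔ Submodule.span k {v} := by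
      apply le_antisymm
      · intro x hx
        have hx' : F.mkQ x ∈ S := hx
        obtain ⟨c, hc⟩ := hq ⟨F.mkQ x, hx'⟩
        have hc' : c • F.mkQ v = F.mkQ x := congrArg Subtype.val hc
        have : x - c • v ∈ F := by
          rw [← Submodule.Quotient.mk_eq_zero F, Submodule.Quotient.mk_sub,
            Submodule.Quotient.mk_smul]
          rw [sub_eq_zero]
          exact hc'.symm
        have hx2 : x = (x - c • v) + c • v := by abel
        rw [hx2]
        exact Submodule.add_mem_sup this
          (Submodule.smul_mem _ _ (Submodule.mem_span_singleton_self v))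
      · apply sup_le
        · intro x hx
          change F.mkQ x ∈ S
          rw [Submodule.mkQ_apply, (Submodule.Quotient.mk_eq_zero F).mpr hx]
          exact S.zero_mem
        · rw [Submodule.span_singleton_le_iff_mem]
          exact hqS
    rw [heq]
    exact Submodule.finrank_sup_span_singleton hvF

theorem exists_flag
    (hT : ∀ (W : Type v) [AddCommGroup W] [Module k W] [Comod k A W], Module.Finite k W →
      IsSimpleComod k A W → Module.finrank k W = 1)
    (V : Type v) [AddCommGroup V] [Module k V] [Comod k A V] [Module.Finite k V] :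
    ∃ F : ℕ → Submodule k V, Monotone F ∧ (∀ i, IsSubcomod (k := k) (A := A) (F i)) ∧
      ∀ i, i ≤ Module.finrank k V → Module.finrank k (F i) = i := by
  classical
  have step : ∀ F : {F : Submodule k V // IsSubcomod (k := k) (A := A) F},
      ∃ F' : {F : Submodule k V // IsSubcomod (k := k) (A := A) F},
        F.1 ≤ F'.1 ∧ (F.1 ≠ ⊤ → Module.finrank k F'.1 = Module.finrank k F.1 + 1) := by
    intro F
    by_cases h : F.1 = ⊤
    · exact ⟨F, le_rfl, fun h' => absurd h h'⟩
    · obtain ⟨F', hF', hle, hrk⟩ := exists_succ_subcomod hT V F.1 F.2 h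
      exact ⟨⟨F', hF'⟩, hle, fun _ => hrk⟩
  choose next hnext using step
  let G : ℕ → {F : Submodule k V // IsSubcomod (k := k) (A := A) F} :=
    fun i => Nat.rec ⟨⊥, isSubcomod_bot⟩ (fun _ F => next F) i
  have hG : ∀ i, G (i + 1) = next (G i) := fun i => rfl
  have hfin : ∀ i, i ≤ Module.finrank k V → Module.finrank k (G i).1 = i := by
    intro i hi
    induction i with
    | zero =>
      change Module.finrank k (⊥ : Submodule k V) = 0
      exact finrank_bot k V
    | succ i ih =>
      have hi' : i ≤ Module.finrank k V := Nat.le_of_succ_le hi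
      have h1 := ih hi'
      have hne : (G i).1 ≠ ⊤ := by
        intro h
        rw [h, finrank_top] at h1
        omega
      rw [hG, (hnext (G i)).2 hne, h1]
  refine ⟨fun i => (G i).1, monotone_nat_of_le_succ (fun i => ?_), fun i => (G i).2, hfin⟩
  change (G i).1 ≤ (G (i + 1)).1
  rw [hG]
  exact (hnext (G i)).1

end

end Groth.Agent.H83
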