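import Mathlib
import Groth.Agent.Lead.Coh.CechExplicit

/-!
Čech cochains: pulling back along a refinement of families, extension by zero from the
complement of an index, element-level bookkeeping.
-/

set_option autoImplicit false
open CategoryTheory Opposite Limits TopologicalSpace
universe u

namespace Groth.Agent.H83.CechFin

open Groth.Agent.Lead.Cech

variable {X : Type u} [TopologicalSpace X] (P : (Opens X)ᵒᵖ ⥤ AddCommGrpCat.{u})

/-- restriction along an inequality of opens. -/
noncomputable abbrev rs {V W : Opens X} (h : V ≤ W) : P.obj (op W) ⟶ P.obj (op V) :=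
  P.map (homOfLE h).op

theorem rs_rs {V W Z : Opens X} (h1 : V ≤ W) (h2 : W ≤ Z) (x : P.obj (op Z)) :
    rs P h1 (rs P h2 x) = rs P (h1.trans h2) x := by
  change (P.map (homOfLE h2).op ≫ P.map (homOfLE h1).op) x = _
  rw [← P.map_comp]
  rfl

theorem rs_self {V : Opens X} (h : V ≤ V) (x : P.obj (op V)) : rs P h x = x := by
  have h1 : homOfLE h = 𝟙 V := Subsingleton.elim _ _
  change P.map (homOfLE h).op x = x
  rw [h1, op_id, P.map_id]
  rfl

section elem

variable {ι : Type u} (U : ι → Opens X)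

theorem d_d_apply (n : ℕ) (x : (K U P).X n) :
    (K U P).d (n + 1) (n + 2) ((K U P).d n (n + 1) x) = 0 := by
  have h := ConcreteCategory.congr_hom ((K U P).d_comp_d n (n + 1) (n + 2)) x
  rw [ConcreteCategory.comp_apply] at h
  exact h

theorem exactAt_succ_of (n : ℕ)
    (h : ∀ c : (K U P).X (n + 1), (K U P).d (n + 1) (n + 2) c = 0 →
      ∃ b : (K U P).X n, (K U P).d n (n + 1) b = c) : (K U P).ExactAt (n + 1) := by
  rw [HomologicalComplex.exactAt_iff' (K U P) n (n + 1) (n + 2) (by simp) (by simp),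
    ShortComplex.ab_exact_iff]
  exact h

theorem exists_of_exactAt_succ (n : ℕ) (hex : (K U P).ExactAt (n + 1)) (c : (K U P).X (n + 1))
    (hc : (K U P).d (n + 1) (n + 2) c = 0) : ∃ b : (K U P).X n, (K U P).d n (n + 1) b = c := by
  rw [HomologicalComplex.exactAt_iff' (K U P) n (n + 1) (n + 2) (by simp) (by simp),
    ShortComplex.ab_exact_iff] at hex
  exact hex c hc

theorem exactAt_zero_of (h : ∀ c : (K U P).X 0, (K U P).d 0 1 c = 0 → c = 0) :
    (K U P).ExactAt 0 := by
  rw [HomologicalComplex.exactAt_iff' (K U P) 0 0 1 (by simp) (by simp),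
    ShortComplex.ab_exact_iff]
  intro c hc
  refine ⟨0, ?_⟩
  rw [map_zero]
  exact (h c hc).symm

end elem

section pull

variable {ι κ : Type u} (U : ι → Opens X) (U' : κ → Opens X) (g : κ → ι)
  (hg : ∀ k, U' k ≤ U (g k))

include hg in
theorem cechOpen_le_pull {n : ℕ} (τ : Fin (n + 1) → κ) : cechOpen U' τ ≤ cechOpen U (g ∘ τ) :=
  le_cechOpen U _ _ (fun b => (cechOpen_le U' τ b).trans (hg (τ b)))

/-- pull back Čech cochains along a refinement `U' k ≤ U (g k)`. -/
noncomputable def pull (n : ℕ) : (K U P).X n ⟶ (K U' P).X n :=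
  Pi.lift (fun τ : Fin (n + 1) → κ =>
    proj U P n (g ∘ τ) ≫ P.map (homOfLE (cechOpen_le_pull U U' g hg τ)).op)

theorem pull_proj (n : ℕ) (τ : Fin (n + 1) → κ) :
    pull P U U' g hg n ≫ proj U' P n τ =
      proj U P n (g ∘ τ) ≫ P.map (homOfLE (cechOpen_le_pull U U' g hg τ)).op := by
  change Pi.lift _ ≫ Pi.π _ τ = _
  exact Pi.lift_π _ τ

theorem proj_pull (n : ℕ) (τ : Fin (n + 1) → κ) (x : (K U P).X n) :
    proj U' P n τ (pull P U U' g hg n x) =
      rs P (cechOpen_le_pull U U' g hg τ) (proj U P n (g ∘ τ) x) := by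
  have h := ConcreteCategory.congr_hom (pull_proj P U U' g hg n τ) x
  rw [ConcreteCategory.comp_apply, ConcreteCategory.comp_apply] at h
  exact h

theorem d_pull (n : ℕ) (x : (K U P).X n) :
    (K U' P).d n (n + 1) (pull P U U' g hg n x) =
      pull P U U' g hg (n + 1) ((K U P).d n (n + 1) x) := by
  apply ext_elem
  intro τ
  rw [d_apply, proj_pull, d_apply, map_sum]
  refine Finset.sum_congr rfl (fun j _ => ?_)
  rw [map_zsmul, proj_pull]
  congr 1
  change rs P _ (rs P _ _) = rs P _ (rs P _ _)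
  rw [rs_rs, rs_rs]
  rfl

end pull

end Groth.Agent.H83.CechFin
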