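import Mathlib
import Groth.Agent.H83.CechFin1

/-!
Čech cochains: extension by zero from the complement of an index, and the lifting step used in
the induction on the number of indices.
-/

set_option autoImplicit false
open CategoryTheory Opposite Limits TopologicalSpace
universe u

namespace Groth.Agent.H83.CechFin

open Groth.Agent.Lead.Cech

variable {X : Type u} [TopologicalSpace X] (P : (Opens X)ᵒᵖ ⥤ AddCommGrpCat.{u})
variable {ι : Type u} (U : ι → Opens X) (a : ι)

/-- the family restricted to the complement of an index. -/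
def sub : {i : ι // i ≠ a} → Opens X := fun i => U i.1

/-- the family intersected with `U a`. -/
def cap : ι → Opens X := fun i => U i ⊓ U a

theorem sub_le (k : {i : ι // i ≠ a}) : sub U a k ≤ U k.1 := le_rfl

theorem cap_le (i : ι) : cap U a i ≤ U (id i) := inf_le_left

/-- restriction to the tuples avoiding `a`. -/
noncomputable def res (n : ℕ) : (K U P).X n ⟶ (K (sub U a) P).X n :=
  pull P U (sub U a) Subtype.val (sub_le U a) n

/-- restriction to the smaller family `U i ⊓ U a`. -/
noncomputable def rho (n : ℕ) : (K U P).X n ⟶ (K (cap U a) P).X n :=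
  pull P U (cap U a) id (cap_le U a) n

/-- a cochain vanishes on the tuples avoiding `a`. -/
def VanishOff {n : ℕ} (x : (K U P).X n) : Prop :=
  ∀ σ : Fin (n + 1) → ι, (∀ j, σ j ≠ a) → proj U P n σ x = 0

theorem vanishOff_zero (n : ℕ) : VanishOff P U a (0 : (K U P).X n) := by
  intro σ _
  rw [map_zero]

theorem res_eq_zero_of_vanishOff {n : ℕ} (x : (K U P).X n) (hx : VanishOff P U a x) :
    res P U a n x = 0 := by
  apply ext_elem
  intro τ
  have h0 : proj U P n (Subtype.val ∘ τ) x = 0 := hx _ (fun j => (τ j).2)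
  rw [res, proj_pull, map_zero, h0, map_zero]

theorem vanishOff_of_res_eq_zero {n : ℕ} (x : (K U P).X n) (hx : res P U a n x = 0) :
    VanishOff P U a x := by
  intro σ hσ
  have h := congrArg (proj (sub U a) P n (fun j => ⟨σ j, hσ j⟩)) hx
  rw [res, proj_pull, map_zero] at h
  have h2 : cechOpen U σ ≤ cechOpen (sub U a) (fun j => (⟨σ j, hσ j⟩ : {i : ι // i ≠ a})) :=
    le_cechOpen (sub U a) _ _ (fun b => cechOpen_le U σ b)
  have h3 := congrArg (rs P h2) h
  rw [rs_rs, map_zero] at h3
  rw [← h3]
  exact (rs_self P _ _).symm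

open Classical in
/-- extension by zero of a cochain on the tuples avoiding `a`. -/
noncomputable def ext (n : ℕ) : (K (sub U a) P).X n ⟶ (K U P).X n :=
  Pi.lift (fun σ : Fin (n + 1) → ι =>
    if h : ∀ j, σ j ≠ a then
      proj (sub U a) P n (fun j => ⟨σ j, h j⟩) ≫
        P.map (homOfLE (le_cechOpen (sub U a) (fun j => (⟨σ j, h j⟩ : {i : ι // i ≠ a}))
          (cechOpen U σ) (fun b => cechOpen_le U σ b))).op
    else 0)

theorem proj_ext_of (n : ℕ) (σ : Fin (n + 1) → ι) (h : ∀ j, σ j ≠ a)
    (y : (K (sub U a) P).X n) :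
    proj U P n σ (ext P U a n y) =
      rs P (le_cechOpen (sub U a) (fun j => (⟨σ j, h j⟩ : {i : ι // i ≠ a}))
          (cechOpen U σ) (fun b => cechOpen_le U σ b))
        (proj (sub U a) P n (fun j => ⟨σ j, h j⟩) y) := by
  have h1 : ext P U a n ≫ proj U P n σ =
      proj (sub U a) P n (fun j => ⟨σ j, h j⟩) ≫
        P.map (homOfLE (le_cechOpen (sub U a) (fun j => (⟨σ j, h j⟩ : {i : ι // i ≠ a}))
          (cechOpen U σ) (fun b => cechOpen_le U σ b))).op := by
    change Pi.lift _ ≫ Pi.π _ σ = _
    rw [Pi.lift_π, dif_pos h]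
    rfl
  have h2 := ConcreteCategory.congr_hom h1 y
  rw [ConcreteCategory.comp_apply, ConcreteCategory.comp_apply] at h2
  exact h2

theorem res_ext (n : ℕ) (y : (K (sub U a) P).X n) : res P U a n (ext P U a n y) = y := by
  apply ext_elem
  intro τ
  rw [res, proj_pull, proj_ext_of P U a n (Subtype.val ∘ τ) (fun j => (τ j).2), rs_rs]
  exact rs_self P _ _

theorem d_res (n : ℕ) (x : (K U P).X n) :
    (K (sub U a) P).d n (n + 1) (res P U a n x) = res P U a (n + 1) ((K U P).d n (n + 1) x) :=
  d_pull P U (sub U a) Subtype.val (sub_le U a) n x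

theorem d_rho (n : ℕ) (x : (K U P).X n) :
    (K (cap U a) P).d n (n + 1) (rho P U a n x) = rho P U a (n + 1) ((K U P).d n (n + 1) x) :=
  d_pull P U (cap U a) id (cap_le U a) n x

theorem vanishOff_rho {n : ℕ} (x : (K U P).X n) (hx : VanishOff P U a x) :
    VanishOff P (cap U a) a (rho P U a n x) := by
  intro σ hσ
  rw [rho, proj_pull]
  have : proj U P n (id ∘ σ) x = 0 := hx σ hσ
  rw [this, map_zero]

theorem cechOpen_le_cap {n : ℕ} (τ : Fin (n + 1) → ι) (h : ∃ j, τ j = a) :
    cechOpen U τ ≤ cechOpen (cap U a) τ := by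
  obtain ⟨j, hj⟩ := h
  refine le_cechOpen (cap U a) τ _ (fun b => le_inf (cechOpen_le U τ b) ?_)
  exact (cechOpen_le U τ j).trans (le_of_eq (congrArg U hj))

open Classical in
/-- transfer a cochain for the family `U i ⊓ U a` to the family `U`, on the tuples containing
`a`, and by zero elsewhere. -/
noncomputable def lift (n : ℕ) : (K (cap U a) P).X n ⟶ (K U P).X n :=
  Pi.lift (fun τ : Fin (n + 1) → ι =>
    if h : ∃ j, τ j = a then
      proj (cap U a) P n τ ≫ P.map (homOfLE (cechOpen_le_cap U a τ h)).op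
    else 0)

theorem proj_lift_of (n : ℕ) (τ : Fin (n + 1) → ι) (h : ∃ j, τ j = a)
    (w : (K (cap U a) P).X n) :
    proj U P n τ (lift P U a n w) = rs P (cechOpen_le_cap U a τ h) (proj (cap U a) P n τ w) := by
  have h1 : lift P U a n ≫ proj U P n τ =
      proj (cap U a) P n τ ≫ P.map (homOfLE (cechOpen_le_cap U a τ h)).op := by
    change Pi.lift _ ≫ Pi.π _ τ = _
    rw [Pi.lift_π, dif_pos h]
    rfl
  have h2 := ConcreteCategory.congr_hom h1 w
  rw [ConcreteCategory.comp_apply, ConcreteCategory.comp_apply] at h2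
  exact h2

theorem proj_lift_of_not (n : ℕ) (τ : Fin (n + 1) → ι) (h : ¬ ∃ j, τ j = a)
    (w : (K (cap U a) P).X n) : proj U P n τ (lift P U a n w) = 0 := by
  have h1 : lift P U a n ≫ proj U P n τ = 0 := by
    change Pi.lift _ ≫ Pi.π _ τ = _
    rw [Pi.lift_π, dif_neg h]
    rfl
  have h2 := ConcreteCategory.congr_hom h1 w
  rw [ConcreteCategory.comp_apply] at h2
  exact h2

/-- the key lifting step. -/
theorem d_lift (n : ℕ) (x : (K U P).X (n + 1)) (hx : VanishOff P U a x)
    (w : (K (cap U a) P).X n) (hw : VanishOff P (cap U a) a w)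
    (hd : (K (cap U a) P).d n (n + 1) w = rho P U a (n + 1) x) :
    (K U P).d n (n + 1) (lift P U a n w) = x := by
  apply ext_elem
  intro σ
  rw [d_apply]
  by_cases hσ : ∃ j, σ j = a
  · have h1 : ∀ j : Fin (n + 2),
        P.map (homOfLE (cechOpen_le_face U σ j)).op
          (proj U P n (σ ∘ j.succAbove) (lift P U a n w)) =
        rs P (cechOpen_le_cap U a σ hσ)
          (P.map (homOfLE (cechOpen_le_face (cap U a) σ j)).op
            (proj (cap U a) P n (σ ∘ j.succAbove) w)) := by
      intro j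
      by_cases hj : ∃ b, (σ ∘ j.succAbove) b = a
      · rw [proj_lift_of P U a n _ hj]
        change rs P _ (rs P _ _) = rs P _ (rs P _ _)
        rw [rs_rs, rs_rs]
      · rw [proj_lift_of_not P U a n _ hj]
        have h0 : proj (cap U a) P n (σ ∘ j.succAbove) w = 0 := by
          apply hw
          intro b hb
          exact hj ⟨b, hb⟩
        rw [h0, map_zero, map_zero, map_zero]
    have h2 := congrArg (proj (cap U a) P (n + 1) σ) hd
    rw [d_apply, rho, proj_pull] at h2
    have h3 := congrArg (rs P (cechOpen_le_cap U a σ hσ)) h2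
    rw [map_sum, rs_rs] at h3
    have h4 : rs P ((cechOpen_le_cap U a σ hσ).trans
        (cechOpen_le_pull U (cap U a) id (cap_le U a) σ)) (proj U P (n + 1) (id ∘ σ) x) =
        proj U P (n + 1) σ x := rs_self P _ _
    rw [h4] at h3
    rw [← h3]
    refine Finset.sum_congr rfl (fun j _ => ?_)
    rw [h1 j, map_zsmul]
  · have h1 : proj U P (n + 1) σ x = 0 := by
      apply hx
      intro j hj
      exact hσ ⟨j, hj⟩
    rw [h1]
    apply Finset.sum_eq_zero
    intro j _
    have hj : ¬ ∃ b, (σ ∘ j.succAbove) b = a := by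
      rintro ⟨b, hb⟩
      exact hσ ⟨_, hb⟩
    rw [proj_lift_of_not P U a n _ hj, map_zero, smul_zero]

end Groth.Agent.H83.CechFin
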