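import Mathlib
import Groth.Agent.H83.CechFin2
import Groth.Agent.S0885

/-!
Čech cohomology of a presheaf for a family indexed by a finite set with `n` elements vanishes in
degrees `≥ n` (full complex of ordered cochains), by induction on `n`.
-/

set_option autoImplicit false
open CategoryTheory Opposite Limits TopologicalSpace
universe u

namespace Groth.Agent.H83.CechFin

open Groth.Agent.Lead.Cech

variable {X : TopCat.{u}} (P : (Opens X)ᵒᵖ ⥤ AddCommGrpCat.{u})

/-- being a coboundary (in degree `0`: being zero). -/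
def Cob {ι : Type u} (U : ι → Opens X) : (q : ℕ) → (K U P).X q → Prop
  | 0, c => c = 0
  | (m + 1), c => ∃ b : (K U P).X m, (K U P).d m (m + 1) b = c

/-- vanishing of Čech cohomology in degree `q`, on elements. -/
def Van {ι : Type u} (U : ι → Opens X) (q : ℕ) : Prop :=
  ∀ c : (K U P).X q, (K U P).d q (q + 1) c = 0 → Cob P U q c

theorem cob_add {ι : Type u} (U : ι → Opens X) (q : ℕ) (c c' : (K U P).X q)
    (h : Cob P U q c) (h' : Cob P U q c') : Cob P U q (c + c') := by
  cases q with
  | zero =>
    change c + c' = 0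
    have h1 : c = 0 := h
    have h2 : c' = 0 := h'
    rw [h1, h2, add_zero]
  | succ m =>
    obtain ⟨b, hb⟩ := h
    obtain ⟨b', hb'⟩ := h'
    exact ⟨b + b', by rw [map_add, hb, hb']⟩

theorem isZero_homology_of_van {ι : Type u} (U : ι → Opens X) (q : ℕ) (h : Van P U q) :
    IsZero ((K U P).homology q) := by
  cases q with
  | zero => exact (exactAt_zero_of P U (fun c hc => h c hc)).isZero_homology
  | succ m => exact (exactAt_succ_of P U m (fun c hc => h c hc)).isZero_homology

theorem kill {ι : Type u} (U : ι → Opens X) (a : ι) (q : ℕ) (hV : Van P (sub U a) q)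
    (x : (K U P).X q) (hx : VanishOff P U a ((K U P).d q (q + 1) x)) :
    ∃ x₁ : (K U P).X q, (K U P).d q (q + 1) x₁ = (K U P).d q (q + 1) x ∧
      VanishOff P U a x₁ ∧ Cob P U q (x - x₁) := by
  have h1 : (K (sub U a) P).d q (q + 1) (res P U a q x) = 0 := by
    rw [d_res]
    exact res_eq_zero_of_vanishOff P U a _ hx
  have h2 := hV _ h1
  cases q with
  | zero =>
    have h3 : res P U a 0 x = 0 := h2
    refine ⟨x, rfl, vanishOff_of_res_eq_zero P U a x h3, ?_⟩
    change x - x = 0
    exact sub_self x
  | succ m =>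
    obtain ⟨y', hy'⟩ := h2
    refine ⟨x - (K U P).d m (m + 1) (ext P U a m y'), ?_, ?_, ⟨ext P U a m y', ?_⟩⟩
    · rw [map_sub, d_d_apply, sub_zero]
    · apply vanishOff_of_res_eq_zero
      rw [map_sub, ← d_res, res_ext, hy', sub_self]
    · rw [sub_sub_cancel]

theorem cap_exact {ι : Type u} (U : ι → Opens X) (a : ι) (m : ℕ)
    (c : (K (cap U a) P).X (m + 1)) (hc : (K (cap U a) P).d (m + 1) (m + 2) c = 0) :
    ∃ b : (K (cap U a) P).X m, (K (cap U a) P).d m (m + 1) b = c := by
  have hi : cap U a a = iSup (cap U a) := by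
    apply le_antisymm (le_iSup (cap U a) a)
    apply iSup_le
    intro i
    exact le_inf inf_le_right inf_le_right
  obtain ⟨e⟩ := Groth.Agent.S0885.result P (cap U a) a hi
  have hz : IsZero ((K (cap U a) P).homology (m + 1)) :=
    IsZero.of_iso ((CochainComplex.exactAt_succ_single_obj _ m).isZero_homology)
      (e.toHomologyIso (m + 1)).symm
  have hex : (K (cap U a) P).ExactAt (m + 1) :=
    (HomologicalComplex.exactAt_iff_isZero_homology _ _).mpr hz
  exact exists_of_exactAt_succ P _ m hex c hc

theorem van_of_card : ∀ (n : ℕ) (ι : Type u) [Finite ι] (U : ι → Opens X),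
    Nat.card ι = n → ∀ q, n ≤ q → Van P U q := by
  intro n
  induction n with
  | zero =>
    intro ι _ U hcard q _ c _
    have hemp : IsEmpty ι := by
      rcases Nat.card_eq_zero.mp hcard with h | h
      · exact h
      · exact (not_finite ι).elim
    have hc0 : c = 0 := by
      apply ext_elem
      intro σ
      exact (hemp.false (σ 0)).elim
    cases q with
    | zero => exact hc0
    | succ m => exact ⟨0, by rw [map_zero, hc0]⟩
  | succ n ih =>
    intro ι _ U hcard q hq c hc
    classical
    have hne : Nonempty ι := by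
      have : 0 < Nat.card ι := by omega
      exact (Nat.card_pos_iff.mp this).1
    obtain ⟨a⟩ := hne
    have hcard' : Nat.card {i : ι // i ≠ a} = n := by
      have h1 := Nat.card_congr (Equiv.optionSubtypeNe a)
      rw [Finite.card_option] at h1
      omega
    obtain ⟨m, rfl⟩ : ∃ m, q = m + 1 := ⟨q - 1, by omega⟩
    have hm : n ≤ m := by omega
    -- first reduction: make the cocycle vanish off `a`
    have hx0 : VanishOff P U a ((K U P).d (m + 1) (m + 2) c) := by
      rw [hc]
      exact vanishOff_zero P U a _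
    obtain ⟨x₁, hd1, hv1, hc1⟩ := kill P U a (m + 1)
      (ih {i : ι // i ≠ a} (sub U a) hcard' (m + 1) (by omega)) c hx0
    -- pass to the family `U i ⊓ U a`
    have hz : (K (cap U a) P).d (m + 1) (m + 2) (rho P U a (m + 1) x₁) = 0 := by
      rw [d_rho, hd1, hc, map_zero]
    obtain ⟨w, hw⟩ := cap_exact P U a m _ hz
    have hxw : VanishOff P (cap U a) a ((K (cap U a) P).d m (m + 1) w) := by
      rw [hw]
      exact vanishOff_rho P U a x₁ hv1
    obtain ⟨w₁, hdw, hvw, _⟩ := kill P (cap U a) a m
      (ih {i : ι // i ≠ a} (sub (cap U a) a) hcard' m hm) w hxw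
    have hlift := d_lift P U a m x₁ hv1 w₁ hvw (hdw.trans hw)
    have hx1 : Cob P U (m + 1) x₁ := ⟨lift P U a m w₁, hlift⟩
    have := cob_add P U (m + 1) _ _ hc1 hx1
    rwa [sub_add_cancel] at this

theorem isZero_cechH {ι : Type u} [Finite ι] (U : ι → Opens X) (q : ℕ) (hq : Nat.card ι ≤ q) :
    IsZero (((cechComplexFunctor U).obj P).homology q) :=
  isZero_homology_of_van P U q (van_of_card P (Nat.card ι) ι U rfl q hq)

end Groth.Agent.H83.CechFin
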