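import Groth.Agent.H83.RelHilbertPoly
import Groth.Agent.H64.Shear

/-! A Noetherian algebra with an action of a linearly reductive group of finite type is of finite
type over its ring of invariants: apply the relative finiteness theorem to the coaction
`A → A ⊗ H`, the target carrying the cofree comodule structure. -/

set_option autoImplicit false
universe u v w
open TensorProduct

namespace Groth.Agent.H83.CofreeFT

open HopfRep

section

variable (k : Type u) [Field k] (H : Type v) [CommRing H] [HopfAlgebra k H]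
variable (A : Type w) [CommRing A] [Algebra k A]

/-- the cofree comodule structure on `A ⊗ H` -/
@[reducible] noncomputable def cofree : HopfRep.Comod k H (A ⊗[k] H) where
  coact := Hoch.Ind.coactAux k H A
  coassoc := (Hoch.Ind.comod k H A).coassoc
  counit_comp := (Hoch.Ind.comod k H A).counit_comp

/-- the cofree coaction as an algebra map -/
noncomputable def Psi : A ⊗[k] H →ₐ[k] (A ⊗[k] H) ⊗[k] H :=
  ((Algebra.TensorProduct.assoc k k k A H H).symm : _ ≃ₐ[k] _).toAlgHom.comp
    (Algebra.TensorProduct.map (AlgHom.id k A) (Bialgebra.comulAlgHom k H))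

theorem assoc_symm_eq (z : A ⊗[k] (H ⊗[k] H)) :
    (Algebra.TensorProduct.assoc k k k A H H).symm z = (TensorProduct.assoc k A H H).symm z := by
  induction z with
  | zero => simp
  | tmul a w =>
    induction w with
    | zero => simp
    | tmul b c => rfl
    | add x y hx hy => rw [TensorProduct.tmul_add, map_add, map_add, hx, hy]
  | add x y hx hy => rw [map_add, map_add, hx, hy]

theorem Psi_apply (x : A ⊗[k] H) : Psi k H A x = Hoch.Ind.coactAux k H A x := by
  induction x with
  | zero => simp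
  | tmul a h =>
    rw [Hoch.Ind.coactAux_tmul, ← assoc_symm_eq]
    rfl
  | add x y hx hy => rw [map_add, map_add, hx, hy]

theorem isCoactAlg_cofree : @GLin.IsCoactAlg k _ H _ _ (A ⊗[k] H) _ _ (cofree k H A) :=
  let _ := cofree k H A
  { coact_one := by
      change Hoch.Ind.coactAux k H A 1 = 1
      rw [← Psi_apply, map_one]
    coact_mul := fun f g => by
      change Hoch.Ind.coactAux k H A (f * g) =
        Hoch.Ind.coactAux k H A f * Hoch.Ind.coactAux k H A g
      rw [← Psi_apply, ← Psi_apply, ← Psi_apply, map_mul] }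

variable [HopfRep.Comod k H A] [GLin.IsCoactAlg k H A]

theorem coact_isComodHom :
    @Hoch.IsComodHom k _ H _ _ _ A _ _ _ (A ⊗[k] H) _ _ (cofree k H A)
      (GLin.coactAlgHom k H A).toLinearMap := by
  letI := cofree k H A
  unfold Hoch.IsComodHom
  have h := Comod.coassoc (k := k) (A := H) (V := A)
  apply LinearMap.ext
  intro a
  have h2 := LinearMap.congr_fun h a
  simp only [LinearMap.comp_apply, LinearEquiv.coe_coe] at h2
  change Hoch.Ind.coactAux k H A (Comod.coact (k := k) (A := H) a) =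
    (Comod.coact (k := k) (A := H)).rTensor H (Comod.coact (k := k) (A := H) a)
  unfold Hoch.Ind.coactAux
  rw [LinearMap.comp_apply, ← h2]
  simp

/-- `z * (1 ⊗ b) = Σ z₀ ⊗ z₁ b` -/
theorem mul_one_tmul (z : A ⊗[k] H) (b : H) :
    z * ((1 : A) ⊗ₜ[k] b) =
      (LinearMap.mul' k H).lTensor A (TensorProduct.assoc k A H H (z ⊗ₜ[k] b)) := by
  induction z with
  | zero => simp
  | tmul a h => simp
  | add x y hx hy => rw [add_mul, hx, hy, TensorProduct.add_tmul, map_add, map_add]

/-- `a ⊗ 1` is a combination of products `ρ(a₀) (1 ⊗ S a₁)` -/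
noncomputable def Theta : A ⊗[k] H →ₐ[k] A ⊗[k] H :=
  Algebra.TensorProduct.productMap (GLin.coactAlgHom k H A)
    ((Algebra.TensorProduct.includeRight : H →ₐ[k] A ⊗[k] H).comp (HopfAlgebra.antipodeAlgHom k H))

theorem Theta_tmul (a : A) (h : H) :
    Theta k H A (a ⊗ₜ[k] h) = Comod.coact (k := k) (A := H) a *
      ((1 : A) ⊗ₜ[k] HopfAlgebra.antipode k h) := by
  simp [Theta]

theorem Theta_eq (x : A ⊗[k] H) :
    Theta k H A x = Groth.Agent.H64.sh k H A ((HopfAlgebra.antipode k).lTensor A x) := by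
  induction x with
  | zero => simp
  | tmul a h =>
    rw [Theta_tmul, LinearMap.lTensor_tmul, Groth.Agent.H64.sh, Groth.Agent.H64.TT_tmul,
      mul_one_tmul]
  | add x y hx hy => rw [map_add, map_add, map_add, hx, hy]

theorem sh'_tmul_one (a : A) :
    Groth.Agent.H64.sh' k H A (a ⊗ₜ[k] (1 : H)) =
      (HopfAlgebra.antipode k).lTensor A (Comod.coact (k := k) (A := H) a) := by
  rw [Groth.Agent.H64.sh', Groth.Agent.H64.TT_tmul]
  generalize Comod.coact (k := k) (A := H) a = z
  induction z with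
  | zero => simp
  | tmul a h => simp [Groth.Agent.H64.smulS]
  | add x y hx hy => rw [TensorProduct.add_tmul, map_add, map_add, map_add, hx, hy]

theorem Theta_coact (a : A) :
    Theta k H A (Comod.coact (k := k) (A := H) a) = a ⊗ₜ[k] (1 : H) := by
  rw [Theta_eq, ← sh'_tmul_one, ← LinearMap.comp_apply, Groth.Agent.H64.sh_comp_sh',
    LinearMap.id_apply]

theorem adjoin_eq_top (sH : Finset H) (hsH : Algebra.adjoin k (sH : Set H) = ⊤) :
    Algebra.adjoin k (Set.range (GLin.coactAlgHom k H A) ∪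
      ((fun h => ((1 : A) ⊗ₜ[k] h : A ⊗[k] H)) '' (sH : Set H))) = ⊤ := by
  classical
  obtain ⟨S, hS⟩ : ∃ S : Subalgebra k (A ⊗[k] H), S =
      Algebra.adjoin k (Set.range (GLin.coactAlgHom k H A) ∪
      ((fun h => ((1 : A) ⊗ₜ[k] h : A ⊗[k] H)) '' (sH : Set H))) :=
    ⟨_, rfl⟩
  rw [← hS]
  have h1 : ∀ h : H, ((1 : A) ⊗ₜ[k] h : A ⊗[k] H) ∈ S := by
    have : (⊤ : Subalgebra k H) ≤
        S.comap (Algebra.TensorProduct.includeRight : H →ₐ[k] A ⊗[k] H) := by
      rw [← hsH]
      apply Algebra.adjoin_le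
      intro h hh
      change ((1 : A) ⊗ₜ[k] h : A ⊗[k] H) ∈ S
      rw [hS]
      apply Algebra.subset_adjoin
      right
      exact ⟨h, hh, rfl⟩
    exact fun h => this (Algebra.mem_top : h ∈ (⊤ : Subalgebra k H))
  have h2 : ∀ a : A, Comod.coact (k := k) (A := H) a ∈ S := by
    intro a
    rw [hS]
    apply Algebra.subset_adjoin
    left
    exact ⟨a, rfl⟩
  have h3 : ∀ x : A ⊗[k] H, Theta k H A x ∈ S := by
    intro x
    induction x with
    | zero => rw [map_zero]; exact Subalgebra.zero_mem _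
    | tmul a h => rw [Theta_tmul]; exact Subalgebra.mul_mem _ (h2 a) (h1 _)
    | add x y hx hy => rw [map_add]; exact Subalgebra.add_mem _ hx hy
  have h4 : ∀ a : A, (a ⊗ₜ[k] (1 : H) : A ⊗[k] H) ∈ S := by
    intro a
    rw [← Theta_coact]
    exact h3 _
  rw [eq_top_iff]
  have h5 : ∀ x : A ⊗[k] H, x ∈ S := by
    intro x
    induction x with
    | zero => exact Subalgebra.zero_mem _
    | tmul a h =>
      have : (a ⊗ₜ[k] h : A ⊗[k] H) = (a ⊗ₜ[k] (1 : H)) * ((1 : A) ⊗ₜ[k] h) := by simp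
      rw [this]
      exact Subalgebra.mul_mem _ (h4 a) (h1 h)
    | add x y hx hy => exact Subalgebra.add_mem _ hx hy
  exact fun x _ => h5 x

end

section Final

variable (k : Type u) [Field k] (H : Type v) [CommRing H] [HopfAlgebra k H] [Algebra.FiniteType k H]
variable (A : Type w) [CommRing A] [Algebra k A] [IsNoetherianRing A]
  [HopfRep.Comod k H A] [GLin.IsCoactAlg k H A]

theorem finiteType_over_invariants (hG : HopfRep.IsLinearlyReductive k H) :
    Algebra.FiniteType ↥(GLin.invariants k H A) A := by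
  classical
  obtain ⟨sH, hsH⟩ := (Algebra.FiniteType.out : (⊤ : Subalgebra k H).FG)
  let _ : HopfRep.Comod k H (A ⊗[k] H) := Groth.Agent.H83.CofreeFT.cofree k H A
  have hCA : GLin.IsCoactAlg k H (A ⊗[k] H) := Groth.Agent.H83.CofreeFT.isCoactAlg_cofree k H A
  have hfg : Algebra.adjoin k (Set.range (GLin.coactAlgHom k H A) ∪
      ((sH.image fun h => ((1 : A) ⊗ₜ[k] h : A ⊗[k] H) : Finset (A ⊗[k] H)) : Set (A ⊗[k] H))) = ⊤ := by
    rw [Finset.coe_image]
    exact Groth.Agent.H83.CofreeFT.adjoin_eq_top k H A sH hsH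
  obtain ⟨s, hs⟩ := Groth.Agent.H83.RelHilbertPoly.relHilbert' k H A (A ⊗[k] H) hG
    (GLin.coactAlgHom k H A) (Groth.Agent.H83.CofreeFT.coact_isComodHom k H A) _ hfg
  -- the counit map `A ⊗ H → A`
  obtain ⟨ε', hε'⟩ : ∃ ε' : A ⊗[k] H →ₐ[k] A, ε' =
      ((Algebra.TensorProduct.rid k k A : A ⊗[k] k ≃ₐ[k] A) : A ⊗[k] k →ₐ[k] A).comp
        (Algebra.TensorProduct.map (AlgHom.id k A) (Bialgebra.counitAlgHom k H)) := ⟨_, rfl⟩
  have hε1 : ∀ a : A, ε' (a ⊗ₜ[k] (1 : H)) = a := by
    intro a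
    rw [hε']
    simp
  have hε2 : ∀ x : A ⊗[k] H, ε' x =
      TensorProduct.rid k A ((Coalgebra.counit (R := k) (A := H)).lTensor A x) := by
    intro x
    rw [hε']
    induction x with
    | zero => simp
    | tmul a h => simp
    | add x y hx hy => simp only [map_add, hx, hy]
  have hε3 : ∀ a : A, ε' (HopfRep.Comod.coact (k := k) (A := H) a) = a := by
    intro a
    rw [hε2]
    have h2 := LinearMap.congr_fun (HopfRep.Comod.counit_comp (k := k) (A := H) (V := A)) a
    simp only [LinearMap.comp_apply, LinearMap.flip_apply, TensorProduct.mk_apply] at h2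
    rw [h2]
    simp
  refine ⟨⟨s.image ε', ?_⟩⟩
  rw [eq_top_iff]
  intro a _
  have h1 : (a ⊗ₜ[k] (1 : H) : A ⊗[k] H) ∈ (GLin.invariants k H (A ⊗[k] H) : Set (A ⊗[k] H)) := by
    change Hoch.Ind.coactAux k H A (a ⊗ₜ[k] (1 : H)) = (a ⊗ₜ[k] (1 : H)) ⊗ₜ[k] (1 : H)
    rw [Hoch.Ind.coactAux_tmul, Bialgebra.comul_one, Algebra.TensorProduct.one_def]
    rfl
  have h2 := hs h1
  have h3 : ε' (a ⊗ₜ[k] (1 : H)) ∈ (Algebra.adjoin k (⇑(GLin.coactAlgHom k H A) ''
      ↑(GLin.invariants k H A) ∪ (s : Set (A ⊗[k] H)))).map ε' := ⟨_, h2, rfl⟩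
  rw [hε1, AlgHom.map_adjoin] at h3
  have hle : Algebra.adjoin k (⇑ε' '' (⇑(GLin.coactAlgHom k H A) ''
      ↑(GLin.invariants k H A) ∪ (s : Set (A ⊗[k] H)))) ≤
      (Algebra.adjoin ↥(GLin.invariants k H A) ((s.image ε' : Finset A) : Set A)).restrictScalars k := by
    apply Algebra.adjoin_le
    rintro _ ⟨x, (⟨b, hb, rfl⟩ | hx), rfl⟩
    · rw [GLin.coactAlgHom_apply, hε3]
      exact Subalgebra.algebraMap_mem
        (Algebra.adjoin ↥(GLin.invariants k H A) ((s.image ε' : Finset A) : Set A)) ⟨b, hb⟩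
    · apply Algebra.subset_adjoin
      exact Finset.mem_coe.mpr (Finset.mem_image_of_mem _ hx)
  exact hle h3

end Final

end Groth.Agent.H83.CofreeFT
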