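import Groth.Prelude.Def_Conn
import Mathlib.LinearAlgebra.TensorProduct.Basis
import Mathlib.LinearAlgebra.FreeModule.Basic

set_option autoImplicit false
universe v u
open TensorProduct

namespace Groth.Agent.H83

section Key

variable {B Ω X Y : Type u} [CommRing B]
  [AddCommGroup Ω] [Module B Ω]
  [AddCommGroup X] [Module B X] [AddCommGroup Y] [Module B Y]

/-- naturality of the coordinate extraction with respect to evaluation -/
theorem coord_apply_nat {κ : Type*} (𝒞 : Module.Basis κ B Ω) (i : κ) (e : X)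
    (x : (X →ₗ[B] Y) ⊗[B] Ω) :
    (TensorProduct.rid B (X →ₗ[B] Y) ((𝒞.coord i).lTensor _ x)) e =
      TensorProduct.rid B Y ((𝒞.coord i).lTensor _
        (TensorProduct.map (LinearMap.applyₗ e) LinearMap.id x)) := by
  induction x using TensorProduct.induction_on with
  | zero => simp
  | tmul ψ ω => simp
  | add x y hx hy =>
    simp only [map_add, LinearMap.add_apply, hx, hy]

/-- An element of `Hom(X,Y) ⊗ Ω` (with `Ω` free) all of whose evaluations vanish is zero. -/
theorem eq_zero_of_forall_apply_of_basis {κ : Type*} (𝒞 : Module.Basis κ B Ω)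
    (x : (X →ₗ[B] Y) ⊗[B] Ω)
    (h : ∀ e : X, TensorProduct.map (LinearMap.applyₗ e) (LinearMap.id : Ω →ₗ[B] Ω) x = 0) :
    x = 0 := by
  classical
  apply (TensorProduct.equivFinsuppOfBasisRight 𝒞).injective
  rw [map_zero]
  ext i e
  rw [TensorProduct.equivFinsuppOfBasisRight_apply, coord_apply_nat, h e]
  simp

theorem eq_zero_of_forall_apply [Module.Free B Ω]
    (x : (X →ₗ[B] Y) ⊗[B] Ω)
    (h : ∀ e : X, TensorProduct.map (LinearMap.applyₗ e) (LinearMap.id : Ω →ₗ[B] Ω) x = 0) :
    x = 0 :=
  eq_zero_of_forall_apply_of_basis (Module.Free.chooseBasis B Ω) x h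

theorem eq_of_forall_apply [Module.Free B Ω]
    (x y : (X →ₗ[B] Y) ⊗[B] Ω)
    (h : ∀ e : X, TensorProduct.map (LinearMap.applyₗ e) (LinearMap.id : Ω →ₗ[B] Ω) x =
      TensorProduct.map (LinearMap.applyₗ e) (LinearMap.id : Ω →ₗ[B] Ω) y) :
    x = y := by
  rw [← sub_eq_zero]
  apply eq_zero_of_forall_apply
  intro e
  rw [map_sub, h e, sub_self]

end Key

section Along

variable {A : Type v} {B Ω M M' : Type u} [CommRing A] [CommRing B] [Algebra A B]
  [AddCommGroup Ω] [Module B Ω] [Module A Ω] [IsScalarTower A B Ω]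
  [AddCommGroup M] [Module B M] [Module A M] [IsScalarTower A B M]
  [AddCommGroup M'] [Module B M'] [Module A M'] [IsScalarTower A B M']

omit [Module A Ω] [IsScalarTower A B Ω] in
/-- The covariant derivative of the induced connection on `Hom` is the commutator. -/
theorem along_homConn_apply (nabla : M →ₗ[A] M ⊗[B] Ω) (nabla' : M' →ₗ[A] M' ⊗[B] Ω)
    (nablaH : (M →ₗ[B] M') →ₗ[A] (M →ₗ[B] M') ⊗[B] Ω) (hH : Conn.IsHomConn nabla nabla' nablaH)
    (θ : Ω →ₗ[B] B) (φ : M →ₗ[B] M') (m : M) :
    (Conn.along nablaH θ φ) m = Conn.along nabla' θ (φ m) - φ (Conn.along nabla θ m) := by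
  have h1 : ∀ x : (M →ₗ[B] M') ⊗[B] Ω,
      (TensorProduct.rid B (M →ₗ[B] M') (TensorProduct.map LinearMap.id θ x)) m =
        TensorProduct.rid B M' (TensorProduct.map LinearMap.id θ
          (TensorProduct.map (LinearMap.applyₗ m) (LinearMap.id : Ω →ₗ[B] Ω) x)) := by
    intro x
    induction x using TensorProduct.induction_on with
    | zero => simp
    | tmul ψ ω => simp
    | add x y hx hy => simp only [map_add, LinearMap.add_apply, hx, hy]
  have h2 : ∀ y : M ⊗[B] Ω,
      TensorProduct.rid B M' (TensorProduct.map LinearMap.id θ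
          (TensorProduct.map φ (LinearMap.id : Ω →ₗ[B] Ω) y)) =
        φ (TensorProduct.rid B M (TensorProduct.map LinearMap.id θ y)) := by
    intro y
    induction y using TensorProduct.induction_on with
    | zero => simp
    | tmul m' ω => simp
    | add x y hx hy => simp only [map_add, hx, hy]
  rw [Conn.along_apply, Conn.along_apply, Conn.along_apply, h1, hH φ m, map_sub, map_sub, h2]

end Along

end Groth.Agent.H83
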