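import Groth.Agent.H83.ConnTrace
import Mathlib.LinearAlgebra.Pi

set_option autoImplicit false
universe v u
open TensorProduct

namespace Groth.Agent.H83

section Comp

variable {A : Type v} {B Ω M : Type u} [CommRing A] [CommRing B] [Algebra A B]
  [AddCommGroup Ω] [Module B Ω] [Module A Ω] [IsScalarTower A B Ω]
  [AddCommGroup M] [Module B M] [Module A M] [IsScalarTower A B M]

omit [Module A Ω] [IsScalarTower A B Ω] in
/-- Post-composition with a horizontal endomorphism commutes with the induced connection on
endomorphisms. -/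
theorem nablaE_comp_of_horizontal [Module.Free B Ω]
    (nabla : M →ₗ[A] M ⊗[B] Ω)
    (nablaE : (M →ₗ[B] M) →ₗ[A] (M →ₗ[B] M) ⊗[B] Ω) (hE : Conn.IsHomConn nabla nabla nablaE)
    (ε : M →ₗ[B] M) (hε : Conn.IsHorizontal nabla nabla ε) (φ : M →ₗ[B] M) :
    nablaE (ε ∘ₗ φ) =
      TensorProduct.map (LinearMap.llcomp B M M M ε) (LinearMap.id : Ω →ₗ[B] Ω) (nablaE φ) := by
  apply eq_of_forall_apply
  intro m
  have h1 : ∀ z : (M →ₗ[B] M) ⊗[B] Ω,
      TensorProduct.map (LinearMap.applyₗ m) (LinearMap.id : Ω →ₗ[B] Ω)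
        (TensorProduct.map (LinearMap.llcomp B M M M ε) (LinearMap.id : Ω →ₗ[B] Ω) z) =
      TensorProduct.map ε (LinearMap.id : Ω →ₗ[B] Ω)
        (TensorProduct.map (LinearMap.applyₗ m) (LinearMap.id : Ω →ₗ[B] Ω) z) := by
    intro z
    induction z using TensorProduct.induction_on with
    | zero => simp
    | tmul ψ ω => simp
    | add x y hx hy => simp only [map_add, hx, hy]
  have h3 : ∀ z : M ⊗[B] Ω,
      TensorProduct.map ε (LinearMap.id : Ω →ₗ[B] Ω) (TensorProduct.map φ LinearMap.id z) =
      TensorProduct.map (ε ∘ₗ φ) LinearMap.id z := by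
    intro z
    induction z using TensorProduct.induction_on with
    | zero => simp
    | tmul e' ω => simp
    | add x y hx hy => simp only [map_add, hx, hy]
  rw [h1, hE φ m, hE (ε ∘ₗ φ) m, map_sub, h3, LinearMap.comp_apply, hε (φ m)]

end Comp

section Grading

variable {A : Type v} {B Ω ι : Type u} [CommRing A] [CommRing B] [Algebra A B]
  [AddCommGroup Ω] [Module B Ω] [Module A Ω] [IsScalarTower A B Ω]
  [Fintype ι] [DecidableEq ι] (M : ι → Type u)
  [∀ i, AddCommGroup (M i)] [∀ i, Module B (M i)] [∀ i, Module A (M i)] [∀ i, IsScalarTower A B (M i)]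

/-- the grading involution with signs `s` -/
noncomputable def gradInv (s : ι → B) : (Π k, M k) →ₗ[B] (Π k, M k) :=
  ∑ i : ι, (LinearMap.single B M i) ∘ₗ (s i • (LinearMap.proj i : (Π k, M k) →ₗ[B] M i))

theorem gradInv_single (s : ι → B) (i : ι) (m : M i) :
    gradInv M s (LinearMap.single B M i m) = s i • LinearMap.single B M i m := by
  simp only [gradInv, LinearMap.sum_apply, LinearMap.comp_apply, LinearMap.smul_apply,
    LinearMap.proj_apply, LinearMap.single_apply]
  rw [Finset.sum_eq_single i]
  · simp [Pi.single_smul]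
  · intro j _ hji
    simp [Pi.single_eq_of_ne hji]
  · intro h; exact absurd (Finset.mem_univ i) h

theorem sum_single_comp_proj :
    (∑ j : ι, (LinearMap.single B M j) ∘ₗ (LinearMap.proj j : (Π k, M k) →ₗ[B] M j)) =
      LinearMap.id := by
  ext x k
  simp [Finset.sum_apply]

omit [IsScalarTower A B Ω] in
theorem gradInv_horizontal (deg : ι → ℤ) (s : ι → B)
    (hs : ∀ i j, deg i = deg j → s i = s j)
    (δ : Derivation A B Ω) (hδ : ∀ i, δ (s i) = 0)
    (nabla : (Π k, M k) →ₗ[A] (Π k, M k) ⊗[B] Ω) (hc : Conn.IsConn δ nabla)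
    (hgr : ∀ i j : ι, deg i ≠ deg j → ∀ m : M i,
      TensorProduct.map (LinearMap.proj j : (Π k, M k) →ₗ[B] M j) LinearMap.id
        (nabla (LinearMap.single B M i m)) = 0) :
    Conn.IsHorizontal nabla nabla (gradInv M s) := by
  -- first on single elements
  have hsingle : ∀ (i : ι) (m : M i),
      nabla (gradInv M s (LinearMap.single B M i m)) =
        TensorProduct.map (gradInv M s) LinearMap.id (nabla (LinearMap.single B M i m)) := by
    intro i m
    rw [gradInv_single, hc, hδ, TensorProduct.tmul_zero, add_zero]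
    set y := nabla (LinearMap.single B M i m) with hy
    have h1 : ∀ f : (Π k, M k) →ₗ[B] (Π k, M k),
        TensorProduct.map f (LinearMap.id : Ω →ₗ[B] Ω) y = LinearMap.rTensorHom Ω f y := fun f => rfl
    rw [h1, gradInv, map_sum, LinearMap.sum_apply]
    have h2 : ∀ j : ι, LinearMap.rTensorHom Ω
        ((LinearMap.single B M j) ∘ₗ (s j • (LinearMap.proj j : (Π k, M k) →ₗ[B] M j))) y =
        s i • LinearMap.rTensorHom Ω
          ((LinearMap.single B M j) ∘ₗ (LinearMap.proj j : (Π k, M k) →ₗ[B] M j)) y := by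
      intro j
      have h3 : ∀ (c : B), LinearMap.rTensorHom Ω
          ((LinearMap.single B M j) ∘ₗ (c • (LinearMap.proj j : (Π k, M k) →ₗ[B] M j))) y =
          c • TensorProduct.map (LinearMap.single B M j) (LinearMap.id : Ω →ₗ[B] Ω)
            (TensorProduct.map (LinearMap.proj j : (Π k, M k) →ₗ[B] M j) LinearMap.id y) := by
        intro c
        rw [LinearMap.comp_smul, map_smul, LinearMap.smul_apply]
        congr 1
        show TensorProduct.map _ _ y = _
        rw [← LinearMap.comp_apply, ← TensorProduct.map_comp]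
        rfl
      have h4 := h3 1
      rw [one_smul, one_smul] at h4
      rw [h3, h4]
      by_cases hd : deg i = deg j
      · rw [hs i j hd]
      · rw [hgr i j hd m, map_zero, smul_zero, smul_zero]
    rw [Finset.sum_congr rfl fun j _ => h2 j, ← Finset.smul_sum, ← LinearMap.sum_apply, ← map_sum,
      sum_single_comp_proj]
    show s i • y = s i • TensorProduct.map LinearMap.id LinearMap.id y
    rw [TensorProduct.map_id, LinearMap.id_apply]
  intro x
  have hx : x = ∑ i, LinearMap.single B M i (x i) := by
    simp only [LinearMap.single_apply]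
    exact (LinearMap.sum_single_apply M x).symm
  rw [hx]
  simp only [map_sum]
  refine Finset.sum_congr rfl fun i _ => ?_
  exact hsingle i (x i)

end Grading

end Groth.Agent.H83
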