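import Groth.Agent.H83.ConnLemmas
import Mathlib.LinearAlgebra.Trace

set_option autoImplicit false
universe v u
open TensorProduct

namespace Groth.Agent.H83

section Trace

variable {A : Type v} {B Ω M : Type u} [CommRing A] [CommRing B] [Algebra A B]
  [AddCommGroup Ω] [Module B Ω] [Module A Ω] [IsScalarTower A B Ω]
  [AddCommGroup M] [Module B M] [Module A M] [IsScalarTower A B M]

theorem map_trace_eq_sum {ι : Type*} [Fintype ι] [DecidableEq ι] (b : Module.Basis ι B M)
    (x : (M →ₗ[B] M) ⊗[B] Ω) :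
    TensorProduct.map (LinearMap.trace B M) (LinearMap.id : Ω →ₗ[B] Ω) x =
      ∑ i, TensorProduct.map (b.coord i) (LinearMap.id : Ω →ₗ[B] Ω)
        (TensorProduct.map (LinearMap.applyₗ (b i)) (LinearMap.id : Ω →ₗ[B] Ω) x) := by
  induction x using TensorProduct.induction_on with
  | zero => simp
  | tmul ψ ω =>
    simp only [TensorProduct.map_tmul, LinearMap.id_apply, LinearMap.applyₗ_apply_apply]
    rw [← TensorProduct.sum_tmul]
    congr 1
    rw [LinearMap.trace_eq_matrix_trace B b ψ, Matrix.trace]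
    simp [LinearMap.toMatrix_apply, Matrix.diag]
  | add x y hx hy =>
    simp only [map_add, hx, hy, Finset.sum_add_distrib]

omit [IsScalarTower A B Ω] in
theorem nabla_expand {ι : Type*} [Fintype ι] [DecidableEq ι] (b : Module.Basis ι B M)
    (δ : Derivation A B Ω) (nabla : M →ₗ[A] M ⊗[B] Ω) (hc : Conn.IsConn δ nabla) (m : M) :
    nabla m = ∑ j, (b.coord j m • nabla (b j) + b j ⊗ₜ[B] δ (b.coord j m)) := by
  conv_lhs => rw [← b.sum_repr m]
  rw [map_sum]
  refine Finset.sum_congr rfl fun j _ => ?_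
  rw [hc]
  rfl

theorem isHorizontal_trace_of_basis {ι : Type*} [Fintype ι] [DecidableEq ι] (b : Module.Basis ι B M)
    (δ : Derivation A B Ω) (nabla : M →ₗ[A] M ⊗[B] Ω) (hc : Conn.IsConn δ nabla)
    (nablaE : (M →ₗ[B] M) →ₗ[A] (M →ₗ[B] M) ⊗[B] Ω) (hE : Conn.IsHomConn nabla nabla nablaE) :
    Conn.IsHorizontal nablaE (Conn.triv δ) (LinearMap.trace B M) := by
  intro φ
  rw [map_trace_eq_sum b]
  -- the matrix of φ
  set a : ι → ι → B := fun i j => b.coord i (φ (b j)) with ha
  -- the connection matrix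
  set Γ : ι → ι → B ⊗[B] Ω := fun i j =>
    TensorProduct.map (b.coord i) (LinearMap.id : Ω →ₗ[B] Ω) (nabla (b j)) with hΓ
  have hA : ∀ i, TensorProduct.map (b.coord i) (LinearMap.id : Ω →ₗ[B] Ω) (nabla (φ (b i))) =
      (∑ j, a j i • Γ i j) + (1 : B) ⊗ₜ[B] δ (a i i) := by
    intro i
    rw [nabla_expand b δ nabla hc (φ (b i)), map_sum]
    simp only [map_add, map_smul, TensorProduct.map_tmul, LinearMap.id_apply, Finset.sum_add_distrib]
    congr 1
    rw [Finset.sum_eq_single i]
    · simp [ha]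
    · intro j _ hji
      have : b.coord i (b j) = 0 := by simp [Module.Basis.coord_apply, hji]
      rw [this, TensorProduct.zero_tmul]
    · intro h; exact absurd (Finset.mem_univ i) h
  have hfun : ∀ i, (b.coord i) ∘ₗ φ = ∑ j, a i j • b.coord j := by
    intro i
    apply b.ext
    intro k
    simp only [LinearMap.comp_apply, LinearMap.sum_apply, LinearMap.smul_apply, smul_eq_mul]
    rw [Finset.sum_eq_single k]
    · simp [ha]
    · intro j _ hjk
      have : b.coord j (b k) = 0 := by
        simp [Module.Basis.coord_apply, Ne.symm hjk]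
      rw [this, mul_zero]
    · intro h; exact absurd (Finset.mem_univ k) h
  have hB : ∀ i, TensorProduct.map (b.coord i) (LinearMap.id : Ω →ₗ[B] Ω)
      (TensorProduct.map φ (LinearMap.id : Ω →ₗ[B] Ω) (nabla (b i))) = ∑ j, a i j • Γ j i := by
    intro i
    have h1 : ∀ z : M ⊗[B] Ω, TensorProduct.map (b.coord i) (LinearMap.id : Ω →ₗ[B] Ω)
        (TensorProduct.map φ (LinearMap.id : Ω →ₗ[B] Ω) z) =
        LinearMap.rTensorHom Ω ((b.coord i) ∘ₗ φ) z := by
      intro z
      induction z using TensorProduct.induction_on with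
      | zero => simp
      | tmul m ω => simp
      | add x y hx hy => simp only [map_add, hx, hy]
    rw [h1, hfun i, map_sum, LinearMap.sum_apply]
    refine Finset.sum_congr rfl fun j _ => ?_
    rw [map_smul, LinearMap.smul_apply]
    rfl
  have hsum : ∀ i, TensorProduct.map (b.coord i) (LinearMap.id : Ω →ₗ[B] Ω)
        (TensorProduct.map (LinearMap.applyₗ (b i)) (LinearMap.id : Ω →ₗ[B] Ω) (nablaE φ)) =
      (∑ j, a j i • Γ i j) + (1 : B) ⊗ₜ[B] δ (a i i) - ∑ j, a i j • Γ j i := by
    intro i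
    rw [hE φ (b i), map_sub, hA, hB]
  rw [Finset.sum_congr rfl fun i _ => hsum i, Finset.sum_sub_distrib, Finset.sum_add_distrib]
  rw [Finset.sum_comm (f := fun i j => a j i • Γ i j)]
  rw [add_sub_cancel_left, Conn.triv_apply, LinearMap.trace_eq_matrix_trace B b φ, Matrix.trace,
    map_sum, TensorProduct.tmul_sum]
  refine Finset.sum_congr rfl fun i _ => ?_
  simp [ha, LinearMap.toMatrix_apply, Matrix.diag]

theorem isHorizontal_trace [Module.Finite B M] [Module.Free B M]
    (δ : Derivation A B Ω) (nabla : M →ₗ[A] M ⊗[B] Ω) (hc : Conn.IsConn δ nabla)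
    (nablaE : (M →ₗ[B] M) →ₗ[A] (M →ₗ[B] M) ⊗[B] Ω) (hE : Conn.IsHomConn nabla nabla nablaE) :
    Conn.IsHorizontal nablaE (Conn.triv δ) (LinearMap.trace B M) := by
  classical
  exact isHorizontal_trace_of_basis (Module.Free.chooseBasis B M) δ nabla hc nablaE hE

end Trace

end Groth.Agent.H83
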