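import Groth.Prelude.Def_ConstGrp
import Groth.Agent.H93.DualMod

set_option autoImplicit false
universe u v w

namespace Groth.Agent.H83

open TensorProduct WithConv Groth.Agent.H93

section General

variable {k : Type u} [CommRing k] {A : Type v} [AddCommGroup A] [Module k A] [Coalgebra k A]
variable (V : Type w) [AddCommGroup V] [Module k V] [HopfRep.Comod k A V]

/-- `dualAct` as a linear map in the functional -/
noncomputable def dualActL : (A →ₗ[k] k) →ₗ[k] (V →ₗ[k] V) where
  toFun := dualAct V
  map_add' := dualAct_add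
  map_smul' := dualAct_smul

@[simp] theorem dualActL_apply (ψ : A →ₗ[k] k) : dualActL V ψ = dualAct V ψ := rfl

end General

section Const

variable {k : Type u} [Field k] {G : Type v} [Group G] [Fintype G] [DecidableEq G]
variable {V : Type w} [AddCommGroup V] [Module k V] [HopfRep.Comod k (ConstGrp.F k G) V]

/-- action of the group element `g` on a comodule over the function algebra -/
noncomputable def gAct (k : Type u) [Field k] (V : Type w) [AddCommGroup V] [Module k V]
    [HopfRep.Comod k (ConstGrp.F k G) V] (g : G) : V →ₗ[k] V :=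
  dualAct V (ConstGrp.ev k g).toLinearMap

theorem gAct_one : gAct k V (1 : G) = (LinearMap.id : V →ₗ[k] V) := by
  have : (ConstGrp.ev k (1 : G)).toLinearMap =
      Coalgebra.counit (R := k) (A := ConstGrp.F k G) := by
    apply ConstGrp.linearMap_ext
    intro g
    rfl
  rw [gAct, this, dualAct_counit]

theorem ev_mul (g h : G) :
    toConv (ConstGrp.ev k g).toLinearMap * toConv (ConstGrp.ev k h).toLinearMap =
      toConv (ConstGrp.ev k (g * h)).toLinearMap := by
  apply WithConv.ofConv_injective
  apply ConstGrp.linearMap_ext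
  intro x
  rw [LinearMap.convMul_def]
  simp only [LinearMap.comp_apply, ConstGrp.comul_e, map_sum,
    TensorProduct.map_tmul, LinearMap.mul'_apply, AlgHom.toLinearMap_apply, ConstGrp.ev_apply]
  rw [Finset.sum_eq_single g]
  · simp only [ConstGrp.e_apply_self, one_mul, ConstGrp.e_apply]
    by_cases hx : g * h = x
    · subst hx; simp
    · rw [if_neg hx, if_neg]
      intro h'
      apply hx
      rw [h', mul_inv_cancel_left]
  · intro a _ ha
    rw [ConstGrp.e_apply_of_ne (Ne.symm ha), zero_mul]
  · intro h'; exact absurd (Finset.mem_univ g) h'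

theorem gAct_mul (g h : G) : gAct k V (g * h) = gAct k V g ∘ₗ gAct k V h := by
  have := dualAct_mul (V := V) (toConv (ConstGrp.ev k g).toLinearMap)
    (toConv (ConstGrp.ev k h).toLinearMap)
  rw [ev_mul] at this
  exact this

theorem gAct_inv_apply (g : G) (v : V) : gAct k V g (gAct k V g⁻¹ v) = v := by
  rw [← LinearMap.comp_apply, ← gAct_mul, mul_inv_cancel, gAct_one]
  rfl

theorem dualAct_eq_sum (ψ : ConstGrp.F k G →ₗ[k] k) :
    dualAct V ψ = ∑ g : G, ψ (ConstGrp.e k g) • gAct k V g := by
  have : ψ = ∑ g : G, ψ (ConstGrp.e k g) • (ConstGrp.ev k g).toLinearMap := by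
    apply ConstGrp.linearMap_ext
    intro x
    rw [LinearMap.sum_apply, Finset.sum_eq_single x]
    · simp
    · intro g _ hg
      simp [ConstGrp.e_apply_of_ne hg]
    · intro h'; exact absurd (Finset.mem_univ x) h'
  conv_lhs => rw [this]
  rw [← dualActL_apply, map_sum]
  simp only [map_smul, dualActL_apply]
  rfl

/-- Maschke's theorem for comodules over the function algebra of a finite group -/
theorem isSemisimpleComod_const (hG : ((Fintype.card G : ℕ) : k) ≠ 0) :
    HopfRep.IsSemisimpleComod k (ConstGrp.F k G) V := by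
  intro W hW
  have hTW : ∀ g, ∀ w ∈ W, gAct k V g w ∈ W :=
    fun g w hw => dualAct_mem_of_isSubcomod hW _ hw
  obtain ⟨π, hπ⟩ := LinearMap.exists_leftInverse_of_injective W.subtype (Submodule.ker_subtype W)
  let Tw : G → (W →ₗ[k] W) := fun g => (gAct k V g).restrict (hTW g)
  have hTw : ∀ g (w : W), ((Tw g w : W) : V) = gAct k V g w := fun g w => rfl
  have hπw : ∀ (v : V) (hv : v ∈ W), π v = ⟨v, hv⟩ := by
    intro v hv
    exact LinearMap.congr_fun hπ ⟨v, hv⟩
  obtain ⟨P, hP⟩ : ∃ P : V →ₗ[k] W,
      ∀ v, P v = ((Fintype.card G : ℕ) : k)⁻¹ • ∑ g : G, Tw g (π (gAct k V g⁻¹ v)) := by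
    refine ⟨((Fintype.card G : ℕ) : k)⁻¹ • ∑ g : G, Tw g ∘ₗ π ∘ₗ gAct k V g⁻¹, fun v => ?_⟩
    simp only [LinearMap.smul_apply, LinearMap.sum_apply, LinearMap.comp_apply]
  have hPw : ∀ w : W, P w = w := by
    intro w
    have : ∀ g : G, Tw g (π (gAct k V g⁻¹ w)) = w := by
      intro g
      rw [hπw _ (hTW _ _ w.2)]
      apply Subtype.ext
      rw [hTw]
      exact gAct_inv_apply g (w : V)
    rw [hP]
    simp only [this, Finset.sum_const, Finset.card_univ]
    rw [← Nat.cast_smul_eq_nsmul k, smul_smul, inv_mul_cancel₀ hG, one_smul]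
  have hPT : ∀ h v, P (gAct k V h v) = Tw h (P v) := by
    intro h v
    rw [hP, hP, map_smul, map_sum]
    congr 1
    rw [← Fintype.sum_equiv (Equiv.mulLeft h) (fun g => Tw h (Tw g (π (gAct k V g⁻¹ v))))
      (fun g => Tw g (π (gAct k V g⁻¹ (gAct k V h v))))]
    intro g
    simp only [Equiv.coe_mulLeft]
    apply Subtype.ext
    rw [hTw, hTw, hTw, ← LinearMap.comp_apply (gAct k V h), ← gAct_mul,
      ← LinearMap.comp_apply (gAct k V (h * g)⁻¹), ← gAct_mul, mul_inv_rev, inv_mul_cancel_right]
  refine ⟨LinearMap.ker P, ?_, LinearMap.isCompl_of_proj hPw⟩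
  rw [isSubcomod_iff]
  intro ψ v hv
  rw [LinearMap.mem_ker] at hv ⊢
  rw [dualAct_eq_sum, LinearMap.sum_apply, map_sum]
  apply Finset.sum_eq_zero
  intro g _
  rw [LinearMap.smul_apply, map_smul, hPT, hv, map_zero, smul_zero]

end Const

end Groth.Agent.H83
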