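import Groth.Agent.H93.DualMod
import Mathlib

/-! Deligne's theorem: a commutative finite locally free group scheme of order `n` is killed
by `n`. -/

set_option autoImplicit false
universe u v

namespace Groth.Agent.H83.Deligne

open TensorProduct WithConv Coalgebra Groth.Agent.H93

section Free

variable {R : Type u} [CommRing R] {A : Type v} [CommRing A] [HopfAlgebra R A]
  [Coalgebra.IsCocomm R A]

local notation "DD" => WithConv (A →ₗ[R] R)
local notation "EE" => WithConv (A →ₗ[R] A)

/-- `D → E`, `φ ↦ η ∘ φ` -/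
noncomputable def jHom : DD →+* EE where
  toFun φ := toConv (Algebra.linearMap R A ∘ₗ φ.ofConv)
  map_one' := by
    ext a
    simp [LinearMap.convOne_def]
  map_mul' φ ψ := by
    have := LinearMap.algHom_comp_convMul_distrib (C := A) (Algebra.ofId R A) φ ψ
    apply WithConv.ofConv_injective
    exact this
  map_zero' := by
    ext a
    simp
  map_add' φ ψ := by
    ext a
    simp

omit [IsCocomm R A] in
theorem jHom_apply (φ : DD) (a : A) : (jHom φ) a = algebraMap R A (φ a) := rfl

/-- `E` as a `D`-algebra -/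
noncomputable local instance instAlgDE : Algebra DD EE := (jHom (R := R) (A := A)).toAlgebra

theorem smul_def' (φ : DD) (f : EE) : φ • f = jHom φ * f := rfl

theorem smul_apply' (φ : DD) (f : EE) (a : A) :
    (φ • f) a = ∑ i ∈ (ℛ R a).index, φ ((ℛ R a).left i) • f ((ℛ R a).right i) := by
  rw [smul_def', (ℛ R a).convMul_apply]
  refine Finset.sum_congr rfl fun i _ => ?_
  rw [jHom_apply, Algebra.smul_def]

variable {ι : Type*} [Fintype ι] [DecidableEq ι] (b : Module.Basis ι R A)

/-- coordinates of `E` over `D` -/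
noncomputable def coordEquiv : EE ≃ₗ[DD] (ι → DD) where
  toFun f i := toConv (b.coord i ∘ₗ f.ofConv)
  map_add' f g := by
    ext i a
    simp
  map_smul' φ f := by
    ext i a
    simp only [RingHom.id_apply, Pi.smul_apply, smul_eq_mul]
    rw [(ℛ R a).convMul_apply]
    change b.coord i ((φ • f) a) = _
    rw [smul_apply', map_sum]
    refine Finset.sum_congr rfl fun j _ => ?_
    rw [map_smul, smul_eq_mul]
    rfl
  invFun g := toConv (∑ i, (LinearMap.toSpanSingleton R A (b i)) ∘ₗ (g i).ofConv)
  left_inv f := by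
    ext a
    change (∑ i, (LinearMap.toSpanSingleton R A (b i)) ∘ₗ (b.coord i ∘ₗ f.ofConv)) a = f a
    simp only [LinearMap.coe_sum, Finset.sum_apply, LinearMap.comp_apply,
      LinearMap.toSpanSingleton_apply, Module.Basis.coord_apply]
    exact b.sum_repr (f a)
  right_inv g := by
    ext i a
    change b.coord i ((∑ j, (LinearMap.toSpanSingleton R A (b j)) ∘ₗ (g j).ofConv) a) = g i a
    simp only [LinearMap.coe_sum, Finset.sum_apply, LinearMap.comp_apply,
      LinearMap.toSpanSingleton_apply, map_sum, map_smul, Module.Basis.coord_apply,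
      Module.Basis.repr_self, Finsupp.single_apply, smul_eq_mul, mul_ite, mul_one, mul_zero,
      Finset.sum_ite_eq', Finset.mem_univ, if_true]

/-- a `D`-basis of `E` -/
noncomputable def basisDE : Module.Basis ι DD EE := Module.Basis.ofEquivFun (coordEquiv b)

include b in
theorem norm_jHom (φ : DD) : Algebra.norm DD (jHom φ : EE) = φ ^ Fintype.card ι :=
  Algebra.norm_algebraMap_of_basis (basisDE b) φ

omit [IsCocomm R A] in
/-- translation by a point, as an algebra endomorphism -/
noncomputable def tAlg (u : A →ₐ[R] R) : A →ₐ[R] A :=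
  (Algebra.TensorProduct.rid R R A).toAlgHom.comp
    ((Algebra.TensorProduct.map (AlgHom.id R A) u).comp (Bialgebra.comulAlgHom R A))

omit [IsCocomm R A] in
theorem tAlg_toLinearMap (u : A →ₐ[R] R) :
    (tAlg u).toLinearMap = dualAct A u.toLinearMap := rfl

omit [IsCocomm R A] in
theorem tAlg_apply (u : A →ₐ[R] R) (a : A) :
    tAlg u a = ∑ i ∈ (ℛ R a).index, u ((ℛ R a).right i) • (ℛ R a).left i := by
  change (Algebra.TensorProduct.rid R R A) ((Algebra.TensorProduct.map (AlgHom.id R A) u)
    (Coalgebra.comul (R := R) a)) = _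
  rw [← (ℛ R a).eq, map_sum, map_sum]
  refine Finset.sum_congr rfl fun i _ => ?_
  simp

omit [IsCocomm R A] in
theorem tAlg_mul (g h : WithConv (A →ₐ[R] R)) :
    tAlg (g * h).ofConv = (tAlg g.ofConv).comp (tAlg h.ofConv) := by
  apply AlgHom.toLinearMap_injective
  rw [AlgHom.comp_toLinearMap, tAlg_toLinearMap, tAlg_toLinearMap, tAlg_toLinearMap]
  exact dualAct_mul (V := A) (toConv g.ofConv.toLinearMap) (toConv h.ofConv.toLinearMap)

omit [IsCocomm R A] in
theorem tAlg_one : tAlg (1 : WithConv (A →ₐ[R] R)).ofConv = AlgHom.id R A := by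
  apply AlgHom.toLinearMap_injective
  rw [tAlg_toLinearMap]
  exact dualAct_one (V := A)

/-- post-composition with a translation, as a `D`-algebra automorphism of `E` -/
noncomputable def sigma (g : WithConv (A →ₐ[R] R)) : EE ≃ₐ[DD] EE where
  toFun f := toConv ((tAlg g.ofConv).toLinearMap ∘ₗ f.ofConv)
  invFun f := toConv ((tAlg g⁻¹.ofConv).toLinearMap ∘ₗ f.ofConv)
  left_inv f := by
    apply WithConv.ofConv_injective
    change (tAlg g⁻¹.ofConv).toLinearMap ∘ₗ ((tAlg g.ofConv).toLinearMap ∘ₗ f.ofConv) = f.ofConv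
    rw [← LinearMap.comp_assoc, ← AlgHom.comp_toLinearMap, ← tAlg_mul, inv_mul_cancel, tAlg_one]
    rfl
  right_inv f := by
    apply WithConv.ofConv_injective
    change (tAlg g.ofConv).toLinearMap ∘ₗ ((tAlg g⁻¹.ofConv).toLinearMap ∘ₗ f.ofConv) = f.ofConv
    rw [← LinearMap.comp_assoc, ← AlgHom.comp_toLinearMap, ← tAlg_mul, mul_inv_cancel, tAlg_one]
    rfl
  map_mul' f f' := by
    apply WithConv.ofConv_injective
    exact LinearMap.algHom_comp_convMul_distrib (tAlg g.ofConv) f f'
  map_add' f f' := by
    apply WithConv.ofConv_injective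
    change (tAlg g.ofConv).toLinearMap ∘ₗ (f.ofConv + f'.ofConv) = _
    rw [LinearMap.comp_add]
    rfl
  commutes' φ := by
    ext a
    change tAlg g.ofConv (algebraMap R A (φ a)) = algebraMap R A (φ a)
    rw [AlgHom.commutes]

theorem sigma_id (g : WithConv (A →ₐ[R] R)) :
    sigma g (toConv LinearMap.id) = toConv LinearMap.id * jHom (toConv g.ofConv.toLinearMap) := by
  ext a
  change tAlg g.ofConv a = _
  rw [tAlg_apply, (ℛ R a).convMul_apply]
  refine Finset.sum_congr rfl fun i _ => ?_
  rw [jHom_apply, Algebra.smul_def, mul_comm]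
  rfl

include b in
/-- Deligne's theorem for `R`-points, free case -/
theorem pow_card_eq_one (g : WithConv (A →ₐ[R] R)) : g ^ Fintype.card ι = 1 := by
  -- the norm of the universal point
  set N := Algebra.norm DD (toConv LinearMap.id : EE) with hN
  have hunit : IsUnit N := by
    have h1 : (toConv LinearMap.id : EE) * toConv (HopfAlgebra.antipode R (A := A)) = 1 :=
      LinearMap.id_mul_antipode
    have h2 := congrArg (Algebra.norm DD) h1
    rw [map_mul, map_one] at h2
    exact IsUnit.of_mul_eq_one _ h2
  have h3 : N = N * (toConv g.ofConv.toLinearMap : DD) ^ Fintype.card ι := by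
    conv_lhs => rw [hN, ← Algebra.norm_eq_of_algEquiv (sigma g), sigma_id, map_mul, norm_jHom b]
  have h4 : (toConv g.ofConv.toLinearMap : DD) ^ Fintype.card ι = 1 := by
    have h5 : N * 1 = N * (toConv g.ofConv.toLinearMap : DD) ^ Fintype.card ι := by
      rw [mul_one]; exact h3
    exact (hunit.mul_left_cancel h5).symm
  apply WithConv.ofConv_injective
  apply AlgHom.toLinearMap_injective
  apply WithConv.toConv_injective
  rw [AlgHom.toLinearMap_convPow, h4]
  rfl

end Free

section BaseChange

variable {R : Type u} [CommRing R] {A : Type v} [CommRing A] [HopfAlgebra R A]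
  {T : Type*} [CommRing T] [Algebra R T]

/-- restriction of a `T`-point of `T ⊗ A` to a `T`-valued point of `A` -/
noncomputable def restr (w : T ⊗[R] A →ₐ[T] T) : A →ₐ[R] T :=
  (w.restrictScalars R).comp Algebra.TensorProduct.includeRight

theorem restr_apply (w : T ⊗[R] A →ₐ[T] T) (a : A) : restr w a = w (1 ⊗ₜ[R] a) := rfl

/-- a representation of the comultiplication of `1 ⊗ a` -/
noncomputable def reprOne (a : A) : Coalgebra.Repr T ((1 : T) ⊗ₜ[R] a) (A × A) where
  index := (ℛ R a).index
  left i := 1 ⊗ₜ[R] (ℛ R a).left i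
  right i := 1 ⊗ₜ[R] (ℛ R a).right i
  eq := by
    rw [TensorProduct.comul_tmul, ← (ℛ R a).eq, TensorProduct.tmul_sum, map_sum]
    refine Finset.sum_congr rfl fun i _ => ?_
    simp

theorem restr_mul (w w' : WithConv (T ⊗[R] A →ₐ[T] T)) :
    restr (w * w').ofConv = (toConv (restr w.ofConv) * toConv (restr w'.ofConv)).ofConv := by
  ext a
  rw [restr_apply]
  have h1 : (w * w').ofConv (1 ⊗ₜ[R] a) =
      (toConv w.ofConv.toLinearMap * toConv w'.ofConv.toLinearMap) (1 ⊗ₜ[R] a) := rfl
  have h2 : (toConv (restr w.ofConv) * toConv (restr w'.ofConv)).ofConv a =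
      (toConv (restr w.ofConv).toLinearMap * toConv (restr w'.ofConv).toLinearMap) a := rfl
  rw [h1, h2, (reprOne a).convMul_apply, (ℛ R a).convMul_apply]
  rfl

theorem restr_one :
    restr (1 : WithConv (T ⊗[R] A →ₐ[T] T)).ofConv = (1 : WithConv (A →ₐ[R] T)).ofConv := by
  ext a
  rw [restr_apply]
  change algebraMap T T (Coalgebra.counit (R := T) ((1 : T) ⊗ₜ[R] a)) =
    algebraMap R T (Coalgebra.counit (R := R) a)
  rw [TensorProduct.counit_tmul]
  simp [Algebra.algebraMap_eq_smul_one]

theorem restr_pow (w : WithConv (T ⊗[R] A →ₐ[T] T)) (m : ℕ) :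
    restr (w ^ m).ofConv = ((toConv (restr w.ofConv)) ^ m).ofConv := by
  induction m with
  | zero => rw [pow_zero, pow_zero, restr_one]
  | succ m ih =>
    rw [pow_succ, pow_succ, restr_mul, ih]

/-- the `T`-point of `T ⊗ A` attached to a `T`-valued point of `A` -/
noncomputable def extend (v : A →ₐ[R] T) : T ⊗[R] A →ₐ[T] T :=
  Algebra.TensorProduct.lift (Algebra.ofId T T) v (fun _ _ => Commute.all _ _)

theorem restr_extend (v : A →ₐ[R] T) : restr (extend v) = v := by
  ext a
  rw [restr_apply]
  simp [extend]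

variable [Coalgebra.IsCocomm R A]

/-- Deligne's theorem for `T`-valued points when `T ⊗ A` is free -/
theorem pow_finrank_eq_one [Nontrivial T] [Module.Free T (T ⊗[R] A)] [Module.Finite T (T ⊗[R] A)]
    (v : A →ₐ[R] T) : (toConv v) ^ Module.finrank T (T ⊗[R] A) = 1 := by
  classical
  let b := Module.Free.chooseBasis T (T ⊗[R] A)
  have h1 := pow_card_eq_one b (toConv (extend v))
  rw [← Module.finrank_eq_card_chooseBasisIndex] at h1
  have h2 := restr_pow (toConv (extend v)) (Module.finrank T (T ⊗[R] A))
  rw [h1, restr_one] at h2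
  apply WithConv.ofConv_injective
  have h3 : (toConv (extend v)).ofConv = extend v := rfl
  rw [h3, restr_extend] at h2
  exact h2.symm

omit [Coalgebra.IsCocomm R A] in
theorem comp_pow (v : A →ₐ[R] T) (f : WithConv (A →ₐ[R] A)) (m : ℕ) :
    v.comp (f ^ m).ofConv = ((toConv (v.comp f.ofConv)) ^ m).ofConv := by
  induction m with
  | zero =>
    rw [pow_zero, pow_zero]
    ext a
    change v (algebraMap R A (Coalgebra.counit (R := R) a)) =
      algebraMap R T (Coalgebra.counit (R := R) a)
    rw [AlgHom.commutes]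
  | succ m ih =>
    rw [pow_succ, pow_succ, AlgHom.comp_convMul_distrib, ih]

/-- **Deligne's theorem**: a commutative finite locally free group scheme of order `n` is killed
by `n`. -/
theorem deligne [Module.Finite R A] [Module.Projective R A] (n : ℕ)
    (hn : ∀ p : PrimeSpectrum R, Module.rankAtStalk A p = n) :
    (toConv (AlgHom.id R A)) ^ n = 1 := by
  apply WithConv.ofConv_injective
  ext a
  rw [← sub_eq_zero]
  apply eq_zero_of_localization
  intro q hq
  let v : A →ₐ[R] Localization.AtPrime q := IsScalarTower.toAlgHom R A (Localization.AtPrime q)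
  haveI hfree : Module.Free (Localization.AtPrime q) (Localization.AtPrime q ⊗[R] A) :=
    Module.free_of_flat_of_isLocalRing
  have hrank : Module.finrank (Localization.AtPrime q) (Localization.AtPrime q ⊗[R] A) = n := by
    have h1 := Module.rankAtStalk_baseChange (R := R) (M := A) (S := Localization.AtPrime q)
      (IsLocalRing.closedPoint (Localization.AtPrime q))
    rw [Module.rankAtStalk_eq_finrank_of_free, hn] at h1
    exact h1
  have hv : (toConv v) ^ n = 1 := by
    rw [← hrank]
    exact pow_finrank_eq_one v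
  have h2 := comp_pow v (toConv (AlgHom.id R A)) n
  have h3 : v.comp (toConv (AlgHom.id R A)).ofConv = v := AlgHom.comp_id v
  rw [h3, hv] at h2
  have h4 := AlgHom.congr_fun h2 a
  rw [map_sub, sub_eq_zero]
  change v _ = v _
  rw [← AlgHom.comp_apply, h4]
  change algebraMap R (Localization.AtPrime q) (Coalgebra.counit (R := R) a) =
    v (algebraMap R A (Coalgebra.counit (R := R) a))
  rw [AlgHom.commutes]

end BaseChange

end Groth.Agent.H83.Deligne
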