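import Groth.Agent.H15.Depth
import Mathlib.RingTheory.Localization.AtPrime.Basic
import Mathlib.RingTheory.Localization.FractionRing
import Mathlib.RingTheory.Regular.RegularSequence

set_option autoImplicit false
universe u

namespace Groth.Agent.H83

open RingTheory.Sequence

/-- if `P = (A : y)` for some `y ∈ Frac A ∖ A` then `A_P` has depth one -/
theorem depth_eq_one_of_colon {A : Type u} [CommRing A] [IsDomain A] (P : Ideal A) [P.IsPrime]
    (y : FractionRing A)
    (hmemP : ∀ s : A, s ∈ P ↔ ∃ a : A, algebraMap A (FractionRing A) a = s • y) :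
    LocCoh.depth (Localization.AtPrime P) (Localization.AtPrime P) = 1 := by
  classical
  let R := Localization.AtPrime P
  let K := FractionRing A
  have hφ : Function.Injective (algebraMap R K) := IsFractionRing.injective R K
  have htower : ∀ a : A, algebraMap R K (algebraMap A R a) = algebraMap A K a := fun a =>
    (IsScalarTower.algebraMap_apply A R K a).symm
  -- (b) `y` is not in `R`
  have hyR : ∀ z : R, algebraMap R K z ≠ y := by
    intro z hz
    obtain ⟨c, s, rfl⟩ := IsLocalization.exists_mk'_eq P.primeCompl z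
    apply s.2
    change (s : A) ∈ P
    rw [hmemP]
    refine ⟨c, ?_⟩
    rw [← hz, Algebra.smul_def, ← htower, ← htower, ← map_mul, IsLocalization.mk'_spec']
  -- (a) `m y ⊆ R`
  have hmy : ∀ r ∈ IsLocalRing.maximalIdeal R, ∃ u : R, algebraMap R K u = algebraMap R K r * y := by
    intro r hr
    obtain ⟨p', s, rfl⟩ := IsLocalization.exists_mk'_eq P.primeCompl r
    rw [IsLocalization.AtPrime.mk'_mem_maximal_iff R P] at hr
    obtain ⟨c, hc⟩ := (hmemP p').mp hr
    refine ⟨IsLocalization.mk' R c s, ?_⟩
    have hs : algebraMap R K (algebraMap A R s) ≠ 0 := by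
      rw [htower]
      intro h0
      have : (s : A) = 0 := (IsFractionRing.injective A K) (by rw [h0, map_zero])
      exact s.2 (this ▸ P.zero_mem)
    apply mul_left_cancel₀ hs
    rw [← map_mul, IsLocalization.mk'_spec', ← mul_assoc, ← map_mul, IsLocalization.mk'_spec',
      htower, htower, hc, Algebra.smul_def]
  -- nonzero element of `P`
  obtain ⟨a, b, hb, hab⟩ := IsFractionRing.div_surjective (A := A) y
  have hb0 : b ≠ 0 := nonZeroDivisors.ne_zero hb
  have hbK : algebraMap A K b ≠ 0 := by
    intro h0
    exact hb0 ((IsFractionRing.injective A K) (by rw [h0, map_zero]))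
  have hbP : b ∈ P := by
    rw [hmemP]
    refine ⟨a, ?_⟩
    rw [← hab, Algebra.smul_def, mul_div_cancel₀ _ hbK]
  have hne : IsLocalRing.maximalIdeal R • (⊤ : Submodule R R) ≠ ⊤ := by
    rw [smul_eq_mul, Ideal.mul_top]
    exact (IsLocalRing.maximalIdeal.isMaximal R).ne_top
  unfold LocCoh.depth
  apply le_antisymm
  · apply Groth.Agent.H15.idealDepth_le_of_forall _ _ hne
    intro rs hreg hmem
    match rs, hreg, hmem with
    | [], _, _ => simp
    | [_], _, _ => simp
    | r₁ :: r₂ :: rest, hreg, hmem =>
      exfalso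
      rw [isWeaklyRegular_cons_iff] at hreg
      obtain ⟨h1, hreg'⟩ := hreg
      rw [isWeaklyRegular_cons_iff] at hreg'
      obtain ⟨h2, -⟩ := hreg'
      obtain ⟨u₁, hu₁⟩ := hmy r₁ (hmem r₁ (by simp))
      obtain ⟨u₂, hu₂⟩ := hmy r₂ (hmem r₂ (by simp))
      have hr₁ : r₁ ≠ 0 := by
        rintro rfl
        have := h1 (show (0 : R) • (1 : R) = (0 : R) • (0 : R) by simp)
        exact one_ne_zero this
      have hcomm : r₂ * u₁ = r₁ * u₂ := by
        apply hφ
        rw [map_mul, map_mul, hu₁, hu₂]
        ring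
      have hq : r₂ • (Submodule.Quotient.mk u₁ : QuotSMulTop r₁ R) = r₂ • 0 := by
        rw [smul_zero, ← Submodule.Quotient.mk_smul, Submodule.Quotient.mk_eq_zero, smul_eq_mul,
          hcomm]
        exact Submodule.smul_mem_pointwise_smul u₂ r₁ ⊤ Submodule.mem_top
      have hu₁0 := h2 hq
      rw [Submodule.Quotient.mk_eq_zero, Submodule.mem_smul_pointwise_iff_exists] at hu₁0
      obtain ⟨c, -, hc⟩ := hu₁0
      apply hyR c
      have hr₁K : algebraMap R K r₁ ≠ 0 := by
        intro h0
        exact hr₁ (hφ (by rw [h0, map_zero]))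
      apply mul_left_cancel₀ hr₁K
      rw [← hu₁, ← hc, smul_eq_mul, map_mul]
  · have := Groth.Agent.H15.le_idealDepth (IsLocalRing.maximalIdeal R) R
      (rs := [algebraMap A R b]) ?_ ?_
    · simpa using this
    · rw [isWeaklyRegular_cons_iff]
      refine ⟨?_, IsWeaklyRegular.nil _ _⟩
      have hbR : algebraMap A R b ≠ 0 := by
        intro h0
        apply hbK
        rw [← htower, h0, map_zero]
      intro z w hzw
      simpa [smul_eq_mul, hbR] using hzw
    · intro r hr
      simp only [List.mem_singleton] at hr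
      rw [hr, IsLocalization.AtPrime.to_map_mem_maximal_iff R P]
      exact hbP

end Groth.Agent.H83
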