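import Groth.Agent.H93.LinRedInt
import Groth.Agent.H93.NormalKerInv
import Groth.Agent.H93.TakeuchiNormal
import Groth.Agent.H82.Takeuchi
import Groth.Agent.H83.Antipode
import Groth.Agent.H74.HopfTrace

/-! Exact sequences `1 → K → G → Q → 1` of affine groups and Haar integrals, part 1:
the integral of `G` restricts to `Q`, and integrals of `K` and `Q` combine to one of `G`. -/

set_option autoImplicit false
universe u

open TensorProduct HopfRep

namespace Groth.Agent.H83.ExactLR

open Groth.Agent.H93 (IsInt slice dualAct)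
open Groth.Agent.H93.NormalKer (coefMap coefMap_apply functional_coefMap comul_coefMap)

section General

variable {k : Type u} [Field k] {A C N : Type u} [AddCommGroup A] [Module k A]
  [AddCommGroup C] [Module k C] [AddCommGroup N] [Module k N]

/-- a linear map killing the kernel of a surjection factors through it -/
theorem exists_factor (ψ : A →ₗ[k] C) (hψ : Function.Surjective ψ) (g : A →ₗ[k] N)
    (h : LinearMap.ker ψ ≤ LinearMap.ker g) : ∃ g' : C →ₗ[k] N, g' ∘ₗ ψ = g := by
  refine ⟨(LinearMap.ker ψ).liftQ g h ∘ₗ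
    (ψ.quotKerEquivOfSurjective hψ).symm.toLinearMap, ?_⟩
  ext a
  have h1 : (ψ.quotKerEquivOfSurjective hψ).symm (ψ a) = Submodule.Quotient.mk a := by
    rw [LinearEquiv.symm_apply_eq]
    rfl
  simp only [LinearMap.comp_apply, LinearEquiv.coe_coe, h1, Submodule.liftQ_apply]

end General

section Pull

variable {k : Type u} [Field k] {Q A : Type u} [CommRing Q] [HopfAlgebra k Q] [CommRing A]
  [HopfAlgebra k A]

/-- left slices are compatible with coalgebra maps -/
theorem lid_rTensor_map (φ : Q →ₐc[k] A) (g : A →ₗ[k] k) (t : Q ⊗[k] Q) :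
    TensorProduct.lid k A (g.rTensor A
      (TensorProduct.map (φ : Q →ₗ[k] A) (φ : Q →ₗ[k] A) t)) =
      φ (TensorProduct.lid k Q ((g ∘ₗ (φ : Q →ₗ[k] A)).rTensor Q t)) := by
  induction t with
  | zero => simp
  | tmul x y => simp
  | add x y hx hy => simp only [map_add, hx, hy]

/-- the integral of `G` restricts to an integral of the quotient `Q`. -/
theorem isInt_comp_of_injective (φ : Q →ₐc[k] A) (hφ : Function.Injective φ) (α : A →ₗ[k] k)
    (hα : IsInt α) : IsInt (α ∘ₗ (φ : Q →ₗ[k] A)) := by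
  intro q
  apply hφ
  rw [← lid_rTensor_map, CoalgHomClass.map_comp_comul_apply, hα (φ q)]
  simp

end Pull

section Avg

variable {k : Type u} [Field k] {A C : Type u} [CommRing A] [HopfAlgebra k A] [CommRing C]
  [HopfAlgebra k C]
variable (ψ : A →ₐc[k] C) (γ : C →ₗ[k] k)

/-- averaging over the subgroup: `a ↦ Σ γ(ψ a₁) a₂` -/
noncomputable def avg : A →ₗ[k] A := coefMap (A := A) (V := A) (γ ∘ₗ (ψ : A →ₗ[k] C))

theorem avg_apply (a : A) : avg ψ γ a =
    TensorProduct.lid k A ((γ ∘ₗ (ψ : A →ₗ[k] C)).rTensor A (Coalgebra.comul (R := k) a)) := rfl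

theorem comul_avg (a : A) :
    Coalgebra.comul (R := k) (avg ψ γ a) = (avg ψ γ).rTensor A (Coalgebra.comul (R := k) a) :=
  comul_coefMap (A := A) (V := A) _ a

theorem map_avg (hγ : IsInt γ) (a : A) : ψ (avg ψ γ a) = γ (ψ a) • (1 : C) := by
  rw [avg_apply, ← lid_rTensor_map ψ γ, CoalgHomClass.map_comp_comul_apply, hγ]

theorem rTensor_comul_avg (hγ : IsInt γ) (a : A) :
    (ψ : A →ₗ[k] C).rTensor A (Coalgebra.comul (R := k) (avg ψ γ a)) =
      (1 : C) ⊗ₜ[k] avg ψ γ a := by
  rw [comul_avg, ← LinearMap.comp_apply, ← LinearMap.rTensor_comp]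
  have h : (ψ : A →ₗ[k] C) ∘ₗ avg ψ γ =
      (LinearMap.toSpanSingleton k C 1) ∘ₗ (γ ∘ₗ (ψ : A →ₗ[k] C)) := by
    ext a
    simp only [LinearMap.comp_apply, LinearMap.toSpanSingleton_apply]
    exact map_avg ψ γ hγ a
  rw [h]
  have key : ∀ (g : A →ₗ[k] k) (t : A ⊗[k] A),
      ((LinearMap.toSpanSingleton k C 1) ∘ₗ g).rTensor A t =
        (1 : C) ⊗ₜ[k] (TensorProduct.lid k A (g.rTensor A t)) := by
    intro g t
    induction t with
    | zero => simp
    | tmul x y => simp [TensorProduct.smul_tmul]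
    | add x y hx hy => simp only [map_add, hx, hy, tmul_add]
  rw [key]
  rfl

theorem swap_aux (z : A ⊗[k] A) :
    (ψ : A →ₗ[k] C).lTensor A (TensorProduct.map (HopfAlgebra.antipode k) (HopfAlgebra.antipode k)
        (TensorProduct.comm k A A z)) =
      TensorProduct.map (HopfAlgebra.antipode k) (HopfAlgebra.antipode k)
        (TensorProduct.comm k C A ((ψ : A →ₗ[k] C).rTensor A z)) := by
  induction z with
  | zero => simp
  | tmul x y =>
    simp [Groth.Agent.H93.Takeuchi.bialgHom_antipode_apply]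
  | add x y hx hy => simp only [map_add, hx, hy]

/-- the antipode turns left coinvariants into right coinvariants -/
theorem lTensor_comul_antipode_of_left (b : A)
    (hb : (ψ : A →ₗ[k] C).rTensor A (Coalgebra.comul (R := k) b) = (1 : C) ⊗ₜ[k] b) :
    (ψ : A →ₗ[k] C).lTensor A (Coalgebra.comul (R := k) (HopfAlgebra.antipode k b)) =
      HopfAlgebra.antipode k b ⊗ₜ[k] (1 : C) := by
  rw [Groth.Agent.H83.comul_antipode, swap_aux, hb]
  simp

end Avg

section Ext

variable {k : Type u} [Field k] {Q A C : Type u} [CommRing Q] [HopfAlgebra k Q] [CommRing A]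
  [HopfAlgebra k A] [CommRing C] [HopfAlgebra k C]
variable (φ : Q →ₐc[k] A) (hφ : Function.Injective φ) (ψ : A →ₐc[k] C)
  (hψ : Function.Surjective ψ)
  (hker : RingHom.ker (ψ : A →ₐ[k] C) = Groth.Agent.H82.Takeuchi.augMap φ)

include hφ hψ hker in
/-- Takeuchi: left coinvariants of the kernel are functions on the quotient -/
theorem mem_range_of_left_coinv (b : A)
    (hb : (ψ : A →ₗ[k] C).rTensor A (Coalgebra.comul (R := k) b) = (1 : C) ⊗ₜ[k] b) :
    b ∈ Set.range φ := by
  have h1 := lTensor_comul_antipode_of_left ψ b hb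
  obtain ⟨g', hg'⟩ := exists_factor (ψ : A →ₗ[k] C) hψ
    (Ideal.Quotient.mkₐ k (Groth.Agent.H82.Takeuchi.augMap φ)).toLinearMap (by
      intro x hx
      rw [LinearMap.mem_ker] at hx ⊢
      have h2 : x ∈ RingHom.ker (ψ : A →ₐ[k] C) := hx
      rw [hker] at h2
      exact Ideal.Quotient.eq_zero_iff_mem.mpr h2)
  have h2 : Groth.Agent.H82.Takeuchi.IsCoinv (k := k) (Groth.Agent.H82.Takeuchi.augMap φ)
      (HopfAlgebra.antipode k b) := by
    unfold Groth.Agent.H82.Takeuchi.IsCoinv
    rw [← hg', LinearMap.lTensor_comp, LinearMap.comp_apply, h1, LinearMap.lTensor_tmul]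
    congr 1
    have h3 := LinearMap.congr_fun hg' 1
    simpa using h3
  obtain ⟨q, hq⟩ := Groth.Agent.H82.Takeuchi.mem_range_of_isCoinv φ hφ _ h2
  refine ⟨HopfAlgebra.antipode k q, ?_⟩
  rw [Groth.Agent.H93.Takeuchi.bialgHom_antipode_apply, hq,
    Groth.Agent.H74.HopfTrace.antipode_antipode_apply]

include hφ hψ hker in
/-- integrals of the kernel and of the quotient combine to an integral of the group. -/
theorem exists_integral_of_ext (γ : C →ₗ[k] k) (hγ : IsInt γ) (hγ1 : γ 1 = 1)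
    (β : Q →ₗ[k] k) (hβ : IsInt β) (hβ1 : β 1 = 1) :
    ∃ α : A →ₗ[k] k, IsInt α ∧ α 1 = 1 := by
  obtain ⟨r, hr⟩ := LinearMap.exists_leftInverse_of_injective (φ : Q →ₗ[k] A)
    (LinearMap.ker_eq_bot.2 hφ)
  have hr' : ∀ q, r (φ q) = q := fun q => LinearMap.congr_fun hr q
  have hE : ∀ a, ∃ q, φ q = avg ψ γ a := fun a =>
    mem_range_of_left_coinv φ hφ ψ hψ hker _ (rTensor_comul_avg ψ γ hγ a)
  refine ⟨β ∘ₗ r ∘ₗ avg ψ γ, ?_, ?_⟩
  · intro a
    obtain ⟨q, hq⟩ := hE a
    have h1 : (β ∘ₗ r ∘ₗ avg ψ γ).rTensor A (Coalgebra.comul (R := k) a) =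
        (β ∘ₗ r).rTensor A (Coalgebra.comul (R := k) (avg ψ γ a)) := by
      rw [comul_avg]
      have h0 : (β ∘ₗ r ∘ₗ avg ψ γ).rTensor A =
          (β ∘ₗ r).rTensor A ∘ₗ (avg ψ γ).rTensor A := by
        rw [← LinearMap.rTensor_comp, LinearMap.comp_assoc]
      rw [h0]
      rfl
    have h2 : (β ∘ₗ r) ∘ₗ (φ : Q →ₗ[k] A) = β := by
      ext x
      simp only [LinearMap.comp_apply]
      exact congrArg β (hr' x)
    rw [h1, ← hq, ← CoalgHomClass.map_comp_comul_apply φ q, lid_rTensor_map, h2, hβ q]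
    simp only [LinearMap.comp_apply, ← hq, hr']
    simp
  · have h1 : avg ψ γ (1 : A) = 1 := by
      rw [avg_apply, Bialgebra.comul_one, Algebra.TensorProduct.one_def, LinearMap.rTensor_tmul]
      simp [hγ1]
    simp only [LinearMap.comp_apply, h1]
    have : r 1 = 1 := by
      have := hr' 1
      rwa [map_one] at this
    rw [this, hβ1]

end Ext

end Groth.Agent.H83.ExactLR
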