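import Groth.Agent.H83.ExactLR1
import Groth.Agent.H93.Integral
import Groth.Agent.H93.DualMod

/-! Exact sequences `1 → K → G → Q → 1` of affine groups and Haar integrals, part 2:
the integral of `G` induces one on the kernel `K` (conditional expectation onto the functions on
`Q`, constructed as the orthogonal projection for the pairing `α (x y)`). -/

set_option autoImplicit false
universe u

open TensorProduct HopfRep

namespace Groth.Agent.H83.ExactLR

open Groth.Agent.H93 (IsInt slice dualAct slice_tmul dualAct_apply tw tw_tmul mS)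
open Groth.Agent.H93.NormalKer (coefMap coefMap_apply functional_coefMap comul_coefMap)

section Adj

variable {k : Type u} [Field k] {A : Type u} [CommRing A] [HopfAlgebra k A]
variable (α : A →ₗ[k] k)

theorem slice_mul_tmul_one (θ : A →ₗ[k] k) (t : A ⊗[k] A) (y : A) :
    slice A θ (t * (y ⊗ₜ[k] (1 : A))) = slice A θ t * y := by
  induction t with
  | zero => simp
  | tmul u c => simp [Algebra.TensorProduct.tmul_mul_tmul]
  | add s t hs ht => simp only [add_mul, map_add, hs, ht]

theorem alpha_slice_comul_mul (hα : IsInt α) (θ : A →ₗ[k] k) (z c : A) :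
    α (slice A θ (Coalgebra.comul (R := k) z * ((1 : A) ⊗ₜ[k] c))) = α z * θ c := by
  have key : ∀ t : A ⊗[k] A, α (slice A θ (t * ((1 : A) ⊗ₜ[k] c))) =
      θ (TensorProduct.lid k A (α.rTensor A t) * c) := by
    intro t
    induction t with
    | zero => simp
    | tmul u v => simp [Algebra.TensorProduct.tmul_mul_tmul, mul_comm]
    | add s t hs ht => simp only [add_mul, map_add, hs, ht]
  rw [key, hα z]
  simp

theorem lTensor_mul'_assoc_tmul (t : A ⊗[k] A) (c : A) :
    (LinearMap.mul' k A).lTensor A (TensorProduct.assoc k A A A (t ⊗ₜ[k] c)) =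
      t * ((1 : A) ⊗ₜ[k] c) := by
  induction t with
  | zero => simp
  | tmul u v => simp [Algebra.TensorProduct.tmul_mul_tmul]
  | add s t hs ht => simp only [add_tmul, map_add, add_mul, hs, ht]

theorem lTensor_mS_assoc_tmul_one (t : A ⊗[k] A) :
    (mS k A).lTensor A (TensorProduct.assoc k A A A (t ⊗ₜ[k] (1 : A))) =
      (HopfAlgebra.antipode k (A := A)).lTensor A t := by
  induction t with
  | zero => simp
  | tmul u v => simp
  | add s t hs ht => simp only [add_tmul, map_add, hs, ht]

theorem slice_lTensor (θ : A →ₗ[k] k) (f : A →ₗ[k] A) (t : A ⊗[k] A) :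
    slice A θ (f.lTensor A t) = slice A (θ ∘ₗ f) t := by
  induction t with
  | zero => simp
  | tmul u v => simp
  | add s t hs ht => simp only [map_add, hs, ht]

/-- adjointness of the dual action with respect to the integral pairing:
`α ((θ • x) y) = α (x ((θ ∘ S) • y))`. -/
theorem adj (hα : IsInt α) (θ : A →ₗ[k] k) (x y : A) :
    α (dualAct A θ x * y) = α (x * dualAct A (θ ∘ₗ HopfAlgebra.antipode k) y) := by
  have hL : dualAct A θ x * y =
      slice A θ (Coalgebra.comul (R := k) x * (y ⊗ₜ[k] (1 : A))) := by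
    rw [slice_mul_tmul_one]
    rfl
  have hI : y ⊗ₜ[k] (1 : A) =
      tw A (LinearMap.mul' k A) (tw A (mS k A) (y ⊗ₜ[k] (1 : A))) :=
    (LinearMap.congr_fun (Groth.Agent.H93.tw_mul_comp_tw_mS (V := A)) (y ⊗ₜ[k] (1 : A))).symm
  have K2 : ∀ w : A ⊗[k] A,
      α (slice A θ (Coalgebra.comul (R := k) x * tw A (LinearMap.mul' k A) w)) =
        α (x * slice A θ w) := by
    intro w
    induction w with
    | zero => simp
    | tmul u c =>
      rw [tw_tmul, lTensor_mul'_assoc_tmul]
      change α (slice A θ (Coalgebra.comul (R := k) x * (Coalgebra.comul (R := k) u * _))) = _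
      rw [← mul_assoc, ← Bialgebra.comul_mul, alpha_slice_comul_mul α hα, slice_tmul,
        mul_smul_comm, map_smul, smul_eq_mul, mul_comm]
    | add s t hs ht => simp only [map_add, mul_add, hs, ht]
  rw [hL, hI, K2, tw_tmul]
  change α (x * slice A θ ((mS k A).lTensor A (TensorProduct.assoc k A A A
    (Coalgebra.comul (R := k) y ⊗ₜ[k] (1 : A))))) = _
  rw [lTensor_mS_assoc_tmul_one, slice_lTensor]
  rfl

theorem coefMap_counit (x : A) :
    coefMap (A := A) (V := A) (Coalgebra.counit (R := k) (A := A)) x = x := by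
  rw [coefMap_apply]
  change TensorProduct.lid k A ((Coalgebra.counit (R := k) (A := A)).rTensor A
    (Coalgebra.comul (R := k) x)) = x
  rw [Coalgebra.rTensor_counit_comul]
  simp

theorem counit_dualAct (θ : A →ₗ[k] k) (x : A) :
    Coalgebra.counit (R := k) (dualAct A θ x) = θ x := by
  have h := functional_coefMap (A := A) (V := A) (Coalgebra.counit (R := k) (A := A)) θ x
  rw [coefMap_counit] at h
  exact h.symm

/-- the pairing `α (x y)` of a normalized integral is nondegenerate. -/
theorem eq_zero_of_forall_mul (hα : IsInt α) (h1 : α 1 = 1) (x : A)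
    (hx : ∀ y, α (x * y) = 0) : x = 0 := by
  let Rad : Submodule k A :=
    { carrier := {x | ∀ y, α (x * y) = 0}
      add_mem' := fun {a b} ha hb y => by rw [add_mul, map_add, ha y, hb y, add_zero]
      zero_mem' := fun y => by rw [zero_mul, map_zero]
      smul_mem' := fun c a ha y => by rw [smul_mul_assoc, map_smul, ha y, smul_zero] }
  have hRad : ∀ a, a ∈ Rad ↔ ∀ y, α (a * y) = 0 := fun a => Iff.rfl
  have hst : ∀ (θ : A →ₗ[k] k) (a : A), a ∈ Rad → dualAct A θ a ∈ Rad := by
    intro θ a ha y
    rw [adj α hα]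
    exact ha _
  have hε : ∀ a ∈ Rad, Coalgebra.counit (R := k) a = 0 := by
    intro a ha
    have hmem : Coalgebra.comul (R := k) a ∈ LinearMap.range (Rad.subtype.rTensor A) :=
      (Groth.Agent.H93.mem_range_rTensor_subtype_iff (V := A) Rad _).2 (fun θ => hst θ a ha)
    obtain ⟨t, ht⟩ := hmem
    have hT : α (LinearMap.mul' k A ((HopfAlgebra.antipode k (A := A)).lTensor A
        (Coalgebra.comul (R := k) a))) = Coalgebra.counit (R := k) a := by
      rw [HopfAlgebra.mul_antipode_lTensor_comul_apply, Algebra.algebraMap_eq_smul_one, map_smul,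
        h1, smul_eq_mul, mul_one]
    rw [← hT, ← ht]
    clear ht hT
    induction t with
    | zero => simp
    | tmul r c =>
      simp only [LinearMap.rTensor_tmul, Submodule.subtype_apply, LinearMap.lTensor_tmul,
        LinearMap.mul'_apply]
      exact r.2 _
    | add s t hs ht => simp only [map_add, hs, ht, add_zero]
  have hall : ∀ θ : A →ₗ[k] k, θ x = 0 := by
    intro θ
    have h2 := hε _ (hst θ x hx)
    rwa [counit_dualAct] at h2
  exact (Module.forall_dual_apply_eq_zero_iff k x).1 hall

end Adj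

section Maps

variable {k : Type u} [Field k] {Q A : Type u} [CommRing Q] [HopfAlgebra k Q] [CommRing A]
  [HopfAlgebra k A]
variable (φ : Q →ₐc[k] A) (α : A →ₗ[k] k)

theorem dualAct_map (θ : A →ₗ[k] k) (q : Q) :
    dualAct A θ (φ q) = φ (dualAct Q (θ ∘ₗ (φ : Q →ₗ[k] A)) q) := by
  rw [dualAct_apply, dualAct_apply]
  change slice A θ (Coalgebra.comul (R := k) (φ q)) =
    φ (slice Q (θ ∘ₗ (φ : Q →ₗ[k] A)) (Coalgebra.comul (R := k) q))
  rw [← CoalgHomClass.map_comp_comul_apply φ q]
  generalize Coalgebra.comul (R := k) q = t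
  induction t with
  | zero => simp
  | tmul x y => simp
  | add x y hx hy => simp only [map_add, hx, hy]

theorem coefMap_map (g : A →ₗ[k] k) (q : Q) :
    coefMap (A := A) (V := A) g (φ q) =
      φ (coefMap (A := Q) (V := Q) (g ∘ₗ (φ : Q →ₗ[k] A)) q) := by
  rw [coefMap_apply, coefMap_apply]
  change TensorProduct.lid k A (g.rTensor A (Coalgebra.comul (R := k) (φ q))) =
    φ (TensorProduct.lid k Q ((g ∘ₗ (φ : Q →ₗ[k] A)).rTensor Q (Coalgebra.comul (R := k) q)))
  rw [← CoalgHomClass.map_comp_comul_apply φ q, lid_rTensor_map]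

/-- orthogonal of the image of `φ` for the integral pairing -/
def perp : Submodule k A where
  carrier := {x | ∀ q : Q, α (x * φ q) = 0}
  add_mem' := fun {a b} ha hb q => by rw [add_mul, map_add, ha q, hb q, add_zero]
  zero_mem' := fun q => by rw [zero_mul, map_zero]
  smul_mem' := fun c a ha q => by rw [smul_mul_assoc, map_smul, ha q, smul_zero]

theorem mem_perp (x : A) : x ∈ perp φ α ↔ ∀ q : Q, α (x * φ q) = 0 := Iff.rfl

theorem isSubcomod_range :
    IsSubcomod (k := k) (A := A) (LinearMap.range (φ : Q →ₗ[k] A)) := by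
  rw [Groth.Agent.H93.isSubcomod_iff]
  rintro θ _ ⟨q, rfl⟩
  exact ⟨_, (dualAct_map φ θ q).symm⟩

theorem isSubcomod_perp (hα : IsInt α) : IsSubcomod (k := k) (A := A) (perp φ α) := by
  rw [Groth.Agent.H93.isSubcomod_iff]
  intro θ x hx q
  rw [adj α hα, dualAct_map]
  exact hx _

theorem mul_mem_perp (q : Q) (x : A) (hx : x ∈ perp φ α) : φ q * x ∈ perp φ α := by
  intro q'
  have h := hx (q * q')
  rw [map_mul φ q q'] at h
  rw [mul_comm (φ q) x, mul_assoc]
  exact h

theorem range_inf_perp (hφ : Function.Injective φ) (hα : IsInt α) (h1 : α 1 = 1) :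
    LinearMap.range (φ : Q →ₗ[k] A) ⊓ perp φ α = ⊥ := by
  rw [eq_bot_iff]
  rintro _ ⟨⟨q, rfl⟩, hq⟩
  have hβ : IsInt (α ∘ₗ (φ : Q →ₗ[k] A)) := isInt_comp_of_injective φ hφ α hα
  have hβ1 : (α ∘ₗ (φ : Q →ₗ[k] A)) 1 = 1 := by
    simp only [LinearMap.comp_apply]
    change α (φ 1) = 1
    rw [map_one, h1]
  have h0 : q = 0 := by
    apply eq_zero_of_forall_mul (α ∘ₗ (φ : Q →ₗ[k] A)) hβ hβ1
    intro y
    have := hq y
    simp only [LinearMap.comp_apply]
    change α (φ (q * y)) = 0
    rw [map_mul]
    exact this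
  rw [h0]
  simp

end Maps

end Groth.Agent.H83.ExactLR
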