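import Groth.Agent.H83.ExactLR2

/-! Exact sequences `1 → K → G → Q → 1` of affine groups and Haar integrals, part 3:
the image of `φ` and its orthogonal are complementary; conditional expectation; the integral
on the kernel. -/

set_option autoImplicit false
universe u

open TensorProduct HopfRep

namespace Groth.Agent.H83.ExactLR

open Groth.Agent.H93 (IsInt slice dualAct slice_tmul dualAct_apply)
open Groth.Agent.H93.NormalKer (coefMap coefMap_apply functional_coefMap comul_coefMap)

attribute [local instance] Groth.Agent.H93.dualModule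

section Mod

variable {k : Type u} [Field k] {A : Type u} [CommRing A] [HopfAlgebra k A]

/-- In a semisimple regular comodule, a comodule map into a subcoalgebra `Bm` kills every
subcomodule meeting `Bm` trivially. -/
theorem hom_vanish [IsSemisimpleModule (WithConv (A →ₗ[k] k)) A]
    (Bm D : Submodule (WithConv (A →ₗ[k] k)) A) (hdisj : Bm ⊓ D = ⊥)
    (hB : ∀ (g : A →ₗ[k] k) (b : A), b ∈ Bm → coefMap (A := A) (V := A) g b ∈ Bm)
    (f : A →ₗ[WithConv (A →ₗ[k] k)] A) (hf : ∀ x, f x ∈ Bm) : ∀ d ∈ D, f d = 0 := by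
  obtain ⟨W', hW'⟩ := exists_isCompl (LinearMap.ker f ⊓ D)
  have hinj : ∀ u ∈ W' ⊓ D, f u = 0 → u = 0 := by
    intro u hu h0
    have h2 : u ∈ (LinearMap.ker f ⊓ D) ⊓ W' := ⟨⟨LinearMap.mem_ker.2 h0, hu.2⟩, hu.1⟩
    rw [hW'.inf_eq_bot] at h2
    exact (Submodule.mem_bot _).1 h2
  have hUB : ∀ u ∈ W' ⊓ D, u ∈ Bm := by
    intro u hu
    let Uk : Submodule k A := (W' ⊓ D).restrictScalars k
    let fU : Uk →ₗ[k] A := (f.restrictScalars k) ∘ₗ Uk.subtype
    have hfU : LinearMap.ker fU = ⊥ := by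
      rw [LinearMap.ker_eq_bot']
      intro m hm
      exact Subtype.ext (hinj m.1 m.2 hm)
    obtain ⟨r, hr⟩ := LinearMap.exists_leftInverse_of_injective fU hfU
    let g : A →ₗ[k] k := Coalgebra.counit (R := k) (A := A) ∘ₗ Uk.subtype ∘ₗ r
    have hg : ∀ u' ∈ W' ⊓ D, g (f u') = Coalgebra.counit (R := k) u' := by
      intro u' hu'
      have h3 : r (f u') = ⟨u', hu'⟩ := LinearMap.congr_fun hr ⟨u', hu'⟩
      simp only [g, LinearMap.comp_apply, h3]
      rfl
    have hcoef : coefMap (A := A) (V := A) g (f u) = u := by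
      rw [← sub_eq_zero, ← Module.forall_dual_apply_eq_zero_iff k]
      intro θ
      rw [map_sub, sub_eq_zero]
      have e1 : θ (coefMap (A := A) (V := A) g (f u)) = g (dualAct A θ (f u)) :=
        functional_coefMap g θ (f u)
      have e2 : dualAct A θ (f u) = f (dualAct A θ u) :=
        (f.map_smul (WithConv.toConv θ) u).symm
      have e3 : dualAct A θ u ∈ W' ⊓ D := (W' ⊓ D).smul_mem (WithConv.toConv θ) hu
      rw [e1, e2, hg _ e3, counit_dualAct]
    rw [← hcoef]
    exact hB g _ (hf u)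
  have hU0 : ∀ u ∈ W' ⊓ D, u = 0 := by
    intro u hu
    have h : u ∈ Bm ⊓ D := ⟨hUB u hu, hu.2⟩
    rw [hdisj] at h
    exact (Submodule.mem_bot _).1 h
  intro d hd
  have hd' : d ∈ (LinearMap.ker f ⊓ D) ⊔ W' := by
    rw [hW'.sup_eq_top]
    trivial
  obtain ⟨w, hw, w', hw', rfl⟩ := Submodule.mem_sup.1 hd'
  have hw'D : w' ∈ D := by
    have h := D.sub_mem hd hw.2
    simpa using h
  rw [hU0 w' ⟨hw', hw'D⟩, add_zero]
  exact LinearMap.mem_ker.1 hw.1

end Mod

section Main

variable {k : Type u} [Field k] {Q A C : Type u} [CommRing Q] [HopfAlgebra k Q] [CommRing A]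
  [HopfAlgebra k A] [CommRing C] [HopfAlgebra k C]
variable (φ : Q →ₐc[k] A) (α : A →ₗ[k] k)

theorem range_sup_perp (hα : IsInt α) (h1 : α 1 = 1) :
    LinearMap.range (φ : Q →ₗ[k] A) ⊔ perp φ α = ⊤ := by
  have hss : IsSemisimpleModule (WithConv (A →ₗ[k] k)) A :=
    Groth.Agent.H93.isSemisimpleModule_dual_iff.2
      (Groth.Agent.H93.isSemisimpleComod_of_integral α
        ((Groth.Agent.H93.isComodHom_iff_isInt α).2 hα) h1)
  let Bm : Submodule (WithConv (A →ₗ[k] k)) A :=
    Groth.Agent.H93.toDualSub _ (isSubcomod_range φ)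
  have hBm : ∀ x, x ∈ Bm ↔ x ∈ LinearMap.range (φ : Q →ₗ[k] A) := fun x => Iff.rfl
  obtain ⟨D, hD⟩ := exists_isCompl Bm
  have hDperp : ∀ d ∈ D, d ∈ perp φ α := by
    intro d hd q
    let f0 : A →ₗ[k] A := coefMap (A := A) (V := A) (α ∘ₗ LinearMap.mulRight k (φ q))
    have hf0 : Hoch.IsComodHom A f0 := by
      apply LinearMap.ext
      intro x
      exact comul_coefMap (A := A) (V := A) _ x
    let f : A →ₗ[WithConv (A →ₗ[k] k)] A := Groth.Agent.H93.toDualHom f0 hf0
    have hfun : ∀ (θ : A →ₗ[k] k) (x : A), θ (f0 x) = α (dualAct A θ x * φ q) := by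
      intro θ x
      exact functional_coefMap (A := A) (V := A) (α ∘ₗ LinearMap.mulRight k (φ q)) θ x
    have hfB : ∀ x, f x ∈ Bm := by
      intro x
      rw [hBm]
      change f0 x ∈ LinearMap.range (φ : Q →ₗ[k] A)
      by_contra hx
      obtain ⟨θ, hθ, hθB⟩ := Submodule.exists_le_ker_of_notMem hx
      apply hθ
      rw [hfun, adj α hα, dualAct_map]
      have e2 : (θ ∘ₗ HopfAlgebra.antipode k) ∘ₗ (φ : Q →ₗ[k] A) = 0 := by
        apply LinearMap.ext
        intro q'
        simp only [LinearMap.comp_apply, LinearMap.zero_apply]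
        change θ (HopfAlgebra.antipode k (φ q')) = 0
        rw [← Groth.Agent.H93.Takeuchi.bialgHom_antipode_apply]
        exact LinearMap.mem_ker.1 (hθB ⟨_, rfl⟩)
      rw [e2, Groth.Agent.H93.dualAct_zero]
      simp
    have hB : ∀ (g : A →ₗ[k] k) (b : A), b ∈ Bm → coefMap (A := A) (V := A) g b ∈ Bm := by
      rintro g _ ⟨q', rfl⟩
      exact ⟨_, (coefMap_map φ g q').symm⟩
    have h0 : f0 d = 0 := hom_vanish Bm D hD.inf_eq_bot hB f hfB d hd
    have e3 := hfun (Coalgebra.counit (R := k) (A := A)) d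
    rw [Groth.Agent.H93.dualAct_counit, LinearMap.id_apply, h0, map_zero] at e3
    exact e3.symm
  rw [eq_top_iff]
  intro x _
  have hx : x ∈ Bm ⊔ D := by
    rw [hD.sup_eq_top]
    trivial
  obtain ⟨b, hb, d, hd, rfl⟩ := Submodule.mem_sup.1 hx
  exact Submodule.add_mem_sup ((hBm b).1 hb) (hDperp d hd)

variable (hφ : Function.Injective φ) (ψ : A →ₐc[k] C) (hψ : Function.Surjective ψ)
  (hker : RingHom.ker (ψ : A →ₐ[k] C) = Groth.Agent.H82.Takeuchi.augMap φ)

include hφ hψ hker in
/-- the integral of `G` induces an integral on the kernel `K`. -/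
theorem exists_integral_ker (hα : IsInt α) (h1 : α 1 = 1) :
    ∃ γ : C →ₗ[k] k, IsInt γ ∧ γ 1 = 1 := by
  have hcompl : IsCompl (LinearMap.range (φ : Q →ₗ[k] A)) (perp φ α) :=
    ⟨disjoint_iff.2 (range_inf_perp φ α hφ hα h1), codisjoint_iff.2 (range_sup_perp φ α hα h1)⟩
  let P : A →ₗ[k] A := (LinearMap.range (φ : Q →ₗ[k] A)).projection (perp φ α) hcompl
  have hPB : ∀ a, ∃ q, φ q = P a := fun a => Submodule.projection_apply_mem hcompl a
  have huniq : ∀ b d, b ∈ LinearMap.range (φ : Q →ₗ[k] A) → d ∈ perp φ α → P (b + d) = b := by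
    intro b d hb hd
    rw [map_add, Submodule.projection_apply_of_mem_left hcompl hb,
      Submodule.projection_apply_of_mem_right hcompl hd, add_zero]
  have hPperp : ∀ a, a - P a ∈ perp φ α := by
    intro a
    rw [← Submodule.projection_apply_eq_zero_iff hcompl, map_sub,
      Submodule.projection_apply_of_mem_left hcompl (Submodule.projection_apply_mem hcompl a),
      sub_self]
  have hPmul : ∀ q a, P (φ q * a) = φ q * P a := by
    intro q a
    have h : φ q * a = φ q * P a + φ q * (a - P a) := by ring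
    rw [h]
    apply huniq
    · obtain ⟨q', hq'⟩ := hPB a
      exact ⟨q * q', by rw [← hq']; exact map_mul φ q q'⟩
    · exact mul_mem_perp φ α q _ (hPperp a)
  have hPact : ∀ (θ : A →ₗ[k] k) a, P (dualAct A θ a) = dualAct A θ (P a) := by
    intro θ a
    have h : dualAct A θ a = dualAct A θ (P a) + dualAct A θ (a - P a) := by
      rw [← map_add]
      congr 1
      ring
    rw [h]
    apply huniq
    · exact Groth.Agent.H93.dualAct_mem_of_isSubcomod (isSubcomod_range φ) θ
        (Submodule.projection_apply_mem hcompl a)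
    · exact Groth.Agent.H93.dualAct_mem_of_isSubcomod (isSubcomod_perp φ α hα) θ (hPperp a)
  have hP1 : P 1 = 1 := by
    have h := huniq 1 0 ⟨1, map_one φ⟩ (Submodule.zero_mem _)
    rwa [add_zero] at h
  let γ₀ : A →ₗ[k] k := Coalgebra.counit (R := k) (A := A) ∘ₗ P
  have hγ₀mul : ∀ q a, γ₀ (a * φ q) = γ₀ a * Coalgebra.counit (R := k) q := by
    intro q a
    simp only [γ₀, LinearMap.comp_apply]
    rw [mul_comm a (φ q), hPmul, Bialgebra.counit_mul, CoalgHomClass.counit_comp_apply, mul_comm]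
  have hkill : ∀ x ∈ Groth.Agent.H82.Takeuchi.augMap φ, ∀ a, γ₀ (a * x) = 0 := by
    intro x hx
    unfold Groth.Agent.H82.Takeuchi.augMap Ideal.map at hx
    induction hx using Submodule.span_induction with
    | mem x hx =>
      obtain ⟨q, hq, rfl⟩ := hx
      intro a
      have hq0 : Coalgebra.counit (R := k) q = 0 := hq
      change γ₀ (a * φ q) = 0
      rw [hγ₀mul, hq0, mul_zero]
    | zero => intro a; rw [mul_zero, map_zero]
    | add x y _ _ hx hy => intro a; rw [mul_add, map_add, hx a, hy a, add_zero]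
    | smul r x _ hx =>
      intro a
      rw [smul_eq_mul, ← mul_assoc]
      exact hx (a * r)
  have hle : LinearMap.ker (ψ : A →ₗ[k] C) ≤ LinearMap.ker γ₀ := by
    intro x hx
    have h2 : x ∈ RingHom.ker (ψ : A →ₐ[k] C) := LinearMap.mem_ker.1 hx
    rw [hker] at h2
    have := hkill x h2 1
    rw [one_mul] at this
    exact LinearMap.mem_ker.2 this
  obtain ⟨γ, hγ⟩ := exists_factor (ψ : A →ₗ[k] C) hψ γ₀ hle
  have hγ' : ∀ a, γ (ψ a) = γ₀ a := fun a => LinearMap.congr_fun hγ a
  have hψφ : ∀ q, ψ (φ q) = Coalgebra.counit (R := k) q • (1 : C) := by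
    intro q
    have hmem : q - algebraMap k Q (Coalgebra.counit (R := k) q) ∈
        RingHom.ker (Bialgebra.counitAlgHom k Q) := by
      rw [RingHom.mem_ker, map_sub, AlgHom.commutes]
      simp
    have h2 : φ (q - algebraMap k Q (Coalgebra.counit (R := k) q)) ∈
        Groth.Agent.H82.Takeuchi.augMap φ := Ideal.mem_map_of_mem (φ : Q →+* A) hmem
    rw [← hker, RingHom.mem_ker] at h2
    have h3 : ψ (φ (q - algebraMap k Q (Coalgebra.counit (R := k) q))) = 0 := h2
    rw [map_sub, map_sub, sub_eq_zero] at h3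
    rw [h3, Algebra.algebraMap_eq_smul_one, map_smul, map_smul, map_one, map_one]
  refine ⟨γ, ?_, ?_⟩
  · intro c
    obtain ⟨a, rfl⟩ := hψ c
    rw [← CoalgHomClass.map_comp_comul_apply ψ a, lid_rTensor_map, hγ]
    have hcoef : TensorProduct.lid k A (γ₀.rTensor A (Coalgebra.comul (R := k) a)) = P a := by
      change coefMap (A := A) (V := A) γ₀ a = P a
      rw [← sub_eq_zero, ← Module.forall_dual_apply_eq_zero_iff k]
      intro θ
      rw [map_sub, sub_eq_zero]
      have e1 : θ (coefMap (A := A) (V := A) γ₀ a) = γ₀ (dualAct A θ a) :=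
        functional_coefMap γ₀ θ a
      rw [e1]
      simp only [γ₀, LinearMap.comp_apply]
      rw [hPact, counit_dualAct]
    rw [hcoef, hγ']
    obtain ⟨q, hq⟩ := hPB a
    simp only [γ₀, LinearMap.comp_apply]
    rw [← hq, hψφ, CoalgHomClass.counit_comp_apply]
  · have h := hγ' 1
    rw [map_one] at h
    rw [h]
    simp only [γ₀, LinearMap.comp_apply, hP1]
    exact Bialgebra.counit_one

end Main

end Groth.Agent.H83.ExactLR
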