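import Mathlib

/-! Duality for finite-dimensional coalgebras over a field: points of the dual algebra are
group-like elements, point derivations are primitive elements. -/

set_option autoImplicit false
universe u v

namespace Groth.Agent.H83.FinDual

open TensorProduct WithConv Coalgebra

section Sep

variable {k : Type u} [Field k] {V : Type v} [AddCommGroup V] [Module k V] [FiniteDimensional k V]

/-- pairs of functionals separate the elements of `V ⊗ V` -/
theorem tensor_sep (t : V ⊗[k] V)
    (h : ∀ f g : V →ₗ[k] k, LinearMap.mul' k k (TensorProduct.map f g t) = 0) : t = 0 := by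
  classical
  let b := Module.finBasis k V
  have key : ∀ (t : V ⊗[k] V) (i j : Fin (Module.finrank k V)),
      (b.tensorProduct b).repr t (i, j) =
        LinearMap.mul' k k (TensorProduct.map (b.coord i) (b.coord j) t) := by
    intro t i j
    induction t using TensorProduct.induction_on with
    | zero => simp
    | tmul x y => simp [Module.Basis.tensorProduct_repr_tmul_apply, mul_comm]
    | add x y hx hy => simp only [map_add, Finsupp.coe_add, Pi.add_apply, hx, hy]
  apply (b.tensorProduct b).ext_elem
  rintro ⟨i, j⟩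
  rw [key, h]
  simp

end Sep

section Coalg

variable {k : Type u} [Field k] {A : Type v} [AddCommGroup A] [Module k A] [Coalgebra k A]
  [FiniteDimensional k A]

local notation "DD" => WithConv (A →ₗ[k] k)

omit [Coalgebra k A] in
/-- every functional on the dual is evaluation at an element -/
theorem exists_ev_eq (φ : DD →ₗ[k] k) : ∃ a : A, ∀ f : DD, φ f = f.ofConv a := by
  let ψ : Module.Dual k (Module.Dual k A) := φ ∘ₗ (WithConv.linearEquiv k (A →ₗ[k] k)).symm.toLinearMap
  refine ⟨(Module.evalEquiv k A).symm ψ, fun f => ?_⟩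
  have h1 : Module.evalEquiv k A ((Module.evalEquiv k A).symm ψ) = ψ :=
    LinearEquiv.apply_symm_apply _ _
  have h2 := LinearMap.congr_fun h1 f.ofConv
  rw [Module.evalEquiv_apply, Module.Dual.eval_apply] at h2
  rw [h2]
  simp [ψ]

/-- a multiplicative unital functional on the dual algebra is evaluation at a group-like -/
theorem isGroupLikeElem_of_mul (a : A)
    (h1 : counit (R := k) a = 1)
    (hmul : ∀ f g : DD, (f * g).ofConv a = f.ofConv a * g.ofConv a) :
    IsGroupLikeElem k a := by
  refine ⟨h1, ?_⟩
  rw [← sub_eq_zero]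
  apply tensor_sep
  intro f g
  have := hmul (toConv f) (toConv g)
  rw [LinearMap.convMul_apply] at this
  rw [map_sub, map_sub, this]
  simp

/-- a point derivation at the counit is evaluation at a primitive element -/
theorem isPrimitive_of_deriv (e x : A)
    (hder : ∀ f g : DD, (f * g).ofConv x = f.ofConv e * g.ofConv x + f.ofConv x * g.ofConv e) :
    comul (R := k) x = x ⊗ₜ[k] e + e ⊗ₜ[k] x := by
  rw [← sub_eq_zero]
  apply tensor_sep
  intro f g
  have := hder (toConv f) (toConv g)
  rw [LinearMap.convMul_apply] at this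
  rw [map_sub, map_sub, this]
  simp
  ring

end Coalg

section Points

variable {k : Type u} [Field k] [IsAlgClosed k] {D : Type v} [CommRing D] [Algebra k D]
  [Module.Finite k D]

/-- every maximal ideal of a finite algebra over an algebraically closed field is the kernel
of a point -/
theorem exists_algHom_ker_eq (m : Ideal D) [hm : m.IsMaximal] :
    ∃ χ : D →ₐ[k] k, RingHom.ker χ = m := by
  let _ := Ideal.Quotient.field m
  have hb : Function.Bijective (algebraMap k (D ⧸ m)) :=
    IsAlgClosed.algebraMap_bijective_of_isIntegral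
  let e : k ≃ₐ[k] (D ⧸ m) := AlgEquiv.ofBijective (Algebra.ofId k (D ⧸ m)) hb
  refine ⟨(e.symm : (D ⧸ m) →ₐ[k] k).comp (Ideal.Quotient.mkₐ k m), ?_⟩
  ext x
  simp [RingHom.mem_ker, Ideal.Quotient.eq_zero_iff_mem]

/-- points separate the elements of a reduced finite algebra over an algebraically closed
field -/
theorem exists_algHom_ne_zero [IsReduced D] (f : D) (hf : f ≠ 0) :
    ∃ χ : D →ₐ[k] k, χ f ≠ 0 := by
  have : IsArtinianRing D := IsArtinianRing.of_finite k D
  have hJ : Ideal.jacobson (⊥ : Ideal D) = ⊥ := by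
    rw [IsArtinianRing.jacobson_eq_radical]
    exact nilradical_eq_zero D
  have hf' : f ∉ Ideal.jacobson (⊥ : Ideal D) := by
    rw [hJ]; simpa using hf
  rw [Ideal.jacobson, Ideal.mem_sInf] at hf'
  push Not at hf'
  obtain ⟨m, ⟨-, hm⟩, hfm⟩ := hf'
  obtain ⟨χ, hχ⟩ := exists_algHom_ker_eq (k := k) m
  refine ⟨χ, fun h => hfm ?_⟩
  rw [← hχ]
  exact h

end Points

section HopfIdeal

variable {k : Type u} [CommRing k] {A : Type v} [CommRing A] [HopfAlgebra k A]

/-- the ideal generated by a skew-primitive-like element is a Hopf ideal -/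
theorem isHopfIdeal_span_singleton (s u v w : A) (hε : counit (R := k) s = 0)
    (hΔ : comul (R := k) s = s ⊗ₜ[k] u + v ⊗ₜ[k] s)
    (hS : HopfAlgebra.antipode k s = w * s) :
    (Ideal.span {s}).IsHopfIdeal k := by
  have hs : s ∈ Ideal.span {s} := Ideal.subset_span rfl
  refine { counit_eq_zero := ?_, map_mkQ_comul_eq_zero := ?_, antipode_mem := ?_ }
  · intro x hx
    obtain ⟨a, rfl⟩ := Ideal.mem_span_singleton'.1 hx
    rw [Bialgebra.counit_mul, hε, mul_zero]
  · intro x hx
    obtain ⟨a, rfl⟩ := Ideal.mem_span_singleton'.1 hx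
    show (Algebra.TensorProduct.map (Ideal.Quotient.mkₐ k (Ideal.span {s}))
      (Ideal.Quotient.mkₐ k (Ideal.span {s}))) (comul (R := k) (a * s)) = 0
    rw [Bialgebra.comul_mul, map_mul, hΔ, map_add, Algebra.TensorProduct.map_tmul,
      Algebra.TensorProduct.map_tmul]
    have h0 : (Ideal.Quotient.mkₐ k (Ideal.span {s})) s = 0 := by
      simp [Ideal.Quotient.eq_zero_iff_mem.2 hs]
    rw [h0, zero_tmul, tmul_zero, add_zero, mul_zero]
  · intro x hx
    obtain ⟨a, rfl⟩ := Ideal.mem_span_singleton'.1 hx
    rw [HopfAlgebra.antipode_mul_distrib, hS, ← mul_assoc]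
    exact Ideal.mul_mem_left _ _ hs

/-- the ideal generated by `g - 1` for a group-like `g` is a Hopf ideal -/
theorem isHopfIdeal_span_groupLike_sub_one (g : A) (hg : IsGroupLikeElem k g) :
    (Ideal.span {g - 1}).IsHopfIdeal k := by
  apply isHopfIdeal_span_singleton (g - 1) g 1 (-HopfAlgebra.antipode k g)
  · simp [hg.counit_eq_one]
  · rw [map_sub, hg.comul_eq_tmul_self, Bialgebra.comul_one, sub_tmul, tmul_sub,
      Algebra.TensorProduct.one_def]
    abel
  · rw [map_sub, HopfAlgebra.antipode_one, neg_mul, mul_sub, hg.antipode_mul_cancel]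
    ring

/-- counit and antipode of a primitive element -/
theorem counit_eq_zero_of_primitive (x : A)
    (hx : comul (R := k) x = x ⊗ₜ[k] (1 : A) + (1 : A) ⊗ₜ[k] x) : counit (R := k) x = 0 := by
  have h := Coalgebra.lTensor_counit_comul (R := k) x
  rw [hx, map_add, LinearMap.lTensor_tmul, LinearMap.lTensor_tmul, Bialgebra.counit_one] at h
  have h2 := congrArg (TensorProduct.rid k A) h
  simp only [map_add, rid_tmul, one_smul, add_eq_left] at h2
  have h3 := congrArg (counit (R := k)) h2
  simpa using h3

theorem antipode_of_primitive (x : A)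
    (hx : comul (R := k) x = x ⊗ₜ[k] (1 : A) + (1 : A) ⊗ₜ[k] x) :
    HopfAlgebra.antipode k x = -x := by
  have h := HopfAlgebra.mul_antipode_rTensor_comul_apply (R := k) x
  rw [hx, counit_eq_zero_of_primitive x hx, map_add, LinearMap.rTensor_tmul,
    LinearMap.rTensor_tmul, map_add, LinearMap.mul'_apply, LinearMap.mul'_apply,
    HopfAlgebra.antipode_one, mul_one, one_mul, map_zero] at h
  exact eq_neg_of_add_eq_zero_left h

/-- the ideal generated by a primitive element is a Hopf ideal -/
theorem isHopfIdeal_span_primitive (x : A)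
    (hx : comul (R := k) x = x ⊗ₜ[k] (1 : A) + (1 : A) ⊗ₜ[k] x) :
    (Ideal.span {x}).IsHopfIdeal k := by
  apply isHopfIdeal_span_singleton x 1 1 (-1) (counit_eq_zero_of_primitive x hx) hx
  rw [antipode_of_primitive x hx]
  ring

end HopfIdeal

end Groth.Agent.H83.FinDual
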