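import Mathlib

/-!
Flat base change of a "cohomology module" `ker f ⧸ (B ∩ ker f)`.
-/

set_option autoImplicit false
open TensorProduct

namespace Groth.Agent.H83.FlatQuot

section

variable {K : Type*} [CommRing K] {R : Type*} [CommRing R] [Algebra K R] [Module.Flat K R]
variable {M M1 : Type*} [AddCommGroup M] [Module K M] [AddCommGroup M1] [Module K M1]

/-- exactness is preserved by flat base change (in `baseChange` form). -/
theorem exact_baseChange {N N' N'' : Type*} [AddCommGroup N] [AddCommGroup N'] [AddCommGroup N'']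
    [Module K N] [Module K N'] [Module K N''] {f : N →ₗ[K] N'} {g : N' →ₗ[K] N''}
    (h : Function.Exact f g) : Function.Exact (f.baseChange R) (g.baseChange R) := by
  have := Module.Flat.lTensor_exact R h
  intro y
  have hy := this y
  rw [LinearMap.baseChange_eq_ltensor, LinearMap.baseChange_eq_ltensor]
  exact hy

theorem injective_baseChange {N N' : Type*} [AddCommGroup N] [AddCommGroup N']
    [Module K N] [Module K N'] (f : N →ₗ[K] N') (hf : Function.Injective f) :
    Function.Injective (f.baseChange R) := by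
  rw [LinearMap.baseChange_eq_ltensor]
  exact Module.Flat.lTensor_preserves_injective_linearMap f hf

theorem baseChange_comp_apply {N N' N'' : Type*} [AddCommGroup N] [AddCommGroup N']
    [AddCommGroup N''] [Module K N] [Module K N'] [Module K N''] (f : N →ₗ[K] N')
    (g : N' →ₗ[K] N'') (x : R ⊗[K] N) :
    g.baseChange R (f.baseChange R x) = (g ∘ₗ f).baseChange R x := by
  rw [LinearMap.baseChange_comp]
  rfl

end

section Main

variable {K : Type*} [CommRing K] {R : Type*} [CommRing R] [Algebra K R] [Module.Flat K R]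
variable {M M1 : Type*} [AddCommGroup M] [Module K M] [AddCommGroup M1] [Module K M1]
variable {M' M1' : Type*} [AddCommGroup M'] [Module R M'] [AddCommGroup M1'] [Module R M1']
variable (f : M →ₗ[K] M1) (B : Submodule K M) (f' : M' →ₗ[R] M1') (B' : Submodule R M')
variable (Φ : R ⊗[K] M ≃ₗ[R] M') (Φ1 : R ⊗[K] M1 ≃ₗ[R] M1')

/-- the comparison map on kernels. -/
noncomputable def kerMap (hf : ∀ x, Φ1 (f.baseChange R x) = f' (Φ x)) :
    R ⊗[K] (LinearMap.ker f) →ₗ[R] LinearMap.ker f' :=
  LinearMap.codRestrict (LinearMap.ker f')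
    (Φ.toLinearMap ∘ₗ (LinearMap.ker f).subtype.baseChange R) (by
      intro x
      change f' (Φ ((LinearMap.ker f).subtype.baseChange R x)) = 0
      rw [← hf, baseChange_comp_apply]
      have : f ∘ₗ (LinearMap.ker f).subtype = 0 := by
        apply LinearMap.ext
        intro z
        exact z.2
      rw [this, LinearMap.baseChange_zero, LinearMap.zero_apply, map_zero])

theorem kerMap_coe (hf : ∀ x, Φ1 (f.baseChange R x) = f' (Φ x)) (x : R ⊗[K] (LinearMap.ker f)) :
    ((kerMap f f' Φ Φ1 hf x : LinearMap.ker f') : M') =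
      Φ ((LinearMap.ker f).subtype.baseChange R x) := rfl

theorem kerMap_bijective (hf : ∀ x, Φ1 (f.baseChange R x) = f' (Φ x)) :
    Function.Bijective (kerMap f f' Φ Φ1 hf) := by
  constructor
  · intro x y hxy
    have h1 : Φ ((LinearMap.ker f).subtype.baseChange R x) =
        Φ ((LinearMap.ker f).subtype.baseChange R y) := by
      rw [← kerMap_coe f f' Φ Φ1 hf, ← kerMap_coe f f' Φ Φ1 hf, hxy]
    exact injective_baseChange _ (Submodule.injective_subtype _) (Φ.injective h1)
  · intro z'
    have h1 : f.baseChange R (Φ.symm z'.1) = 0 := by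
      apply Φ1.injective
      rw [hf, LinearEquiv.apply_symm_apply, map_zero]
      exact z'.2
    have hex : Function.Exact ((LinearMap.ker f).subtype.baseChange R) (f.baseChange R) :=
      exact_baseChange (LinearMap.exact_subtype_ker_map f)
    obtain ⟨y, hy⟩ := (hex _).mp h1
    refine ⟨y, Subtype.ext ?_⟩
    rw [kerMap_coe, hy, LinearEquiv.apply_symm_apply]

/-- the comparison equivalence on kernels. -/
noncomputable def kerEquiv (hf : ∀ x, Φ1 (f.baseChange R x) = f' (Φ x)) :
    R ⊗[K] (LinearMap.ker f) ≃ₗ[R] LinearMap.ker f' :=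
  LinearEquiv.ofBijective (kerMap f f' Φ Φ1 hf) (kerMap_bijective f f' Φ Φ1 hf)

theorem kerEquiv_coe (hf : ∀ x, Φ1 (f.baseChange R x) = f' (Φ x))
    (x : R ⊗[K] (LinearMap.ker f)) :
    ((kerEquiv f f' Φ Φ1 hf x : LinearMap.ker f') : M') =
      Φ ((LinearMap.ker f).subtype.baseChange R x) := rfl

theorem map_range_eq (hf : ∀ x, Φ1 (f.baseChange R x) = f' (Φ x))
    (hB : B' = Submodule.map Φ.toLinearMap (LinearMap.range (B.subtype.baseChange R))) :
    Submodule.map (kerEquiv f f' Φ Φ1 hf : R ⊗[K] (LinearMap.ker f) →ₗ[R] LinearMap.ker f')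
      (LinearMap.range ((B.comap (LinearMap.ker f).subtype).subtype.baseChange R)) =
      B'.comap (LinearMap.ker f').subtype := by
  set Z := LinearMap.ker f with hZ
  set N := B.comap Z.subtype with hN
  apply le_antisymm
  · rintro _ ⟨_, ⟨y, rfl⟩, rfl⟩
    change ((kerEquiv f f' Φ Φ1 hf (N.subtype.baseChange R y) : LinearMap.ker f') : M') ∈ B'
    rw [kerEquiv_coe, baseChange_comp_apply, hB]
    -- the inclusion `N → B`
    let ι : N →ₗ[K] B := LinearMap.codRestrict B (Z.subtype ∘ₗ N.subtype) (fun n => n.2)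
    have hι : Z.subtype ∘ₗ N.subtype = B.subtype ∘ₗ ι := rfl
    rw [hι, ← baseChange_comp_apply]
    exact ⟨_, ⟨_, rfl⟩, rfl⟩
  · intro z' hz'
    have hz'' : (z' : M') ∈ B' := hz'
    rw [hB] at hz''
    obtain ⟨_, ⟨b, rfl⟩, hb⟩ := hz''
    set y := (kerEquiv f f' Φ Φ1 hf).symm z' with hy
    have h1 : Z.subtype.baseChange R y = B.subtype.baseChange R b := by
      apply Φ.injective
      have h2 := kerEquiv_coe f f' Φ Φ1 hf y
      rw [hy, LinearEquiv.apply_symm_apply] at h2
      rw [← hy] at h2
      change Φ (B.subtype.baseChange R b) = (z' : M') at hb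
      rw [← h2, hb]
    -- exactness of `N → Z → M ⧸ B`
    let q : Z →ₗ[K] M ⧸ B := B.mkQ ∘ₗ Z.subtype
    have hex0 : Function.Exact N.subtype q := by
      intro z
      constructor
      · intro hz
        have : (z : M) ∈ B := by
          have h3 : B.mkQ (z : M) = 0 := hz
          rwa [Submodule.mkQ_apply, Submodule.Quotient.mk_eq_zero] at h3
        exact ⟨⟨z, this⟩, rfl⟩
      · rintro ⟨n, rfl⟩
        change B.mkQ ((n : Z) : M) = 0
        rw [Submodule.mkQ_apply, Submodule.Quotient.mk_eq_zero]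
        exact n.2
    have hex : Function.Exact (N.subtype.baseChange R) (q.baseChange R) := exact_baseChange hex0
    have h4 : q.baseChange R y = 0 := by
      change (B.mkQ ∘ₗ Z.subtype).baseChange R y = 0
      rw [← baseChange_comp_apply, h1, baseChange_comp_apply]
      have : B.mkQ ∘ₗ B.subtype = 0 := by
        apply LinearMap.ext
        intro b
        change B.mkQ (b : M) = 0
        rw [Submodule.mkQ_apply, Submodule.Quotient.mk_eq_zero]
        exact b.2
      rw [this, LinearMap.baseChange_zero, LinearMap.zero_apply]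
    obtain ⟨w, hw⟩ := (hex _).mp h4
    refine ⟨y, ⟨w, hw⟩, ?_⟩
    change kerEquiv f f' Φ Φ1 hf y = z'
    rw [hy, LinearEquiv.apply_symm_apply]

/-- flat base change of `ker f ⧸ (B ∩ ker f)`. -/
theorem exists_equiv (hf : ∀ x, Φ1 (f.baseChange R x) = f' (Φ x))
    (hB : B' = Submodule.map Φ.toLinearMap (LinearMap.range (B.subtype.baseChange R))) :
    ∃ e : R ⊗[K] (LinearMap.ker f ⧸ B.comap (LinearMap.ker f).subtype) ≃ₗ[R]
        (LinearMap.ker f' ⧸ B'.comap (LinearMap.ker f').subtype),
      ∀ (r : R) (z : LinearMap.ker f) (hz : Φ (r ⊗ₜ[K] (z : M)) ∈ LinearMap.ker f'),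
        e (r ⊗ₜ[K] Submodule.Quotient.mk z) = Submodule.Quotient.mk ⟨Φ (r ⊗ₜ[K] (z : M)), hz⟩ := by
  set Z := LinearMap.ker f with hZ
  set N := B.comap Z.subtype with hN
  have hex : Function.Exact (N.subtype.baseChange R) (N.mkQ.baseChange R) :=
    exact_baseChange (LinearMap.exact_subtype_mkQ N)
  have hsurj : Function.Surjective (N.mkQ.baseChange R) := by
    rw [LinearMap.baseChange_eq_ltensor]
    exact LinearMap.lTensor_surjective R (Submodule.mkQ_surjective N)
  let E1 := hex.linearEquivOfSurjective hsurj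
  let E2 := Submodule.Quotient.equiv (LinearMap.range (N.subtype.baseChange R))
    (B'.comap (LinearMap.ker f').subtype) (kerEquiv f f' Φ Φ1 hf) (map_range_eq f B f' B' Φ Φ1 hf hB)
  refine ⟨E1.symm ≪≫ₗ E2, fun r z hz => ?_⟩
  have h1 : r ⊗ₜ[K] (Submodule.Quotient.mk z : Z ⧸ N) = N.mkQ.baseChange R (r ⊗ₜ[K] z) := by
    rw [LinearMap.baseChange_tmul]
    rfl
  rw [LinearEquiv.trans_apply, h1, Function.Exact.linearEquivOfSurjective_symm_apply]
  change Submodule.Quotient.mk (kerEquiv f f' Φ Φ1 hf (r ⊗ₜ[K] z)) = _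
  congr 1

end Main

end Groth.Agent.H83.FlatQuot
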