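import Mathlib

/-! Fixed and killed vectors of the `p`-power map on the `p`-polynomials in an element of a
finite-dimensional algebra over an algebraically closed field of characteristic `p`. -/

set_option autoImplicit false
universe u v

namespace Groth.Agent.H83.FrobFixed

open Polynomial

section Poly

variable {k : Type u} [Field k] (p : ℕ) [Fact p.Prime] [CharP k p]

/-- the additive polynomials computing the coefficients of a fixed vector -/
noncomputable def cpoly (a : ℕ → k) : ℕ → k[X]
  | 0 => C (a 0) * X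
  | (i + 1) => cpoly a i ^ p + C (a (i + 1)) * X

omit [Fact p.Prime] [CharP k p] in
theorem cpoly_zero (a : ℕ → k) : cpoly p a 0 = C (a 0) * X := rfl

omit [Fact p.Prime] [CharP k p] in
theorem cpoly_succ (a : ℕ → k) (i : ℕ) :
    cpoly p a (i + 1) = cpoly p a i ^ p + C (a (i + 1)) * X := rfl

omit [CharP k p] in
theorem natDegree_cpoly (a : ℕ → k) (ha0 : a 0 ≠ 0) (i : ℕ) :
    (cpoly p a i).natDegree = p ^ i := by
  have hp : p.Prime := Fact.out
  induction i with
  | zero => rw [cpoly_zero, natDegree_C_mul_X _ ha0, pow_zero]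
  | succ i ih =>
    rw [cpoly_succ, natDegree_add_eq_left_of_natDegree_lt]
    · rw [natDegree_pow, ih, pow_succ, mul_comm]
    · rw [natDegree_pow, ih]
      calc (C (a (i + 1)) * X).natDegree ≤ 1 :=
            (natDegree_C_mul_le _ _).trans natDegree_X_le
        _ < p * p ^ i := by
          have h1 : 1 ≤ p ^ i := Nat.one_le_pow _ _ hp.pos
          have h2 := hp.two_le
          nlinarith

/-- the coefficients of a fixed vector -/
theorem exists_coeff [IsAlgClosed k] (a : ℕ → k) (ha0 : a 0 ≠ 0) (m : ℕ) :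
    ∃ (t : k) (c : ℕ → k), t ≠ 0 ∧ c 0 = t ^ p * a 0 ∧
      (∀ i, c (i + 1) = c i ^ p + t ^ p * a (i + 1)) ∧ c m = t := by
  classical
  have hp : p.Prime := Fact.out
  obtain ⟨Q, hQ⟩ : ∃ Q : k[X], Q = expand k p (cpoly p a m) - X := ⟨_, rfl⟩
  have hdeg1 : (expand k p (cpoly p a m)).natDegree = p ^ (m + 1) := by
    rw [natDegree_expand, natDegree_cpoly p a ha0, pow_succ]
  have h2 : 2 ≤ p ^ (m + 1) := by
    have h1 : 1 ≤ p ^ m := Nat.one_le_pow _ _ hp.pos
    have h2 := hp.two_le
    rw [pow_succ]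
    nlinarith
  have hdeg : Q.natDegree = p ^ (m + 1) := by
    rw [hQ, natDegree_sub_eq_left_of_natDegree_lt, hdeg1]
    rw [hdeg1, natDegree_X]
    omega
  have hsep : Q.Separable := by
    rw [separable_def]
    have hder : derivative Q = -1 := by
      rw [hQ, derivative_sub, derivative_expand, derivative_X]
      have : ((p : ℕ) : k[X]) = 0 := by
        rw [← C_eq_natCast, CharP.cast_eq_zero, C_0]
      rw [this]
      simp
    rw [hder]
    exact isCoprime_one_right.neg_right
  have hcard : Q.roots.toFinset.card = p ^ (m + 1) := by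
    rw [Multiset.toFinset_card_of_nodup (nodup_roots hsep), ← hdeg]
    exact ((IsAlgClosed.splits Q).natDegree_eq_card_roots).symm
  obtain ⟨t, ht, ht0⟩ := Finset.exists_mem_ne (by rw [hcard]; omega : 1 < Q.roots.toFinset.card) 0
  rw [Multiset.mem_toFinset] at ht
  have hroot : eval t Q = 0 := (mem_roots'.1 ht).2
  refine ⟨t, fun i => eval (t ^ p) (cpoly p a i), ht0, ?_, ?_, ?_⟩
  · simp only [cpoly_zero, eval_mul, eval_C, eval_X]
    ring
  · intro i
    simp only [cpoly_succ, eval_add, eval_pow, eval_mul, eval_C, eval_X]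
    ring
  · rw [hQ, eval_sub, expand_eval, eval_X, sub_eq_zero] at hroot
    exact hroot

end Poly

section Alg

variable {k : Type u} [Field k] (p : ℕ) [Fact p.Prime] [CharP k p] {D : Type v} [Ring D]
  [Algebra k D]

/-- the `p`-th power of a `p`-polynomial in `y` -/
theorem sum_smul_pow_pow (y : D) (n : ℕ) (c : ℕ → k) :
    (∑ i ∈ Finset.range n, c i • y ^ (p ^ i)) ^ p =
      ∑ i ∈ Finset.range n, (c i) ^ p • y ^ (p ^ (i + 1)) := by
  have h1 : ∑ i ∈ Finset.range n, c i • y ^ (p ^ i) =
      aeval y (∑ i ∈ Finset.range n, C (c i) * X ^ (p ^ i)) := by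
    rw [map_sum]
    apply Finset.sum_congr rfl
    intro i _
    rw [map_mul, aeval_C, aeval_X_pow, Algebra.smul_def]
  have h2 : ∑ i ∈ Finset.range n, (c i) ^ p • y ^ (p ^ (i + 1)) =
      aeval y (∑ i ∈ Finset.range n, C ((c i) ^ p) * X ^ (p ^ (i + 1))) := by
    rw [map_sum]
    apply Finset.sum_congr rfl
    intro i _
    rw [map_mul, aeval_C, aeval_X_pow, Algebra.smul_def]
  rw [h1, h2, ← map_pow, sum_pow_char]
  congr 1
  apply Finset.sum_congr rfl
  intro i _
  rw [mul_pow, ← C_pow, ← pow_mul, pow_succ]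

omit [Fact p.Prime] [CharP k p] in
theorem sum_ne_zero_of_linearIndependent (e : ℕ → D) (n : ℕ)
    (hli : LinearIndependent k (fun i : Fin n => e i)) (c : ℕ → k) (j : ℕ) (hj : j < n)
    (hcj : c j ≠ 0) : ∑ i ∈ Finset.range n, c i • e i ≠ 0 := by
  intro h0
  rw [Finset.sum_range] at h0
  exact hcj (Fintype.linearIndependent_iff.1 hli (fun i => c i) h0 ⟨j, hj⟩)

omit [Fact p.Prime] [CharP k p] in
/-- a maximal linearly independent initial segment of a sequence in a finite-dimensional space -/
theorem exists_relation [Module.Finite k D] (e : ℕ → D) (he : e 0 ≠ 0) :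
    ∃ (m : ℕ) (a : ℕ → k), LinearIndependent k (fun i : Fin (m + 1) => e i) ∧
      e (m + 1) = ∑ i ∈ Finset.range (m + 1), a i • e i := by
  classical
  have hex : ∃ n, ¬ LinearIndependent k (fun i : Fin n => e i) := by
    refine ⟨Module.finrank k D + 1, fun h => ?_⟩
    have := h.fintype_card_le_finrank
    rw [Fintype.card_fin] at this
    omega
  obtain ⟨n₀, hspec, hmin⟩ : ∃ n₀, (¬ LinearIndependent k (fun i : Fin n₀ => e i)) ∧
      ∀ n < n₀, ¬ ¬ LinearIndependent k (fun i : Fin n => e i) :=
    ⟨Nat.find hex, Nat.find_spec hex, fun n hn => Nat.find_min hex hn⟩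
  have h0 : n₀ ≠ 0 := by
    rintro rfl
    exact hspec linearIndependent_empty_type
  have h1 : n₀ ≠ 1 := by
    rintro rfl
    apply hspec
    rw [linearIndependent_unique_iff]
    exact he
  obtain ⟨m, rfl⟩ : ∃ m, n₀ = m + 2 := ⟨n₀ - 2, by omega⟩
  have hli : LinearIndependent k (fun i : Fin (m + 1) => e i) := by
    by_contra h
    exact hmin (m + 1) (by omega) h
  have hmem : e (m + 1) ∈ Submodule.span k (Set.range fun i : Fin (m + 1) => e i) := by
    by_contra h
    apply hspec
    rw [linearIndependent_finSucc']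
    exact ⟨hli, h⟩
  obtain ⟨a', ha'⟩ := (Submodule.mem_span_range_iff_exists_fun k).1 hmem
  refine ⟨m, fun i => if h : i < m + 1 then a' ⟨i, h⟩ else 0, hli, ?_⟩
  rw [Finset.sum_range, ← ha']
  apply Finset.sum_congr rfl
  intro i _
  beta_reduce
  rw [dif_pos i.2]

/-- a nonzero `p`-polynomial in `y` which is killed or fixed by the `p`-th power map -/
theorem exists_fixed [IsAlgClosed k] [Module.Finite k D] (y : D) (hy : y ≠ 0) :
    ∃ (n : ℕ) (c : ℕ → k), (∑ i ∈ Finset.range n, c i • y ^ (p ^ i)) ≠ 0 ∧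
      ((∑ i ∈ Finset.range n, c i • y ^ (p ^ i)) ^ p = 0 ∨
        (∑ i ∈ Finset.range n, c i • y ^ (p ^ i)) ^ p = ∑ i ∈ Finset.range n, c i • y ^ (p ^ i)) := by
  have hp : p.Prime := Fact.out
  obtain ⟨m, a, hli, hrel⟩ := exists_relation (k := k) (fun i => y ^ (p ^ i))
    (by rw [pow_zero, pow_one]; exact hy)
  beta_reduce at hrel hli
  rw [Finset.sum_range_succ'] at hrel
  by_cases ha0 : a 0 = 0
  · -- the killed vector
    have hroot : ∀ i, ∃ b : k, b ^ p = -a (i + 1) := fun i =>
      IsAlgClosed.exists_pow_nat_eq _ hp.pos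
    choose b hb using hroot
    refine ⟨m + 1, fun i => if i = m then 1 else b i, ?_, Or.inl ?_⟩
    · apply sum_ne_zero_of_linearIndependent _ _ hli _ m (by omega)
      rw [if_pos rfl]
      exact one_ne_zero
    · rw [sum_smul_pow_pow, Finset.sum_range_succ, if_pos rfl, one_pow, one_smul, hrel, ha0,
        zero_smul, add_zero, ← Finset.sum_add_distrib]
      apply Finset.sum_eq_zero
      intro i hi
      rw [Finset.mem_range] at hi
      rw [if_neg (by omega), hb, neg_smul, neg_add_cancel]
  · -- the fixed vector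
    obtain ⟨t, c, ht0, hc0, hcs, hcm⟩ := exists_coeff p a ha0 m
    refine ⟨m + 1, c, ?_, Or.inr ?_⟩
    · apply sum_ne_zero_of_linearIndependent _ _ hli _ m (by omega)
      rw [hcm]
      exact ht0
    · rw [sum_smul_pow_pow, Finset.sum_range_succ, hcm, hrel, smul_add, Finset.smul_sum,
        Finset.sum_range_succ' (fun i => c i • y ^ p ^ i), hc0, ← add_assoc,
        ← Finset.sum_add_distrib, smul_smul]
      congr 1
      apply Finset.sum_congr rfl
      intro i _
      rw [hcs, add_smul, smul_smul]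

end Alg

end Groth.Agent.H83.FrobFixed
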