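import Mathlib

/-! Truncated polynomials (all exponents `< p`) and the chain rule for derivations. -/

set_option autoImplicit false
universe u v

namespace Groth.Agent.H83.TruncPoly

open MvPolynomial

section Chain

variable {k : Type u} [CommRing k] {A : Type v} [CommRing A] [Algebra k A] {σ : Type*} [Fintype σ]

/-- chain rule for a derivation applied to a polynomial expression -/
theorem derivation_aeval (D : Derivation k A A) (x : σ → A) (f : MvPolynomial σ k) :
    D (aeval x f) = ∑ j, aeval x (pderiv j f) * D (x j) := by
  classical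
  induction f using MvPolynomial.induction_on with
  | C a => simp
  | add f g hf hg => simp [hf, hg, add_mul, Finset.sum_add_distrib]
  | mul_X f i hf =>
    simp only [map_mul, aeval_X, Derivation.leibniz, hf, pderiv_X, smul_eq_mul, map_add,
      add_mul, Finset.sum_add_distrib, Finset.mul_sum]
    congr 1
    · rw [Finset.sum_eq_single i]
      · simp
      · intro j _ hj
        simp [Ne.symm hj]
      · intro h
        exact absurd (Finset.mem_univ i) h
    · refine Finset.sum_congr rfl fun j _ => ?_
      ring

end Chain

section Trunc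

variable {k : Type u} [Field k] {d : ℕ} (p : ℕ)

/-- all exponents are `< p` -/
def IsTrunc (f : MvPolynomial (Fin d) k) : Prop := ∀ s ∈ f.support, ∀ i, s i < p

theorem isTrunc_pderiv {f : MvPolynomial (Fin d) k} (hf : IsTrunc p f) (j : Fin d) :
    IsTrunc p (pderiv j f) := by
  intro s hs i
  rw [mem_support_iff, coeff_pderiv] at hs
  have h1 : coeff (s + Finsupp.single j 1) f ≠ 0 := left_ne_zero_of_mul hs
  have h2 := hf _ (mem_support_iff.2 h1) i
  simp only [Finsupp.coe_add, Pi.add_apply] at h2
  omega

theorem totalDegree_pderiv_lt {f : MvPolynomial (Fin d) k} (j : Fin d) (h : pderiv j f ≠ 0) :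
    (pderiv j f).totalDegree < f.totalDegree := by
  have hne : (pderiv j f).support.Nonempty := by
    rw [Finset.nonempty_iff_ne_empty, Ne, support_eq_empty]
    exact h
  obtain ⟨s, hs, hs'⟩ := Finset.exists_mem_eq_sup _ hne (fun s : Fin d →₀ ℕ => s.sum fun _ e => e)
  have hs2 := hs
  rw [mem_support_iff, coeff_pderiv] at hs2
  have h1 : coeff (s + Finsupp.single j 1) f ≠ 0 := left_ne_zero_of_mul hs2
  have h2 := le_totalDegree (mem_support_iff.2 h1)
  have h3 : ((s + Finsupp.single j 1).sum fun _ e => e) = (s.sum fun _ e => e) + 1 := by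
    rw [Finsupp.sum_add_index' (fun _ => rfl) (fun _ _ _ => rfl)]
    simp
  rw [h3] at h2
  unfold totalDegree at h2 ⊢
  rw [hs']
  omega

/-- a truncated polynomial all of whose partial derivatives vanish is constant -/
theorem eq_C_of_pderiv_eq_zero [CharP k p] {f : MvPolynomial (Fin d) k} (hf : IsTrunc p f)
    (h : ∀ j, pderiv j f = 0) : f = C (coeff 0 f) := by
  ext m
  rw [coeff_C]
  by_cases hm : 0 = m
  · rw [if_pos hm, hm]
  · rw [if_neg hm]
    by_contra hne
    have hms : m ∈ f.support := mem_support_iff.2 hne
    obtain ⟨j, hj⟩ : ∃ j, m j ≠ 0 := by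
      by_contra hcon
      push Not at hcon
      exact hm (Finsupp.ext fun i => (hcon i).symm)
    have hmj : m = (m - Finsupp.single j 1) + Finsupp.single j 1 := by
      ext i
      by_cases hij : i = j
      · subst hij
        simp only [Finsupp.coe_add, Finsupp.coe_tsub, Pi.add_apply, Pi.sub_apply,
          Finsupp.single_eq_same]
        omega
      · simp [Finsupp.single_eq_of_ne hij]
    have h1 := coeff_pderiv (i := j) f (m - Finsupp.single j 1)
    rw [h j, coeff_zero, ← hmj] at h1
    have h2 : (((m - Finsupp.single j 1 : Fin d →₀ ℕ) j : ℕ) : k) + 1 = ((m j : ℕ) : k) := by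
      have : (m - Finsupp.single j 1 : Fin d →₀ ℕ) j + 1 = m j := by
        simp only [Finsupp.coe_tsub, Pi.sub_apply, Finsupp.single_eq_same]
        omega
      rw [← this]
      push_cast
      rfl
    rw [h2] at h1
    rcases mul_eq_zero.1 h1.symm with h3 | h3
    · exact hne h3
    · rw [CharP.cast_eq_zero_iff k p] at h3
      have := hf m hms j
      exact absurd (Nat.le_of_dvd (Nat.pos_of_ne_zero hj) h3) (by omega)

/-- the injectivity criterion: a truncated polynomial whose value lies in a proper ideal
stable under taking partial derivatives vanishes -/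
theorem eq_zero_of_aeval_mem [CharP k p] {A : Type v} [CommRing A] [Algebra k A] (J : Ideal A)
    (hJ : J ≠ ⊤) (x : Fin d → A)
    (hstep : ∀ f : MvPolynomial (Fin d) k, aeval x f ∈ J → ∀ j, aeval x (pderiv j f) ∈ J) :
    ∀ (n : ℕ) (f : MvPolynomial (Fin d) k), IsTrunc p f → f.totalDegree ≤ n → aeval x f ∈ J →
      f = 0 := by
  have hconst : ∀ c : k, algebraMap k A c ∈ J → c = 0 := by
    intro c hc
    by_contra hne
    apply hJ
    rw [Ideal.eq_top_iff_one]
    have : (algebraMap k A c⁻¹) * algebraMap k A c ∈ J := J.mul_mem_left _ hc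
    rwa [← map_mul, inv_mul_cancel₀ hne, map_one] at this
  intro n
  induction n with
  | zero =>
    intro f _ hdeg hmem
    have h0 : f.totalDegree = 0 := Nat.le_zero.1 hdeg
    rw [totalDegree_eq_zero_iff_eq_C] at h0
    rw [h0, aeval_C] at hmem
    rw [h0, hconst _ hmem, map_zero]
  | succ n ih =>
    intro f hf hdeg hmem
    have hall : ∀ j, pderiv j f = 0 := by
      intro j
      by_contra hne
      have hlt := totalDegree_pderiv_lt j hne
      exact hne (ih _ (isTrunc_pderiv p hf j) (by omega) (hstep f hmem j))
    have hC := eq_C_of_pderiv_eq_zero p hf hall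
    rw [hC, aeval_C] at hmem
    rw [hC, hconst _ hmem, map_zero]

/-- every polynomial is congruent to a truncated one modulo the `p`-th powers of the
variables -/
theorem exists_trunc_sub_mem (q : MvPolynomial (Fin d) k) :
    ∃ r, IsTrunc p r ∧
      q - r ∈ Ideal.span (Set.range fun i : Fin d => (X i : MvPolynomial (Fin d) k) ^ p) := by
  classical
  induction q using MvPolynomial.induction_on' with
  | monomial s a =>
    by_cases hs : ∀ i, s i < p
    · refine ⟨monomial s a, ?_, by simp⟩
      intro t ht i
      have := support_monomial_subset ht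
      rw [Finset.mem_singleton] at this
      rw [this]
      exact hs i
    · push Not at hs
      obtain ⟨i, hi⟩ := hs
      refine ⟨0, by intro t ht; simp at ht, ?_⟩
      rw [sub_zero]
      have hs' : (s - Finsupp.single i p) + Finsupp.single i p = s := by
        ext l
        by_cases hl : l = i
        · subst hl
          simp only [Finsupp.coe_add, Finsupp.coe_tsub, Pi.add_apply, Pi.sub_apply,
            Finsupp.single_eq_same]
          omega
        · simp [Finsupp.single_eq_of_ne hl]
      have : monomial s a = monomial (s - Finsupp.single i p) a * (X i) ^ p := by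
        rw [X_pow_eq_monomial, monomial_mul, mul_one, hs']
      rw [this]
      exact Ideal.mul_mem_left _ _ (Ideal.subset_span ⟨i, rfl⟩)
  | add q1 q2 h1 h2 =>
    obtain ⟨r1, hr1, hm1⟩ := h1
    obtain ⟨r2, hr2, hm2⟩ := h2
    refine ⟨r1 + r2, ?_, ?_⟩
    · intro t ht i
      rcases Finset.mem_union.1 (support_add ht) with h | h
      · exact hr1 t h i
      · exact hr2 t h i
    · have : q1 + q2 - (r1 + r2) = (q1 - r1) + (q2 - r2) := by ring
      rw [this]
      exact Ideal.add_mem _ hm1 hm2

end Trunc

end Groth.Agent.H83.TruncPoly
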