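import Groth.Agent.H83.InvDer
import Groth.Agent.H83.TruncPoly

/-! The Frobenius kernel of a finite local Hopf algebra is a truncated polynomial algebra. -/

set_option autoImplicit false
universe u v

namespace Groth.Agent.H83.HeightOne

open TensorProduct Coalgebra MvPolynomial Groth.Agent.H83.InvDer Groth.Agent.H83.TruncPoly

section Cotangent

variable {k : Type u} [Field k] {A : Type v} [CommRing A] [Bialgebra k A]

/-- the point derivation attached to a functional on the cotangent space of the augmentation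
ideal -/
noncomputable def pointDer (I : Ideal A) (hI : ∀ a : A, a ∈ I ↔ counit (R := k) a = 0)
    (φ : I.Cotangent →ₗ[k] k) : A →ₗ[k] k where
  toFun a := φ (I.toCotangent ⟨a - algebraMap k A (counit (R := k) a), (hI _).2 (by simp)⟩)
  map_add' a b := by
    rw [← map_add, ← map_add]
    congr 2
    apply Subtype.ext
    simp only [map_add, Submodule.coe_add]
    ring
  map_smul' c a := by
    rw [RingHom.id_apply, ← map_smul, ← LinearMap.map_smul_of_tower]
    congr 2
    apply Subtype.ext
    rw [Submodule.coe_smul_of_tower]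
    simp only [Algebra.smul_def, Bialgebra.counit_mul, Bialgebra.counit_algebraMap, map_mul]
    ring

theorem pointDer_apply_of_mem (I : Ideal A) (hI : ∀ a : A, a ∈ I ↔ counit (R := k) a = 0)
    (φ : I.Cotangent →ₗ[k] k) (a : A) (ha : a ∈ I) :
    pointDer I hI φ a = φ (I.toCotangent ⟨a, ha⟩) := by
  show φ (I.toCotangent ⟨a - algebraMap k A (counit (R := k) a), _⟩) = _
  congr 2
  apply Subtype.ext
  simp [(hI a).1 ha]

theorem pointDer_mul (I : Ideal A) (hI : ∀ a : A, a ∈ I ↔ counit (R := k) a = 0)
    (φ : I.Cotangent →ₗ[k] k) (a b : A) :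
    pointDer I hI φ (a * b) =
      counit (R := k) a * pointDer I hI φ b + pointDer I hI φ a * counit (R := k) b := by
  have ha' : a - algebraMap k A (counit (R := k) a) ∈ I := (hI _).2 (by simp)
  have hb' : b - algebraMap k A (counit (R := k) b) ∈ I := (hI _).2 (by simp)
  have hab : (a - algebraMap k A (counit (R := k) a)) * (b - algebraMap k A (counit (R := k) b))
      ∈ I := I.mul_mem_left _ hb'
  have key : a * b = (a - algebraMap k A (counit (R := k) a)) *
        (b - algebraMap k A (counit (R := k) b))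
      + counit (R := k) a • b + counit (R := k) b • a
      - (counit (R := k) a * counit (R := k) b) • (1 : A) := by
    simp only [Algebra.smul_def, map_mul]
    ring
  have h0 : pointDer I hI φ ((a - algebraMap k A (counit (R := k) a)) *
      (b - algebraMap k A (counit (R := k) b))) = 0 := by
    rw [pointDer_apply_of_mem I hI φ _ hab]
    have : I.toCotangent ⟨_, hab⟩ = 0 := by
      rw [Ideal.toCotangent_eq_zero, pow_two]
      exact Ideal.mul_mem_mul ha' hb'
    rw [this, map_zero]
  have h1 : pointDer I hI φ (1 : A) = 0 := by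
    show φ (I.toCotangent ⟨(1 : A) - algebraMap k A (counit (R := k) (1 : A)), _⟩) = 0
    have : (⟨(1 : A) - algebraMap k A (counit (R := k) (1 : A)), (hI _).2 (by simp)⟩ : I) = 0 := by
      apply Subtype.ext
      simp
    rw [this, map_zero, map_zero]
  conv_lhs => rw [key]
  simp only [map_add, map_sub, map_smul, h0, h1, smul_eq_mul]
  ring

end Cotangent

section Quot

theorem quot_equiv_of {k A B : Type*} [CommRing k] [CommRing A] [Algebra k A] [CommRing B]
    [Algebra k B] (f : B →ₐ[k] A) (J : Ideal A) (K : Ideal B) (hKJ : K ≤ J.comap f)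
    (hJK : J.comap f ≤ K) (hsurj : Function.Surjective f) :
    Nonempty ((A ⧸ J) ≃ₐ[k] (B ⧸ K)) := by
  have hφ : ∀ q, Ideal.quotientMapₐ J f hKJ (Ideal.Quotient.mk K q) =
      Ideal.Quotient.mk J (f q) := fun q => Ideal.quotient_map_mkₐ J f hKJ
  have hs : Function.Surjective (Ideal.quotientMapₐ J f hKJ) := by
    intro y
    obtain ⟨a, rfl⟩ := Ideal.Quotient.mk_surjective y
    obtain ⟨q, rfl⟩ := hsurj a
    exact ⟨Ideal.Quotient.mk K q, hφ q⟩
  have hi : Function.Injective (Ideal.quotientMapₐ J f hKJ) := by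
    rw [injective_iff_map_eq_zero]
    intro z hz
    obtain ⟨q, rfl⟩ := Ideal.Quotient.mk_surjective z
    rw [hφ, Ideal.Quotient.eq_zero_iff_mem] at hz
    exact Ideal.Quotient.eq_zero_iff_mem.2 (hJK hz)
  exact ⟨(AlgEquiv.ofBijective _ ⟨hi, hs⟩).symm⟩

end Quot

section Main

variable {k : Type u} [Field k] {A : Type v} [CommRing A] [Bialgebra k A]
  [FiniteDimensional k A]

/-- coordinates near the identity together with dual invariant derivations -/
theorem exists_coords (I : Ideal A) (hI : ∀ a : A, a ∈ I ↔ counit (R := k) a = 0) (d : ℕ)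
    (hd : Module.finrank k I.Cotangent = d) :
    ∃ (x : Fin d → A) (D : Fin d → Derivation k A A),
      (∀ i, x i ∈ I) ∧
      (∀ i j, counit (R := k) (D i (x j)) = if i = j then 1 else 0) ∧
      (∀ a ∈ I, ∃ c : Fin d → k, a - ∑ i, c i • x i ∈ I ^ 2) := by
  classical
  have hfin : Module.Finite k I.Cotangent :=
    Module.Finite.of_surjective (I.toCotangent.restrictScalars k) I.toCotangent_surjective
  let b : Module.Basis (Fin d) k I.Cotangent := Module.finBasisOfFinrankEq k _ hd
  choose y hy using fun i => I.toCotangent_surjective (b i)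
  let ψ : Fin d → A →ₗ[k] k := fun i => pointDer I hI (b.coord i)
  refine ⟨fun i => (y i : A), fun i => invDer (ψ i) (pointDer_mul I hI (b.coord i)),
    fun i => (y i).2, ?_, ?_⟩
  · intro i j
    rw [counit_invDer]
    show pointDer I hI (b.coord i) (y j : A) = _
    rw [pointDer_apply_of_mem I hI _ _ (y j).2]
    simp only [Subtype.coe_eta, hy, Module.Basis.coord_apply, Module.Basis.repr_self]
    rw [Finsupp.single_apply]
    simp only [eq_comm]
  · intro a ha
    refine ⟨fun i => b.coord i (I.toCotangent ⟨a, ha⟩), ?_⟩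
    have h1 : I.toCotangent ⟨a, ha⟩ =
        I.toCotangent (∑ i, b.coord i (I.toCotangent ⟨a, ha⟩) • y i) := by
      rw [map_sum]
      conv_lhs => rw [← b.sum_repr (I.toCotangent ⟨a, ha⟩)]
      refine Finset.sum_congr rfl fun i _ => ?_
      rw [LinearMap.map_smul_of_tower, hy]
      rfl
    rw [Ideal.toCotangent_eq] at h1
    convert h1 using 2
    simp

omit [FiniteDimensional k A] in
/-- a matrix over a local ring which is the identity modulo the maximal ideal reflects
membership in ideals -/
theorem mem_of_mulVec_mem {d : ℕ} (hunit : ∀ a : A, counit (R := k) a ≠ 0 → IsUnit a)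
    (M : Matrix (Fin d) (Fin d) A)
    (hM : ∀ i j, counit (R := k) (M i j) = if i = j then 1 else 0) (J : Ideal A)
    (g : Fin d → A) (hg : ∀ i, ∑ j, M i j * g j ∈ J) : ∀ j, g j ∈ J := by
  classical
  have hdet : IsUnit M.det := by
    apply hunit
    have h1 : counit (R := k) M.det = (Bialgebra.counitAlgHom k A).toRingHom M.det := rfl
    rw [h1, RingHom.map_det]
    have h2 : (Bialgebra.counitAlgHom k A).toRingHom.mapMatrix M = 1 := by
      ext i j
      simp only [RingHom.mapMatrix_apply, Matrix.map_apply, Matrix.one_apply]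
      exact hM i j
    rw [h2, Matrix.det_one]
    exact one_ne_zero
  have h3 : M⁻¹ * M = 1 := Matrix.nonsing_inv_mul M hdet
  intro j
  have h4 : g = M⁻¹.mulVec (M.mulVec g) := by
    rw [Matrix.mulVec_mulVec, h3, Matrix.one_mulVec]
  rw [h4]
  simp only [Matrix.mulVec, dotProduct]
  exact Ideal.sum_mem _ fun i _ => Ideal.mul_mem_left _ _ (hg i)

omit [FiniteDimensional k A] in
/-- derivations preserve the ideal generated by `p`-th powers in characteristic `p` -/
theorem derivation_mem_span_pow (p : ℕ) [CharP k p] (D : Derivation k A A) (S : Set A) (a : A)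
    (ha : a ∈ Ideal.span ((fun a : A => a ^ p) '' S)) :
    D a ∈ Ideal.span ((fun a : A => a ^ p) '' S) := by
  induction ha using Submodule.span_induction with
  | mem y hy =>
    obtain ⟨b, _, rfl⟩ := hy
    simp only
    rw [Derivation.leibniz_pow, ← Nat.cast_smul_eq_nsmul k, CharP.cast_eq_zero k p, zero_smul]
    exact Ideal.zero_mem _
  | zero => simp
  | add y z _ _ hy hz =>
    rw [map_add]
    exact Ideal.add_mem _ hy hz
  | smul c y hy hDy =>
    rw [smul_eq_mul, Derivation.leibniz]
    exact Ideal.add_mem _ (Ideal.mul_mem_left _ _ hDy) (Ideal.mul_mem_right _ _ hy)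

omit [FiniteDimensional k A] in
theorem ideal_eq_ker (I : Ideal A) (hI : ∀ a : A, a ∈ I ↔ counit (R := k) a = 0) :
    I = RingHom.ker (Bialgebra.counitAlgHom k A) := by
  ext a
  rw [hI, RingHom.mem_ker]
  rfl

omit [FiniteDimensional k A] in
theorem ideal_eq_maximalIdeal [IsLocalRing A] (I : Ideal A)
    (hI : ∀ a : A, a ∈ I ↔ counit (R := k) a = 0) : I = IsLocalRing.maximalIdeal A := by
  have hsurj : Function.Surjective (Bialgebra.counitAlgHom k A) := fun c =>
    ⟨algebraMap k A c, by simp⟩
  have : (RingHom.ker (Bialgebra.counitAlgHom k A)).IsMaximal :=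
    RingHom.ker_isMaximal_of_surjective _ hsurj
  rw [ideal_eq_ker I hI]
  exact IsLocalRing.eq_maximalIdeal this

/-- elements spanning the cotangent space generate a finite local algebra with residue field
`k` -/
theorem aeval_surjective [IsLocalRing A] (I : Ideal A)
    (hI : ∀ a : A, a ∈ I ↔ counit (R := k) a = 0) {d : ℕ} (x : Fin d → A)
    (hspan : ∀ a ∈ I, ∃ c : Fin d → k, a - ∑ i, c i • x i ∈ I ^ 2) :
    Function.Surjective (aeval x : MvPolynomial (Fin d) k →ₐ[k] A) := by
  set S := (aeval x : MvPolynomial (Fin d) k →ₐ[k] A).range with hS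
  have hxS : ∀ i, x i ∈ S := fun i => ⟨X i, by simp⟩
  have hG : ∀ n : ℕ, ∀ a ∈ I ^ n, ∃ s ∈ S, a - s ∈ I ^ (n + 1) := by
    intro n
    induction n with
    | zero =>
      intro a _
      refine ⟨algebraMap k A (counit (R := k) a), S.algebraMap_mem _, ?_⟩
      rw [zero_add, pow_one, hI]
      simp
    | succ n ih =>
      intro a ha
      rw [pow_succ] at ha
      refine Submodule.mul_induction_on ha ?_ ?_
      · intro u hu w hw
        obtain ⟨su, hsu, hu'⟩ := ih u hu
        obtain ⟨c, hc⟩ := hspan w hw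
        refine ⟨su * ∑ i, c i • x i, S.mul_mem hsu
          (S.sum_mem fun i _ => S.smul_mem (hxS i) _), ?_⟩
        have hsuI : su ∈ I ^ n := by
          have : su = u - (u - su) := by ring
          rw [this]
          exact Ideal.sub_mem _ hu (Ideal.pow_le_pow_right (Nat.le_succ n) hu')
        have : u * w - su * ∑ i, c i • x i = su * (w - ∑ i, c i • x i) + (u - su) * w := by
          ring
        rw [this]
        apply Ideal.add_mem
        · have : I ^ (n + 1 + 1) = I ^ n * I ^ 2 := by rw [← pow_add]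
          rw [this]
          exact Ideal.mul_mem_mul hsuI hc
        · rw [pow_succ _ (n + 1)]
          exact Ideal.mul_mem_mul hu' hw
      · intro a b ha hb
        obtain ⟨s1, hs1, h1⟩ := ha
        obtain ⟨s2, hs2, h2⟩ := hb
        refine ⟨s1 + s2, S.add_mem hs1 hs2, ?_⟩
        have : a + b - (s1 + s2) = (a - s1) + (b - s2) := by ring
        rw [this]
        exact Ideal.add_mem _ h1 h2
  have hall : ∀ n : ℕ, ∀ a : A, ∃ s ∈ S, a - s ∈ I ^ n := by
    intro n
    induction n with
    | zero => intro a; exact ⟨0, S.zero_mem, by simp⟩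
    | succ n ih =>
      intro a
      obtain ⟨s, hs, h1⟩ := ih a
      obtain ⟨t, ht, h2⟩ := hG n _ h1
      refine ⟨s + t, S.add_mem hs ht, ?_⟩
      have : a - (s + t) = a - s - t := by ring
      rw [this]
      exact h2
  have hart : IsArtinianRing A := IsArtinianRing.of_finite k A
  obtain ⟨N, hN⟩ : IsNilpotent I := by
    rw [ideal_eq_maximalIdeal I hI, ← IsLocalRing.jacobson_eq_maximalIdeal ⊥ bot_ne_top]
    exact IsArtinianRing.isNilpotent_jacobson_bot
  intro a
  obtain ⟨s, hs, h1⟩ := hall N a
  rw [hN] at h1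
  have : a = s := by
    have := (Submodule.mem_bot A).1 h1
    exact sub_eq_zero.1 this
  rw [this]
  exact hs

/-- the Frobenius kernel of a finite local Hopf algebra is a truncated polynomial algebra -/
theorem frobeniusKernel_equiv [IsLocalRing A] (p : ℕ) [Fact p.Prime] [CharP k p]
    (I : Ideal A) (hI : ∀ a : A, a ∈ I ↔ counit (R := k) a = 0) (d : ℕ)
    (hd : Module.finrank k I.Cotangent = d) :
    Nonempty ((A ⧸ Ideal.span ((fun a : A => a ^ p) '' (I : Set A))) ≃ₐ[k]
      (MvPolynomial (Fin d) k ⧸
        Ideal.span (Set.range fun i : Fin d => (X i : MvPolynomial (Fin d) k) ^ p))) := by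
  classical
  have hp : p.Prime := Fact.out
  obtain ⟨x, D, hxI, hDx, hspan⟩ := exists_coords I hI d hd
  obtain ⟨J, hJ⟩ : ∃ J : Ideal A, J = Ideal.span ((fun a : A => a ^ p) '' (I : Set A)) :=
    ⟨_, rfl⟩
  obtain ⟨K, hK⟩ : ∃ K : Ideal (MvPolynomial (Fin d) k),
      K = Ideal.span (Set.range fun i : Fin d => (X i : MvPolynomial (Fin d) k) ^ p) := ⟨_, rfl⟩
  rw [← hJ, ← hK]
  have hJI : J ≤ I := by
    rw [hJ, Ideal.span_le]
    rintro _ ⟨a, ha, rfl⟩
    exact I.pow_mem_of_mem ha p hp.pos
  have hJtop : J ≠ ⊤ := by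
    intro h
    have h1 : (1 : A) ∈ I := hJI (h ▸ Submodule.mem_top)
    rw [hI] at h1
    simp at h1
  have hunit : ∀ a : A, counit (R := k) a ≠ 0 → IsUnit a := by
    intro a ha
    rw [← IsLocalRing.notMem_maximalIdeal, ← ideal_eq_maximalIdeal I hI, hI]
    exact ha
  have hstep : ∀ f : MvPolynomial (Fin d) k, aeval x f ∈ J → ∀ j, aeval x (pderiv j f) ∈ J := by
    intro f hf
    apply mem_of_mulVec_mem hunit (Matrix.of fun i j => D i (x j)) hDx J
      (fun j => aeval x (pderiv j f))
    intro i
    have := derivation_mem_span_pow p (D i) (I : Set A) _ (hJ ▸ hf)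
    rw [derivation_aeval, ← hJ] at this
    convert this using 1
    refine Finset.sum_congr rfl fun j _ => ?_
    simp [mul_comm]
  have hKJ : K ≤ J.comap (aeval x : MvPolynomial (Fin d) k →ₐ[k] A) := by
    rw [hK, Ideal.span_le]
    rintro _ ⟨i, rfl⟩
    simp only [SetLike.mem_coe, Ideal.mem_comap, map_pow, aeval_X]
    rw [hJ]
    exact Ideal.subset_span ⟨x i, hxI i, rfl⟩
  have hJK : J.comap (aeval x : MvPolynomial (Fin d) k →ₐ[k] A) ≤ K := by
    intro q hz
    rw [Ideal.mem_comap] at hz
    obtain ⟨r, hr, hqr⟩ := exists_trunc_sub_mem p q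
    rw [← hK] at hqr
    have h2 : aeval x r ∈ J := by
      have h3 : aeval x (q - r) ∈ J := hKJ hqr
      have : aeval x r = aeval x q - aeval x (q - r) := by simp
      rw [this]
      exact Ideal.sub_mem _ hz h3
    have h4 : r = 0 := eq_zero_of_aeval_mem p J hJtop x hstep _ r hr le_rfl h2
    rw [h4, sub_zero] at hqr
    exact hqr
  exact quot_equiv_of (aeval x) J K hKJ hJK (aeval_surjective I hI x hspan)

end Main

end Groth.Agent.H83.HeightOne
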