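import Groth.Agent.H83.TruncPoly

/-! The dimension of the truncated polynomial algebra `k[X_1..X_d]/(X_i^p)`. -/

set_option autoImplicit false
universe u

namespace Groth.Agent.H83.TruncDim

open MvPolynomial Groth.Agent.H83.TruncPoly

variable (k : Type u) [Field k] (d p : ℕ)

/-- exponent vectors with all entries `< p` -/
def truncSet : Set (Fin d →₀ ℕ) := {s | ∀ i, s i < p}

theorem card_truncSet : Nat.card (truncSet d p) = p ^ d := by
  have e : truncSet d p ≃ (Fin d → Fin p) :=
    { toFun := fun s i => ⟨s.1 i, s.2 i⟩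
      invFun := fun g => ⟨Finsupp.equivFunOnFinite.symm (fun i => (g i : ℕ)), fun i => by simp⟩
      left_inv := fun s => by
        apply Subtype.ext
        ext i
        simp
      right_inv := fun g => by
        funext i
        apply Fin.ext
        simp }
  rw [Nat.card_congr e, Nat.card_fun, Nat.card_fin, Nat.card_fin]

theorem mem_restrictSupport_iff_isTrunc (f : MvPolynomial (Fin d) k) :
    f ∈ restrictSupport k (truncSet d p) ↔ IsTrunc p f := by
  rw [mem_restrictSupport_iff]
  constructor
  · intro h s hs i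
    exact h (Finset.mem_coe.2 hs) i
  · intro h s hs
    exact fun i => h s (Finset.mem_coe.1 hs) i

theorem eq_zero_of_isTrunc_of_mem (f : MvPolynomial (Fin d) k) (hf : IsTrunc p f)
    (hmem : f ∈ Ideal.span (Set.range fun i : Fin d => (X i : MvPolynomial (Fin d) k) ^ p)) :
    f = 0 := by
  have hset : (Set.range fun i : Fin d => (X i : MvPolynomial (Fin d) k) ^ p) =
      (fun s => monomial s (1 : k)) '' (Set.range fun i : Fin d => Finsupp.single i p) := by
    ext g
    constructor
    · rintro ⟨i, rfl⟩
      exact ⟨Finsupp.single i p, ⟨i, rfl⟩, (X_pow_eq_monomial).symm⟩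
    · rintro ⟨_, ⟨i, rfl⟩, rfl⟩
      exact ⟨i, X_pow_eq_monomial⟩
  rw [hset, mem_ideal_span_monomial_image] at hmem
  rw [← support_eq_empty, Finset.eq_empty_iff_forall_notMem]
  intro m hm
  obtain ⟨_, ⟨i, rfl⟩, hle⟩ := hmem m hm
  have h1 := hle i
  have h2 := hf m hm i
  simp at h1
  omega

/-- the truncated polynomial algebra has dimension `p ^ d` -/
theorem finrank_truncQuot :
    Module.finrank k (MvPolynomial (Fin d) k ⧸
      Ideal.span (Set.range fun i : Fin d => (X i : MvPolynomial (Fin d) k) ^ p)) = p ^ d := by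
  obtain ⟨K, hK⟩ : ∃ K : Ideal (MvPolynomial (Fin d) k),
      K = Ideal.span (Set.range fun i : Fin d => (X i : MvPolynomial (Fin d) k) ^ p) := ⟨_, rfl⟩
  rw [← hK]
  let ι : restrictSupport k (truncSet d p) →ₗ[k] (MvPolynomial (Fin d) k ⧸ K) :=
    (Ideal.Quotient.mkₐ k K).toLinearMap ∘ₗ (restrictSupport k (truncSet d p)).subtype
  have hinj : Function.Injective ι := by
    rw [injective_iff_map_eq_zero]
    intro f hf
    have h1 : (f : MvPolynomial (Fin d) k) ∈ K := Ideal.Quotient.eq_zero_iff_mem.1 hf
    rw [hK] at h1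
    have h2 := eq_zero_of_isTrunc_of_mem k d p _
      ((mem_restrictSupport_iff_isTrunc k d p _).1 f.2) h1
    exact Subtype.ext h2
  have hsurj : Function.Surjective ι := by
    intro y
    obtain ⟨q, rfl⟩ := Ideal.Quotient.mk_surjective y
    obtain ⟨r, hr, hqr⟩ := exists_trunc_sub_mem p q
    rw [← hK] at hqr
    refine ⟨⟨r, (mem_restrictSupport_iff_isTrunc k d p r).2 hr⟩, ?_⟩
    show Ideal.Quotient.mk K r = Ideal.Quotient.mk K q
    rw [Ideal.Quotient.eq]
    have : r - q = -(q - r) := by ring
    rw [this]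
    exact K.neg_mem hqr
  rw [← (LinearEquiv.ofBijective ι ⟨hinj, hsurj⟩).finrank_eq,
    Module.finrank_eq_nat_card_basis (basisRestrictSupport k (truncSet d p)), card_truncSet]

end Groth.Agent.H83.TruncDim
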