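import Groth.Agent.H83.HeightOne
import Groth.Agent.H83.TruncDim

/-! The order of a finite group scheme of height at most one. -/

set_option autoImplicit false
universe u v

namespace Groth.Agent.H83.HeightOneDim

open Coalgebra Groth.Agent.H83.HeightOne Groth.Agent.H83.TruncDim

variable {k : Type u} [Field k] {A : Type v} [CommRing A] [Bialgebra k A]

/-- if the augmentation ideal is nil then elements with nonzero counit are units -/
theorem isUnit_of_counit_ne_zero (hnil : ∀ f : A, counit (R := k) f = 0 → IsNilpotent f) (a : A)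
    (ha : counit (R := k) a ≠ 0) : IsUnit a := by
  set c := counit (R := k) a with hc
  have hn : IsNilpotent (algebraMap k A c⁻¹ * (a - algebraMap k A c)) := by
    apply Commute.isNilpotent_mul_left (Commute.all _ _)
    apply hnil
    simp [hc]
  have h1 : a = algebraMap k A c * (1 + algebraMap k A c⁻¹ * (a - algebraMap k A c)) := by
    have : algebraMap k A c * algebraMap k A c⁻¹ = 1 := by
      rw [← map_mul, mul_inv_cancel₀ ha, map_one]
    calc a = a - algebraMap k A c + algebraMap k A c := by ring
      _ = (algebraMap k A c * algebraMap k A c⁻¹) * (a - algebraMap k A c) + algebraMap k A c := by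
        rw [this, one_mul]
      _ = _ := by ring
  rw [h1]
  exact ((IsUnit.mk0 c ha).map (algebraMap k A)).mul hn.isUnit_one_add

theorem isLocalRing_of_nil [Nontrivial A]
    (hnil : ∀ f : A, counit (R := k) f = 0 → IsNilpotent f) : IsLocalRing A := by
  apply IsLocalRing.of_isUnit_or_isUnit_one_sub_self
  intro a
  by_cases ha : counit (R := k) a = 0
  · right
    apply isUnit_of_counit_ne_zero hnil
    simp [ha]
  · left
    exact isUnit_of_counit_ne_zero hnil a ha

/-- the order of a finite group scheme of height at most one -/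
theorem finrank_of_height_le_one [Module.Finite k A] (p : ℕ) [Fact p.Prime] [CharP k p]
    (h1 : ∀ f : A, counit (R := k) f = 0 → f ^ p = 0) :
    Module.finrank k A =
      p ^ Module.finrank k (RingHom.ker (Bialgebra.counitAlgHom k A)).Cotangent := by
  have hnt : Nontrivial A := by
    refine ⟨⟨1, 0, fun h => ?_⟩⟩
    have := congrArg (counit (R := k)) h
    simp at this
  have hloc : IsLocalRing A := isLocalRing_of_nil fun f hf => ⟨p, h1 f hf⟩
  obtain ⟨e⟩ := frobeniusKernel_equiv p (RingHom.ker (Bialgebra.counitAlgHom k A))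
    (fun a => by rw [RingHom.mem_ker]; rfl) _ rfl
  have hJ : Ideal.span ((fun a : A => a ^ p) ''
      ((RingHom.ker (Bialgebra.counitAlgHom k A) : Ideal A) : Set A)) = ⊥ := by
    rw [Ideal.span_eq_bot]
    rintro _ ⟨a, ha, rfl⟩
    exact h1 a ha
  obtain ⟨J, hJ'⟩ : ∃ J : Ideal A, J = Ideal.span ((fun a : A => a ^ p) ''
      ((RingHom.ker (Bialgebra.counitAlgHom k A) : Ideal A) : Set A)) := ⟨_, rfl⟩
  rw [← hJ'] at e hJ
  have hbij : Function.Bijective (Ideal.Quotient.mkₐ k J).toLinearMap := by
    refine ⟨?_, Ideal.Quotient.mk_surjective⟩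
    rw [← LinearMap.ker_eq_bot, eq_bot_iff]
    intro a ha
    have : a ∈ J := Ideal.Quotient.eq_zero_iff_mem.1 ha
    rw [hJ] at this
    exact this
  rw [(LinearEquiv.ofBijective _ hbij).finrank_eq, e.toLinearEquiv.finrank_eq, finrank_truncQuot]

end Groth.Agent.H83.HeightOneDim
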