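import Groth.Prelude.Def_Hoch
import Groth.Prelude.Def_CoactBr2
import Groth.Agent.H83.FlatQuot

/-!
Base change of the Hochschild cochain complex of a comodule.
-/

set_option autoImplicit false
universe u v w
open TensorProduct

namespace Groth.Agent.H83.HochBC

attribute [local instance] CoactBr.Comod.baseChange

section Defs

variable (K : Type u) [CommRing K] (A : Type v) [CommRing A] [Bialgebra K A]
variable (V : Type v) [AddCommGroup V] [Module K V]
variable (R : Type w) [CommRing R] [Algebra K R]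

/-- the canonical comparison isomorphisms `R ⊗ C^n(A, V) ≃ C^n(R ⊗ A, R ⊗ V)`. -/
noncomputable def Phi : (n : ℕ) →
    (R ⊗[K] (Hoch.cochain K A V n : Type v)) ≃ₗ[R]
      (Hoch.cochain R (R ⊗[K] A) (R ⊗[K] V) n : Type (max w v))
  | 0 => LinearEquiv.refl R (R ⊗[K] V)
  | n + 1 =>
    (AlgebraTensorModule.distribBaseChange K R (Hoch.cochain K A V n : Type v) A) ≪≫ₗ
      TensorProduct.congr (Phi n) (LinearEquiv.refl R (R ⊗[K] A))

theorem Phi_zero_apply (x : R ⊗[K] V) : Phi K A V R 0 x = x := rfl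

theorem Phi_succ_tmul (n : ℕ) (r : R) (c : (Hoch.cochain K A V n : Type v)) (a : A) :
    Phi K A V R (n + 1) (r ⊗ₜ[K] (c ⊗ₜ[K] a)) =
      (Phi K A V R n (r ⊗ₜ[K] c)) ⊗ₜ[R] ((1 : R) ⊗ₜ[K] a) := rfl

/-- a family of maps satisfying the two characterising identities is the canonical one. -/
theorem eq_Phi
    (φ : ∀ n : ℕ, R ⊗[K] (Hoch.cochain K A V n : Type v) →ₗ[R]
      (Hoch.cochain R (R ⊗[K] A) (R ⊗[K] V) n : Type (max w v)))
    (hφ0 : ∀ x : R ⊗[K] V, φ 0 x = x)
    (hφs : ∀ (n : ℕ) (r : R) (c : (Hoch.cochain K A V n : Type v)) (a : A),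
      φ (n + 1) (r ⊗ₜ[K] (c ⊗ₜ[K] a)) = (φ n (r ⊗ₜ[K] c)) ⊗ₜ[R] ((1 : R) ⊗ₜ[K] a)) :
    ∀ n : ℕ, φ n = (Phi K A V R n).toLinearMap
  | 0 => by
    apply LinearMap.ext
    intro x
    rw [hφ0]
    rfl
  | n + 1 => by
    have ih := eq_Phi φ hφ0 hφs n
    apply LinearMap.ext
    intro z
    induction z using TensorProduct.induction_on with
    | zero => rw [map_zero, map_zero]
    | tmul r x =>
      induction x using TensorProduct.induction_on with
      | zero => rw [tmul_zero, map_zero, map_zero]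
      | tmul c a =>
        rw [hφs, ih]
        rfl
      | add x y hx hy => rw [tmul_add, map_add, map_add, hx, hy]
    | add x y hx hy => rw [map_add, map_add, hx, hy]

end Defs

section Comm

variable (K : Type u) [CommRing K] (A : Type v) [CommRing A] [Bialgebra K A]
variable (V : Type v) [AddCommGroup V] [Module K V] [HopfRep.Comod K A V]
variable (R : Type w) [CommRing R] [Algebra K R]

/-- `a₁ ⊗ a₂ ↦ (1 ⊗ a₁) ⊗ (1 ⊗ a₂)`. -/
noncomputable def jmap : A ⊗[K] A →ₗ[K] (R ⊗[K] A) ⊗[R] (R ⊗[K] A) :=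
  ((AlgebraTensorModule.distribBaseChange K R A A).toLinearMap.restrictScalars K) ∘ₗ
    (TensorProduct.mk K R (A ⊗[K] A) 1)

theorem jmap_tmul (a₁ a₂ : A) :
    jmap K A R (a₁ ⊗ₜ[K] a₂) = ((1 : R) ⊗ₜ[K] a₁) ⊗ₜ[R] ((1 : R) ⊗ₜ[K] a₂) := rfl

theorem comul_one_tmul (a : A) :
    Coalgebra.comul (R := R) (A := R ⊗[K] A) ((1 : R) ⊗ₜ[K] a) =
      jmap K A R (Coalgebra.comul (R := K) a) := by
  rw [TensorProduct.comul_tmul]
  have h1 : Coalgebra.comul (R := R) (A := R) (1 : R) = (1 : R) ⊗ₜ[R] (1 : R) := rfl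
  rw [h1]
  induction (Coalgebra.comul (R := K) a) using TensorProduct.induction_on with
  | zero => rw [tmul_zero, map_zero, map_zero]
  | tmul a₁ a₂ => rfl
  | add x y hx hy => rw [tmul_add, map_add, map_add, hx, hy]

theorem redComul_one_tmul (a : A) :
    Hoch.redComul R (R ⊗[K] A) ((1 : R) ⊗ₜ[K] a) = jmap K A R (Hoch.redComul K A a) := by
  rw [Hoch.redComul_apply, Hoch.redComul_apply, comul_one_tmul, map_sub, map_sub, jmap_tmul,
    jmap_tmul]
  rfl

omit [HopfRep.Comod K A V] in
/-- compatibility of the comparison maps with re-association. -/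
theorem Phi_assoc_symm (n : ℕ) (r : R) (c : (Hoch.cochain K A V n : Type v)) (t : A ⊗[K] A) :
    Phi K A V R (n + 2)
        (r ⊗ₜ[K] ((TensorProduct.assoc K (Hoch.cochain K A V n : Type v) A A).symm (c ⊗ₜ[K] t))) =
      (TensorProduct.assoc R (Hoch.cochain R (R ⊗[K] A) (R ⊗[K] V) n : Type (max w v))
        (R ⊗[K] A) (R ⊗[K] A)).symm ((Phi K A V R n (r ⊗ₜ[K] c)) ⊗ₜ[R] jmap K A R t) := by
  induction t using TensorProduct.induction_on with
  | zero => rw [tmul_zero, map_zero, tmul_zero, map_zero, map_zero, tmul_zero, map_zero]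
  | tmul a₁ a₂ => rfl
  | add x y hx hy =>
    rw [tmul_add, map_add, tmul_add, map_add, hx, hy, map_add, tmul_add, map_add]

theorem tail_comm (n : ℕ) (x : R ⊗[K] (Hoch.cochain K A V (n + 1) : Type v)) :
    Phi K A V R (n + 2) ((Hoch.tail K A (Hoch.cochain K A V n : Type v)).baseChange R x) =
      Hoch.tail R (R ⊗[K] A) (Hoch.cochain R (R ⊗[K] A) (R ⊗[K] V) n : Type (max w v))
        (Phi K A V R (n + 1) x) := by
  induction x using TensorProduct.induction_on with
  | zero => rw [map_zero, map_zero, map_zero, map_zero]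
  | tmul r y =>
    rw [LinearMap.baseChange_tmul]
    induction y using TensorProduct.induction_on with
    | zero => simp only [map_zero, tmul_zero]
    | tmul c a =>
      rw [Phi_succ_tmul, Hoch.tail_tmul, Hoch.tail_tmul]
      have h := redComul_one_tmul K A R a
      rw [Hoch.redComul_apply, Hoch.redComul_apply] at h
      rw [h]
      exact Phi_assoc_symm K A V R n r c _
    | add y z hy hz => rw [map_add, tmul_add, map_add, hy, hz, tmul_add, map_add, map_add]
  | add x y hx hy => rw [map_add, map_add, map_add, map_add, hx, hy]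

theorem rTensor_comm (n : ℕ)
    (ih : ∀ x, Phi K A V R (n + 1) ((Hoch.d K A V n).baseChange R x) =
      Hoch.d R (R ⊗[K] A) (R ⊗[K] V) n (Phi K A V R n x))
    (x : R ⊗[K] (Hoch.cochain K A V (n + 1) : Type v)) :
    Phi K A V R (n + 2) (((Hoch.d K A V n).rTensor A).baseChange R x) =
      (Hoch.d R (R ⊗[K] A) (R ⊗[K] V) n).rTensor (R ⊗[K] A) (Phi K A V R (n + 1) x) := by
  induction x using TensorProduct.induction_on with
  | zero => rw [map_zero, map_zero, map_zero, map_zero]
  | tmul r y =>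
    rw [LinearMap.baseChange_tmul]
    induction y using TensorProduct.induction_on with
    | zero => simp only [map_zero, tmul_zero]
    | tmul c a =>
      rw [LinearMap.rTensor_tmul, Phi_succ_tmul, Phi_succ_tmul, LinearMap.rTensor_tmul, ← ih,
        LinearMap.baseChange_tmul]
    | add y z hy hz => rw [map_add, tmul_add, map_add, hy, hz, tmul_add, map_add, map_add]
  | add x y hx hy => rw [map_add, map_add, map_add, map_add, hx, hy]

omit [HopfRep.Comod K A V] in
theorem coact_comm (r : R) (t : V ⊗[K] A) :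
    AlgebraTensorModule.distribBaseChange K R V A (r ⊗ₜ[K] t) =
      AlgebraTensorModule.tensorTensorTensorComm K R K R R R V A
        (((1 : R) ⊗ₜ[R] r) ⊗ₜ[K] t) := by
  induction t using TensorProduct.induction_on with
  | zero => rw [tmul_zero, map_zero, tmul_zero, map_zero]
  | tmul v a =>
    rw [AlgebraTensorModule.distribBaseChange_tmul,
      AlgebraTensorModule.tensorTensorTensorComm_tmul]
    have h1 : r ⊗ₜ[K] v = r • ((1 : R) ⊗ₜ[K] v) := by
      rw [TensorProduct.smul_tmul', smul_eq_mul, mul_one]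
    have h2 : r ⊗ₜ[K] a = r • ((1 : R) ⊗ₜ[K] a) := by
      rw [TensorProduct.smul_tmul', smul_eq_mul, mul_one]
    rw [h1, h2, TensorProduct.smul_tmul]
  | add x y hx hy => rw [tmul_add, map_add, hx, hy, tmul_add, map_add]

omit [HopfRep.Comod K A V] in
theorem Phi_one : Phi K A V R 1 = AlgebraTensorModule.distribBaseChange K R V A := by
  change AlgebraTensorModule.distribBaseChange K R V A ≪≫ₗ
    TensorProduct.congr (LinearEquiv.refl R (R ⊗[K] V)) (LinearEquiv.refl R (R ⊗[K] A)) = _
  rw [TensorProduct.congr_refl_refl]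
  rfl

theorem comm_zero (x : R ⊗[K] V) :
    Phi K A V R 1 ((Hoch.d K A V 0).baseChange R x) =
      Hoch.d R (R ⊗[K] A) (R ⊗[K] V) 0 (Phi K A V R 0 x) := by
  induction x using TensorProduct.induction_on with
  | zero => rw [map_zero, map_zero, map_zero, map_zero]
  | tmul r v =>
    rw [LinearMap.baseChange_tmul, Hoch.d_zero_apply, Phi_zero_apply, Hoch.d_zero_apply,
      tmul_sub, map_sub]
    congr 1
    rw [Phi_one, CoactBr.baseChange_coact_tmul]
    exact coact_comm K A V R r _
  | add x y hx hy => rw [map_add, map_add, map_add, map_add, hx, hy]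

/-- the comparison maps commute with the differentials. -/
theorem comm : ∀ (n : ℕ) (x : R ⊗[K] (Hoch.cochain K A V n : Type v)),
    Phi K A V R (n + 1) ((Hoch.d K A V n).baseChange R x) =
      Hoch.d R (R ⊗[K] A) (R ⊗[K] V) n (Phi K A V R n x)
  | 0 => comm_zero K A V R
  | n + 1 => by
    intro x
    have ih := comm n
    rw [Hoch.d_succ, Hoch.d_succ, LinearMap.baseChange_add, LinearMap.add_apply,
      LinearMap.add_apply, map_add, rTensor_comm K A V R n ih]
    congr 1
    rw [LinearMap.baseChange_smul, LinearMap.smul_apply, LinearMap.smul_apply,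
      ← algebraMap_smul R ((-1 : K) ^ (n + 1)), map_smul, tail_comm, map_pow, map_neg, map_one]

end Comm

end Groth.Agent.H83.HochBC
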