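import Mathlib

/-! Invariant derivations of a commutative bialgebra attached to point derivations at the
counit. -/

set_option autoImplicit false
universe u v

namespace Groth.Agent.H83.InvDer

open TensorProduct Coalgebra

section Der

variable {k : Type u} [CommRing k] {A : Type v} [CommRing A] [Bialgebra k A]

/-- the contraction `a ⊗ b ↦ ψ b • a` -/
noncomputable def contr (ψ : A →ₗ[k] k) : A ⊗[k] A →ₗ[k] A :=
  (TensorProduct.rid k A).toLinearMap ∘ₗ LinearMap.lTensor A ψ

@[simp] theorem contr_tmul (ψ : A →ₗ[k] k) (a b : A) : contr ψ (a ⊗ₜ[k] b) = ψ b • a := by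
  simp [contr]

/-- the contraction against a point derivation satisfies a twisted Leibniz rule -/
theorem contr_mul (ψ : A →ₗ[k] k)
    (hψ : ∀ a b : A, ψ (a * b) = counit (R := k) a * ψ b + ψ a * counit (R := k) b)
    (t t' : A ⊗[k] A) :
    contr ψ (t * t') = contr (counit (R := k)) t * contr ψ t' +
      contr ψ t * contr (counit (R := k)) t' := by
  induction t using TensorProduct.induction_on with
  | zero => simp
  | add x y hx hy => simp only [add_mul, map_add, hx, hy]; ring
  | tmul a b =>
    induction t' using TensorProduct.induction_on with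
    | zero => simp
    | add x y hx hy => simp only [mul_add, map_add, hx, hy]; ring
    | tmul a' b' =>
      simp only [Algebra.TensorProduct.tmul_mul_tmul, contr_tmul, hψ, add_smul, mul_smul,
        smul_mul_smul_comm]

theorem contr_counit_comul (a : A) : contr (counit (R := k)) (comul (R := k) a) = a := by
  have := Coalgebra.lTensor_counit_comul (R := k) a
  simp [contr, this]

/-- the invariant derivation attached to a point derivation `ψ` -/
noncomputable def invDer (ψ : A →ₗ[k] k)
    (hψ : ∀ a b : A, ψ (a * b) = counit (R := k) a * ψ b + ψ a * counit (R := k) b) :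
    Derivation k A A :=
  Derivation.mk' (contr ψ ∘ₗ comul) (by
    intro a b
    simp only [LinearMap.comp_apply, Bialgebra.comul_mul, contr_mul ψ hψ, contr_counit_comul,
      smul_eq_mul]
    ring)

theorem invDer_apply (ψ : A →ₗ[k] k)
    (hψ : ∀ a b : A, ψ (a * b) = counit (R := k) a * ψ b + ψ a * counit (R := k) b) (a : A) :
    invDer ψ hψ a = contr ψ (comul (R := k) a) := rfl

/-- the counit of the invariant derivation recovers the point derivation -/
theorem counit_invDer (ψ : A →ₗ[k] k)
    (hψ : ∀ a b : A, ψ (a * b) = counit (R := k) a * ψ b + ψ a * counit (R := k) b) (a : A) :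
    counit (R := k) (invDer ψ hψ a) = ψ a := by
  have h1 : (counit (R := k) : A →ₗ[k] k) ∘ₗ contr ψ =
      ψ ∘ₗ (TensorProduct.lid k A).toLinearMap ∘ₗ LinearMap.rTensor A (counit (R := k)) := by
    ext a b
    simp [mul_comm]
  have h2 := LinearMap.congr_fun h1 (comul (R := k) a)
  simp only [LinearMap.comp_apply] at h2
  rw [invDer_apply, h2, Coalgebra.rTensor_counit_comul]
  simp

end Der

end Groth.Agent.H83.InvDer
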