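import Groth.Prelude.Def_GLin
import Mathlib

/-! Invariants of an integrally closed domain under a flat bialgebra coaction. -/

set_option autoImplicit false
universe u v w

namespace Groth.Agent.H83

open TensorProduct HopfRep

section

variable {k : Type u} [CommRing k] {A : Type v} [CommRing A] [Bialgebra k A] [Module.Flat k A]
  {R : Type w} [CommRing R] [Algebra k R] [IsDomain R]

omit [Bialgebra k A] in
theorem eq_zero_of_tmul_one_mul [Algebra k A] [Module.Flat k A] {b : R} (hb : b ≠ 0) {y : R ⊗[k] A}
    (h : (b ⊗ₜ[k] (1 : A)) * y = 0) : y = 0 := by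
  have hinj : Function.Injective (LinearMap.mulLeft k b) := by
    intro x x' hxx'
    exact mul_left_cancel₀ hb hxx'
  have hinj' := Module.Flat.rTensor_preserves_injective_linearMap (M := A) _ hinj
  have key : ∀ z : R ⊗[k] A, (LinearMap.mulLeft k b).rTensor A z = (b ⊗ₜ[k] (1 : A)) * z := by
    intro z
    induction z with
    | zero => simp
    | tmul r a => simp [Algebra.TensorProduct.tmul_mul_tmul]
    | add x y hx hy => rw [map_add, hx, hy, mul_add]
  apply hinj'
  rw [map_zero, key, h]

variable [Comod k A R] [GLin.IsCoactAlg k A R]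

theorem mem_invariants_of_mul_eq {a b r : R} (ha : a ∈ GLin.invariants k A R)
    (hb : b ∈ GLin.invariants k A R) (hb0 : b ≠ 0) (h : b * r = a) :
    r ∈ GLin.invariants k A R := by
  have ha' : Comod.coact (k := k) (A := A) a = a ⊗ₜ[k] (1 : A) := ha
  have hb' : Comod.coact (k := k) (A := A) b = b ⊗ₜ[k] (1 : A) := hb
  change Comod.coact (k := k) (A := A) r = r ⊗ₜ[k] (1 : A)
  rw [← sub_eq_zero]
  apply eq_zero_of_tmul_one_mul (k := k) (A := A) hb0
  rw [mul_sub, ← hb', ← GLin.IsCoactAlg.coact_mul, h, ha', hb',
    Algebra.TensorProduct.tmul_mul_tmul, h, mul_one, sub_self]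


theorem isIntegrallyClosed_invariants [IsIntegrallyClosed R] :
    IsIntegrallyClosed (GLin.invariants k A R) := by
  set S := GLin.invariants k A R with hS
  let K := FractionRing S
  let L := FractionRing R
  rw [isIntegrallyClosed_iff K]
  intro x hx
  obtain ⟨a, b, hb, rfl⟩ := IsFractionRing.div_surjective (A := S) x
  have hb0 : (b : R) ≠ 0 := by
    intro h
    have : b = 0 := Subtype.ext h
    exact (nonZeroDivisors.ne_zero hb) this
  -- the comparison map of fraction fields
  let j : S →+* L := (algebraMap R L).comp S.val.toRingHom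
  have hj : Function.Injective j :=
    (IsFractionRing.injective R L).comp Subtype.val_injective
  let φ : K →+* L := IsFractionRing.lift (A := S) (K := K) (g := j) hj
  have hφ : ∀ s : S, φ (algebraMap S K s) = algebraMap R L (s : R) := fun s =>
    IsFractionRing.lift_algebraMap hj s
  -- the image is integral over `R`
  have hint : IsIntegral R (algebraMap R L (a : R) / algebraMap R L (b : R)) := by
    obtain ⟨p, hp, hpx⟩ := hx
    refine ⟨p.map S.val.toRingHom, hp.map _, ?_⟩
    have hcomp : φ.comp (algebraMap S K) = j := by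
      ext s
      exact hφ s
    have h1 := congrArg φ hpx
    rw [Polynomial.hom_eval₂, map_zero, hcomp, map_div₀, hφ, hφ] at h1
    rw [Polynomial.eval₂_map]
    exact h1
  obtain ⟨r, hr⟩ := (isIntegrallyClosed_iff L).mp inferInstance hint
  have hbr : (b : R) * r = (a : R) := by
    apply IsFractionRing.injective R L
    rw [map_mul, hr, mul_div_cancel₀]
    intro h
    exact hb0 ((IsFractionRing.injective R L) (by rw [h, map_zero]))
  have hrS : r ∈ S := mem_invariants_of_mul_eq a.2 b.2 hb0 hbr
  refine ⟨⟨r, hrS⟩, ?_⟩
  have hbK : algebraMap S K b ≠ 0 := by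
    intro h
    exact (nonZeroDivisors.ne_zero hb) ((IsFractionRing.injective S K) (by rw [h, map_zero]))
  rw [eq_div_iff hbK, ← map_mul]
  congr 1
  apply Subtype.ext
  change r * (b : R) = (a : R)
  rw [mul_comm, hbr]

end

end Groth.Agent.H83
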