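import Mathlib.Algebra.Polynomial.Derivative
import Mathlib.Algebra.Polynomial.Eval.Defs
import Mathlib.Algebra.Polynomial.AlgebraMap
import Mathlib.Algebra.Algebra.Bilinear
import Mathlib.Data.Nat.Choose.Dvd
import Mathlib.Data.Nat.Choose.Sum
import Mathlib.Data.Int.GCD
import Mathlib.Algebra.CharP.Lemmas
import Mathlib.Algebra.Module.LinearMap.Basic
import Mathlib.Tactic.Abel

set_option autoImplicit false
universe u v w

namespace Groth.Agent.H83

section Binom

variable {S : Type u} [Ring S] (p : ℕ) [hp : Fact p.Prime]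

theorem choose_pred_cast (hp0 : (p : S) = 0) (m : ℕ) (hm : m ≤ p - 1) :
    (((p - 1).choose m : ℕ) : S) = (-1) ^ m := by
  induction m with
  | zero => simp
  | succ m ih =>
    have hp1 : p - 1 + 1 = p := Nat.sub_add_cancel hp.out.one_le
    have h1 : (p - 1).choose m + (p - 1).choose (m + 1) = p.choose (m + 1) := by
      conv_rhs => rw [← hp1]
      rw [Nat.choose_succ_succ]
    have h2 : ((p.choose (m + 1) : ℕ) : S) = 0 := by
      have hdvd : p ∣ p.choose (m + 1) :=
        hp.out.dvd_choose_self (Nat.succ_ne_zero m) (by omega)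
      obtain ⟨q, hq⟩ := hdvd
      rw [hq, Nat.cast_mul, hp0, zero_mul]
    have h3 := congrArg (Nat.cast (R := S)) h1
    rw [Nat.cast_add, h2, ih (by omega)] at h3
    rw [pow_succ, mul_neg, mul_one]
    exact eq_neg_of_add_eq_zero_right h3

theorem neg_one_pow_pred (hp0 : (p : S) = 0) : ((-1 : S)) ^ (p - 1) = 1 := by
  rcases hp.out.eq_two_or_odd' with h2 | hodd
  · subst h2
    have : (2 : S) = 0 := by exact_mod_cast hp0
    have h1 : (-1 : S) = 1 := by
      rw [neg_eq_iff_add_eq_zero]
      rw [one_add_one_eq_two]; exact this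
    simp [h1]
  · have : Even (p - 1) := Nat.Prime.even_sub_one hp.out (by
      rintro rfl
      exact (by decide : ¬ Odd 2) hodd)
    exact this.neg_one_pow

end Binom


theorem sum_range_succ_split {M : Type u} [AddCommMonoid M] (n : ℕ) (hn : 1 ≤ n) (f : ℕ → M) :
    ∑ m ∈ Finset.range (n + 1), f m = f 0 + ∑ k ∈ Finset.range (n - 1), f (k + 1) + f n := by
  obtain ⟨q, rfl⟩ : ∃ q, n = q + 1 := ⟨n - 1, by omega⟩
  rw [Finset.sum_range_succ, Finset.sum_range_succ', Nat.add_sub_cancel]
  abel

section Ad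

variable {S : Type u} [Ring S]

/-- the inner derivation `y ↦ x * y - y * x` as an additive endomorphism -/
noncomputable def adE (x : S) : Module.End ℤ S :=
  LinearMap.mulLeft ℤ x - LinearMap.mulRight ℤ x

@[simp] theorem adE_apply (x y : S) : adE x y = x * y - y * x := rfl

theorem mulLeft_pow' (x : S) (n : ℕ) :
    (LinearMap.mulLeft ℤ x : Module.End ℤ S) ^ n = LinearMap.mulLeft ℤ (x ^ n) := by
  induction n with
  | zero => ext y; simp
  | succ n ih =>
    rw [pow_succ, ih]
    ext y
    simp [pow_succ]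

theorem mulRight_pow' (x : S) (n : ℕ) :
    (LinearMap.mulRight ℤ x : Module.End ℤ S) ^ n = LinearMap.mulRight ℤ (x ^ n) := by
  induction n with
  | zero => ext y; simp
  | succ n ih =>
    rw [pow_succ, ih]
    ext y
    simp [pow_succ', mul_assoc]

theorem natCast_end_eq_zero (p : ℕ) (hp0 : (p : S) = 0) : ((p : ℕ) : Module.End ℤ S) = 0 := by
  ext y
  simp only [Module.End.natCast_apply, LinearMap.zero_apply]
  rw [nsmul_eq_mul, hp0, zero_mul]

variable (p : ℕ) [hp : Fact p.Prime]

/-- in characteristic `p`, `ad(x)^(p-1) y = Σ x^i y x^(p-1-i)` -/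
theorem adE_pow_pred (hp0 : (p : S) = 0) (x y : S) :
    (adE x ^ (p - 1)) y = ∑ i ∈ Finset.range p, x ^ i * y * x ^ (p - 1 - i) := by
  have hE := natCast_end_eq_zero (S := S) p hp0
  have hcomm : Commute (LinearMap.mulLeft ℤ x : Module.End ℤ S) (-LinearMap.mulRight ℤ x) :=
    (LinearMap.commute_mulLeft_right x x).neg_right
  have hp1 : p - 1 + 1 = p := Nat.sub_add_cancel hp.out.one_le
  have h1 : adE x ^ (p - 1) =
      ∑ m ∈ Finset.range p, (LinearMap.mulLeft ℤ (x ^ m) : Module.End ℤ S) *
        LinearMap.mulRight ℤ (x ^ (p - 1 - m)) := by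
    rw [adE, sub_eq_add_neg, hcomm.add_pow, hp1]
    apply Finset.sum_congr rfl
    intro m hm
    have hm' : m ≤ p - 1 := by
      have := Finset.mem_range.mp hm
      omega
    rw [choose_pred_cast p hE m hm', neg_pow, mulLeft_pow', mulRight_pow']
    have h2 : ((-1 : Module.End ℤ S)) ^ (p - 1 - m) * (-1) ^ m = 1 := by
      rw [← pow_add, Nat.sub_add_cancel hm', neg_one_pow_pred p hE]
    have hc : Commute ((-1 : Module.End ℤ S) ^ m)
        (LinearMap.mulRight ℤ (x ^ (p - 1 - m)) : Module.End ℤ S) :=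
      (Commute.neg_one_left _).pow_left m
    calc (LinearMap.mulLeft ℤ (x ^ m) : Module.End ℤ S) *
          ((-1) ^ (p - 1 - m) * LinearMap.mulRight ℤ (x ^ (p - 1 - m))) * (-1) ^ m
        = LinearMap.mulLeft ℤ (x ^ m) * ((-1) ^ (p - 1 - m) * (-1) ^ m) *
            LinearMap.mulRight ℤ (x ^ (p - 1 - m)) := by
          rw [mul_assoc, mul_assoc, mul_assoc, mul_assoc, hc.eq]
      _ = _ := by rw [h2, mul_one]
  rw [h1, LinearMap.sum_apply]
  apply Finset.sum_congr rfl
  intro m _
  simp [mul_assoc]

/-- in characteristic `p`, `ad(x)^p = ad(x^p)` -/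
theorem adE_pow_prime (hp0 : (p : S) = 0) (x y : S) :
    (adE x ^ p) y = x ^ p * y - y * x ^ p := by
  have hE := natCast_end_eq_zero (S := S) p hp0
  have hcomm : Commute (LinearMap.mulLeft ℤ x : Module.End ℤ S) (-LinearMap.mulRight ℤ x) :=
    (LinearMap.commute_mulLeft_right x x).neg_right
  have hp1 : p - 1 + 1 = p := Nat.sub_add_cancel hp.out.one_le
  have h1 : adE x ^ p =
      (LinearMap.mulLeft ℤ (x ^ p) : Module.End ℤ S) - LinearMap.mulRight ℤ (x ^ p) := by
    rw [adE, sub_eq_add_neg, hcomm.add_pow, sum_range_succ_split p hp.out.one_le]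
    have hmid : ∑ k ∈ Finset.range (p - 1),
        (LinearMap.mulLeft ℤ x : Module.End ℤ S) ^ (k + 1) *
          (-LinearMap.mulRight ℤ x) ^ (p - (k + 1)) * ((p.choose (k + 1) : ℕ) : Module.End ℤ S)
          = 0 := by
      apply Finset.sum_eq_zero
      intro k hk
      have hk' : k + 1 < p := by
        have := Finset.mem_range.mp hk
        omega
      have hdvd : p ∣ p.choose (k + 1) := hp.out.dvd_choose_self (Nat.succ_ne_zero k) hk'
      obtain ⟨q, hq⟩ := hdvd
      rw [hq, Nat.cast_mul, hE, zero_mul, mul_zero]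
    have hneg : ((-1 : Module.End ℤ S)) ^ p = -1 := by
      conv_lhs => rw [← hp1]
      rw [pow_succ, neg_one_pow_pred p hE, one_mul]
    rw [hmid, add_zero, Nat.choose_zero_right, Nat.choose_self, Nat.cast_one, mul_one, mul_one,
      pow_zero, one_mul, Nat.sub_zero, Nat.sub_self, pow_zero, mul_one, neg_pow, hneg, neg_one_mul,
      mulLeft_pow', mulRight_pow']
    abel
  rw [h1]
  simp

end Ad

section Jacobson

open Polynomial

variable {R : Type u} [Ring R]

theorem derivative_pow_noncomm (q : R[X]) (n : ℕ) :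
    derivative (q ^ n) = ∑ i ∈ Finset.range n, q ^ i * derivative q * q ^ (n - 1 - i) := by
  induction n with
  | zero => simp
  | succ n ih =>
    rw [pow_succ, derivative_mul, ih, Finset.sum_range_succ, Finset.sum_mul]
    congr 1
    · apply Finset.sum_congr rfl
      intro i hi
      have : n + 1 - 1 - i = (n - 1 - i) + 1 := by
        have := Finset.mem_range.mp hi
        omega
      rw [this, pow_succ, mul_assoc]
    · simp

variable (p : ℕ) [hp : Fact p.Prime]

theorem eq_zero_of_mul_natCast (hp0 : (p : R) = 0) (n : ℕ) (hn0 : 0 < n) (hn : n < p) (z : R)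
    (h : z * (n : R) = 0) : z = 0 := by
  have hcop : Nat.Coprime n p :=
    Nat.Coprime.symm ((Nat.Prime.coprime_iff_not_dvd hp.out).2 (Nat.not_dvd_of_pos_of_lt hn0 hn))
  obtain ⟨m, -, hm⟩ := Nat.exists_mul_mod_eq_one_of_coprime hcop hp.out.one_lt
  have h1 : n * m = p * (n * m / p) + 1 := by
    have := Nat.div_add_mod (n * m) p
    omega
  have h2 := congrArg (Nat.cast (R := R)) h1
  rw [Nat.cast_mul, Nat.cast_add, Nat.cast_mul, hp0, zero_mul, zero_add, Nat.cast_one] at h2
  calc z = z * 1 := (mul_one z).symm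
    _ = z * ((n : R) * (m : R)) := by rw [h2]
    _ = 0 := by rw [← mul_assoc, h, zero_mul]

/-- a special case of Jacobson's formula: `(a+b)^p = a^p + b^p + ad(a)^(p-1) b` when `b` commutes
with all the `ad(a)^m b` -/
theorem jacobson_special (hp0 : (p : R) = 0) (a b : R)
    (hcomm : ∀ m : ℕ, Commute b ((adE a ^ m) b)) :
    (a + b) ^ p = a ^ p + b ^ p + (adE a ^ (p - 1)) b := by
  set P : R[X] := C a + C b * X with hP
  have hder : derivative P = C b := by simp [hP]
  have had : ∀ m : ℕ, (adE P ^ m) (C b) = C ((adE a ^ m) b) := by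
    intro m
    induction m with
    | zero => simp
    | succ m ih =>
      rw [pow_succ', Module.End.mul_apply, ih, pow_succ', Module.End.mul_apply]
      have hby : b * (adE a ^ m) b = (adE a ^ m) b * b := (hcomm m).eq
      generalize (adE a ^ m) b = y at hby
      rw [adE_apply, adE_apply, hP, add_mul, mul_add, mul_assoc, X_mul_C, ← mul_assoc,
        ← mul_assoc, ← C_mul, ← C_mul, ← C_mul, ← C_mul, hby, C_sub]
      abel
  have hpX : ((p : ℕ) : R[X]) = 0 := by
    rw [← C_eq_natCast, hp0, C_0]
  have hD : derivative (P ^ p) = C ((adE a ^ (p - 1)) b) := by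
    rw [derivative_pow_noncomm, hder, ← adE_pow_pred p hpX P (C b), had]
  generalize (adE a ^ (p - 1)) b = c at hD
  have h0 : ∀ n, (P ^ n).coeff 0 = a ^ n := by
    intro n
    induction n with
    | zero => simp
    | succ n ih =>
      rw [pow_succ, mul_coeff_zero, ih, hP]
      simp [pow_succ]
  have hdegP : P.natDegree ≤ 1 := by
    rw [hP]
    refine (natDegree_add_le _ _).trans (max_le ?_ ?_)
    · simp
    · have := natDegree_C_mul_X_pow_le b 1
      simpa using this
  have hdeg : ∀ n, (P ^ n).natDegree ≤ n := by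
    intro n
    exact (natDegree_pow_le_of_le n hdegP).trans (by simp)
  have htop : ∀ n, (P ^ n).coeff n = b ^ n := by
    intro n
    induction n with
    | zero => simp
    | succ n ih =>
      have hz : (P ^ n).coeff (n + 1) = 0 :=
        coeff_eq_zero_of_natDegree_lt (lt_of_le_of_lt (hdeg n) (Nat.lt_succ_self n))
      rw [pow_succ, hP, mul_add, coeff_add, coeff_mul_C, ← mul_assoc, coeff_mul_X, coeff_mul_C,
        ih, hz, zero_mul, zero_add, pow_succ]
  have hcoef : ∀ k, (P ^ p).coeff (k + 1) * ((k : R) + 1) = (C c).coeff k := by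
    intro k
    rw [← coeff_derivative, hD]
  have hp2 : 2 ≤ p := hp.out.two_le
  have hR : ∀ j, (C (a ^ p) + C c * X + C (b ^ p) * X ^ p).coeff j =
      (if j = 0 then a ^ p else 0) + (if j = 1 then c else 0) + (if j = p then b ^ p else 0) := by
    intro j
    rw [coeff_add, coeff_add, coeff_C, coeff_C_mul_X_pow, coeff_C_mul_X]
  have hPp : P ^ p = C (a ^ p) + C c * X + C (b ^ p) * X ^ p := by
    ext j
    rw [hR]
    rcases j with _ | k
    · rw [h0, if_pos rfl, if_neg (by omega), if_neg (by omega), add_zero, add_zero]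
    · rcases Nat.eq_zero_or_pos k with rfl | hk
      · have h1 := hcoef 0
        simp only [Nat.cast_zero, zero_add, mul_one, coeff_C_zero] at h1
        rw [zero_add, h1, if_neg (by omega), if_pos rfl, if_neg (by omega), zero_add, add_zero]
      · rw [if_neg (by omega), if_neg (by omega), zero_add, zero_add]
        rcases lt_trichotomy (k + 1) p with hlt | heq | hgt
        · have h1 := hcoef k
          rw [coeff_C, if_neg (by omega)] at h1
          have h2 : (P ^ p).coeff (k + 1) * (((k + 1 : ℕ)) : R) = 0 := by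
            rw [Nat.cast_add, Nat.cast_one]
            exact h1
          have h3 := eq_zero_of_mul_natCast p hp0 (k + 1) (by omega) hlt _ h2
          rw [h3, if_neg (by omega)]
        · rw [heq, htop, if_pos rfl]
        · rw [coeff_eq_zero_of_natDegree_lt (lt_of_le_of_lt (hdeg p) hgt), if_neg (by omega)]
  let ev : R[X] →+* R := eval₂RingHom' (RingHom.id R) 1 (fun _ => Commute.one_right _)
  have hev := congrArg ev hPp
  have hevC : ∀ x : R, ev (C x) = x := by
    intro x
    simp [ev]
  have hevX : ev X = 1 := by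
    simp [ev]
  have hevP : ev P = a + b := by
    rw [hP, map_add, map_mul, hevC, hevC, hevX, mul_one]
  rw [map_pow, hevP] at hev
  simp only [map_add, map_mul, map_pow, hevC, hevX, one_pow, mul_one] at hev
  rw [hev]
  abel

end Jacobson

section Hochschild

variable {R : Type u} [Ring R] {B : Type v} [CommRing B]

/-- iterates: `ad(D)^n (μ g) = μ (T₀^n g)` -/
theorem adE_pow_map (μ : B →+* R) (D : R) (T₀ : B → B)
    (hD : ∀ g, D * μ g - μ g * D = μ (T₀ g)) (n : ℕ) (g : B) :
    (adE D ^ n) (μ g) = μ (T₀^[n] g) := by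
  induction n generalizing g with
  | zero => simp
  | succ n ih =>
    rw [pow_succ, Module.End.mul_apply, adE_apply, hD, ih, Function.iterate_succ_apply]

variable (p : ℕ) [hp : Fact p.Prime]

/-- `D^p` satisfies the commutation relation for the `p`-th iterate -/
theorem pow_prime_comm (hp0 : (p : R) = 0) (μ : B →+* R) (D : R) (T₀ : B → B)
    (hD : ∀ g, D * μ g - μ g * D = μ (T₀ g)) (g : B) :
    D ^ p * μ g - μ g * D ^ p = μ (T₀^[p] g) := by
  rw [← adE_pow_prime p hp0, adE_pow_map μ D T₀ hD]

/-- Hochschild's formula `(fD)^p = f^p D^p + (fD)^(p-1)(f) D` -/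
theorem hochschild (hp0 : (p : R) = 0) (μ : B →+* R) (D : R) (T₀ : B → B)
    (hD : ∀ g, D * μ g - μ g * D = μ (T₀ g)) (f : B) :
    (μ f * D) ^ p = μ (f ^ p) * D ^ p + μ ((fun g => f * T₀ g)^[p - 1] f) * D := by
  obtain ⟨alpha, hal⟩ : ∃ alpha : Module.End ℤ R, ∀ r, alpha r = μ f * (D * r - r * D) :=
    ⟨LinearMap.mulLeft ℤ (μ f) * adE D, fun r => rfl⟩
  obtain ⟨beta, hbe⟩ : ∃ beta : B → Module.End ℤ R, ∀ g r, beta g r = μ g * (r * D) :=
    ⟨fun g => LinearMap.mulLeft ℤ (μ g) * LinearMap.mulRight ℤ D, fun g r => rfl⟩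
  have hfg : ∀ (g h : B) (x : R), μ g * (μ h * x) = μ h * (μ g * x) := by
    intro g h x
    rw [← mul_assoc, ← mul_assoc, ← map_mul, ← map_mul, mul_comm]
  have hsum : alpha + beta f = LinearMap.mulLeft ℤ (μ f * D) := by
    ext r
    rw [LinearMap.add_apply, hal, hbe, LinearMap.mulLeft_apply, mul_sub, mul_assoc]
    abel
  have hbr : ∀ g, alpha * beta g - beta g * alpha = beta (f * T₀ g) := by
    intro g
    ext r
    rw [LinearMap.sub_apply, Module.End.mul_apply, Module.End.mul_apply, hal, hbe, hbe, hal, hbe,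
      map_mul, ← hD g]
    simp only [mul_sub, sub_mul, mul_assoc]
    rw [hfg g f, hfg g f]
    abel
  have hbcomm : ∀ g h, Commute (beta g) (beta h) := by
    intro g h
    ext r
    rw [Module.End.mul_apply, Module.End.mul_apply, hbe, hbe, hbe, hbe]
    simp only [mul_assoc]
    rw [hfg g h]
  have hadbeta : ∀ m : ℕ, (adE alpha ^ m) (beta f) = beta ((fun g => f * T₀ g)^[m] f) := by
    intro m
    induction m with
    | zero => simp
    | succ m ih =>
      rw [pow_succ', Module.End.mul_apply, ih, adE_apply, hbr, Function.iterate_succ_apply']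
  have hpE := natCast_end_eq_zero (S := R) p hp0
  have hJ := jacobson_special p hpE alpha (beta f) (fun m => by
    rw [hadbeta]
    exact hbcomm _ _)
  have h1 := LinearMap.congr_fun hJ 1
  rw [hsum, mulLeft_pow', hadbeta, LinearMap.mulLeft_apply, mul_one, LinearMap.add_apply,
    LinearMap.add_apply, hbe, one_mul] at h1
  have ha : (alpha ^ p) 1 = 0 := by
    have hp1 : p - 1 + 1 = p := Nat.sub_add_cancel hp.out.one_le
    rw [← hp1, pow_succ, Module.End.mul_apply]
    have : alpha 1 = 0 := by
      rw [hal, mul_one, one_mul, sub_self, mul_zero]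
    rw [this, map_zero]
  have hb : ∀ (n : ℕ) (r : R), (beta f ^ n) r = μ f ^ n * (r * D ^ n) := by
    intro n
    induction n with
    | zero => intro r; simp
    | succ n ih =>
      intro r
      rw [pow_succ, Module.End.mul_apply, ih, hbe, pow_succ, pow_succ']
      simp only [mul_assoc]
  rw [h1, ha, hb, one_mul, zero_add, map_pow]

end Hochschild

end Groth.Agent.H83
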