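import Groth.Agent.H83.JacobsonGen
import Groth.Prelude.Def_PLie

/-! Jacobson's formula in an associative algebra, in the form of `PLie.jacobson`. -/

set_option autoImplicit false
universe u v

namespace Groth.Agent.H83

attribute [local instance] LieRing.ofAssociativeRing

section Assoc

variable (R : Type u) [CommRing R] (p : ℕ) [hp : Fact p.Prime] [CharP R p]
  {A : Type v} [Ring A] [Algebra R A]

theorem bracketWord_eq_wordS (x₀ x₁ z : A) (w : List Bool) :
    PLie.bracketWord (PLie.pair x₀ x₁) z w = wordS x₀ x₁ z w := by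
  induction w with
  | nil => rfl
  | cons a w ih =>
    rw [PLie.bracketWord_cons, wordS_cons, ih, adE_apply, LieRing.of_associative_ring_bracket]
    rfl

include R in
theorem natCast_algebra_eq_zero : ((p : ℕ) : A) = 0 := by
  have h1 : ((p : ℕ) : R) = 0 := CharP.cast_eq_zero R p
  have h2 : ((p : ℕ) : A) = algebraMap R A ((p : ℕ) : R) := (map_natCast (algebraMap R A) p).symm
  rw [h2, h1, map_zero]

/-- Jacobson's formula in an associative algebra of characteristic `p` -/
theorem add_pow_eq_sub_jacobson (x₀ x₁ : A) :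
    (x₀ + x₁) ^ p = x₀ ^ p + x₁ ^ p - PLie.jacobson R p x₀ x₁ := by
  let c : ℕ → A := fun r => algebraMap R A ((ZMod.castHom (dvd_refl p) R) ((r : ZMod p)⁻¹))
  have hc : ∀ r, 0 < r → r < p → c r * (r : A) = 1 := by
    intro r hr0 hrp
    have hne : (r : ZMod p) ≠ 0 := by
      rw [Ne, ZMod.natCast_eq_zero_iff]
      exact Nat.not_dvd_of_pos_of_lt hr0 hrp
    have h1 : ((r : ℕ) : A) = algebraMap R A ((ZMod.castHom (dvd_refl p) R) (r : ZMod p)) := by
      simp
    change algebraMap R A _ * _ = 1
    rw [h1, ← map_mul, ← map_mul, inv_mul_cancel₀ hne, map_one, map_one]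
  have hc0 : c 0 = 0 := by
    change algebraMap R A _ = 0
    rw [Nat.cast_zero, inv_zero, map_zero, map_zero]
  have hcomm : ∀ r (y : A), Commute (c r) y := fun r y => Algebra.commutes _ y
  rw [jacobson_general p (natCast_algebra_eq_zero R p (A := A)) x₀ x₁ c hc hc0 hcomm]
  congr 1
  unfold PLie.jacobson
  apply Finset.sum_congr rfl
  intro t _
  rw [bracketWord_eq_wordS, Algebra.smul_def, ← cnt_eq_card]

end Assoc

end Groth.Agent.H83
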