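import Groth.Agent.H83.Jacobson
import Mathlib

/-! The general Jacobson formula `(x₀ + x₁)^p = x₀^p + x₁^p - J_p(x₀, x₁)` in associative rings. -/

set_option autoImplicit false
universe u

namespace Groth.Agent.H83

open Polynomial

section Words

variable {S : Type u} [Ring S]

/-- the letter of a word -/
def letter (x₀ x₁ : S) (a : Bool) : S := if a then x₁ else x₀

/-- iterated commutator along a word -/
noncomputable def wordS (x₀ x₁ z : S) : List Bool → S
  | [] => z
  | a :: w => adE (letter x₀ x₁ a) (wordS x₀ x₁ z w)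

@[simp] theorem wordS_nil (x₀ x₁ z : S) : wordS x₀ x₁ z [] = z := rfl

@[simp] theorem wordS_cons (x₀ x₁ z : S) (a : Bool) (w : List Bool) :
    wordS x₀ x₁ z (a :: w) = adE (letter x₀ x₁ a) (wordS x₀ x₁ z w) := rfl

/-- number of `false` letters -/
def cnt {n : ℕ} (t : Fin n → Bool) : ℕ := ∑ i, if t i then 0 else 1

theorem cnt_cons {n : ℕ} (a : Bool) (t : Fin n → Bool) :
    cnt (Fin.cons a t : Fin (n + 1) → Bool) = (if a then 0 else 1) + cnt t := by
  simp [cnt, Fin.sum_univ_succ]

theorem cnt_le {n : ℕ} (t : Fin n → Bool) : cnt t ≤ n := by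
  unfold cnt
  calc ∑ i, (if t i then 0 else 1) ≤ ∑ _i : Fin n, 1 :=
        Finset.sum_le_sum (fun i _ => by split_ifs <;> simp)
    _ = n := by simp

theorem cnt_eq_card {n : ℕ} (t : Fin n → Bool) : cnt t = Fintype.card {i // t i = false} := by
  rw [Fintype.card_subtype, Finset.card_filter]
  unfold cnt
  apply Finset.sum_congr rfl
  intro i _
  cases t i <;> simp

theorem adE_C_mul_X_pow (x₀ x₁ W : S) (r : ℕ) :
    adE (C x₁ + C x₀ * X) (C W * X ^ r) =
      C (adE x₁ W) * X ^ r + C (adE x₀ W) * X ^ (r + 1) := by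
  rw [adE_apply, adE_apply, adE_apply, C_sub, C_sub, C_mul, C_mul, C_mul, C_mul]
  have h1 : C x₀ * X * (C W * X ^ r) = C x₀ * C W * X ^ (r + 1) := by
    rw [mul_assoc, ← mul_assoc X, X_mul_C, mul_assoc (C W), ← pow_succ', mul_assoc]
  have h2 : C W * X ^ r * (C x₁ + C x₀ * X) =
      C W * C x₁ * X ^ r + C W * C x₀ * X ^ (r + 1) := by
    have e1 : X ^ r * C x₁ = C x₁ * X ^ r := X_pow_mul_C x₁ r
    have e2 : X ^ r * (C x₀ * X) = C x₀ * X ^ (r + 1) := by
      rw [← mul_assoc, X_pow_mul_C, mul_assoc, ← pow_succ]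
    rw [mul_add, mul_assoc, e1, mul_assoc (C W) (X ^ r), e2, ← mul_assoc, ← mul_assoc]
  rw [add_mul, h1, h2, sub_mul, sub_mul, mul_assoc (C x₁) (C W)]
  abel

theorem adE_pow_expand (x₀ x₁ z : S) (n : ℕ) :
    (adE (C x₁ + C x₀ * X) ^ n) (C z) =
      ∑ t : Fin n → Bool, C (wordS x₀ x₁ z (List.ofFn t)) * X ^ (cnt t) := by
  induction n with
  | zero =>
    simp [cnt]
  | succ n ih =>
    have hce : ∀ (a : Bool) (t : Fin n → Bool),
        (Fin.consEquiv (fun _ : Fin (n + 1) => Bool)) (a, t) = Fin.cons a t := fun _ _ => rfl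
    rw [pow_succ', Module.End.mul_apply, ih, map_sum]
    rw [← (Fin.consEquiv (fun _ : Fin (n + 1) => Bool)).sum_comp, Fintype.sum_prod_type,
      Fintype.sum_bool]
    rw [← Finset.sum_add_distrib]
    apply Finset.sum_congr rfl
    intro t _
    rw [adE_C_mul_X_pow, hce, hce, cnt_cons, cnt_cons]
    simp only [List.ofFn_succ, Fin.cons_zero, Fin.cons_succ, wordS_cons, letter]
    simp [add_comm]

end Words


section Main

variable {S : Type u} [Ring S]

theorem adE_mul_X (P q : S[X]) : adE P (q * X) = adE P q * X := by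
  rw [adE_apply, adE_apply, sub_mul, mul_assoc q X P, X_mul, ← mul_assoc, ← mul_assoc]

theorem adE_pow_mul_X (P q : S[X]) (n : ℕ) : (adE P ^ n) (q * X) = (adE P ^ n) q * X := by
  induction n generalizing q with
  | zero => simp
  | succ n ih => rw [pow_succ, Module.End.mul_apply, Module.End.mul_apply, adE_mul_X, ih]

theorem sum_range_pred_split {M : Type u} [AddCommMonoid M] (n : ℕ) (hn : 1 ≤ n) (f : ℕ → M) :
    ∑ r ∈ Finset.range n, f r = f 0 + ∑ k ∈ Finset.range (n - 1), f (k + 1) := by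
  obtain ⟨q, rfl⟩ : ∃ q, n = q + 1 := ⟨n - 1, by omega⟩
  rw [Finset.sum_range_succ', Nat.add_sub_cancel, add_comm]

variable (p : ℕ) [hp : Fact p.Prime]

/-- Jacobson's formula, with the correction term written as a sum over words -/
theorem jacobson_general (hp0 : (p : S) = 0) (x₀ x₁ : S) (c : ℕ → S)
    (hc : ∀ r, 0 < r → r < p → c r * (r : S) = 1) (hc0 : c 0 = 0)
    (hcomm : ∀ r (y : S), Commute (c r) y) :
    (x₀ + x₁) ^ p = x₀ ^ p + x₁ ^ p -
      ∑ t : Fin (p - 1) → Bool, c (cnt t) * wordS x₀ x₁ x₁ (List.ofFn t) := by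
  have hp2 : 2 ≤ p := hp.out.two_le
  set P : S[X] := C x₁ + C x₀ * X with hP
  have hder : derivative P = C x₀ := by simp [hP]
  have hpX : ((p : ℕ) : S[X]) = 0 := by
    rw [← C_eq_natCast, hp0, C_0]
  have hD : derivative (P ^ p) = (adE P ^ (p - 1)) (C x₀) := by
    rw [derivative_pow_noncomm, hder, ← adE_pow_pred p hpX P (C x₀)]
  have h01 : adE P (C x₁) = -(adE P (C x₀)) * X := by
    rw [adE_apply, adE_apply, hP, add_mul, mul_add, add_mul, mul_add, mul_assoc (C x₀) X (C x₁),
      X_mul_C, mul_assoc (C x₀) X (C x₀), X_mul_C, neg_mul, sub_mul, add_mul, add_mul]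
    simp only [mul_assoc]
    abel
  have hQ : (adE P ^ (p - 1)) (C x₁) = -(derivative (P ^ p)) * X := by
    obtain ⟨m, hm⟩ : ∃ m, p - 1 = m + 1 := ⟨p - 2, by omega⟩
    rw [hD, hm, pow_succ, Module.End.mul_apply, Module.End.mul_apply, h01, neg_mul, map_neg,
      adE_pow_mul_X, neg_mul]
  have hE := adE_pow_expand x₀ x₁ x₁ (p - 1)
  rw [← hP] at hE
  set s : ℕ → S := fun r => (P ^ p).coeff r with hs
  -- coefficients of the expansion
  have hK : ∀ k : ℕ, (∑ t : Fin (p - 1) → Bool,
      if k + 1 = cnt t then wordS x₀ x₁ x₁ (List.ofFn t) else 0) = -(s (k + 1) * ((k : S) + 1)) := by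
    intro k
    have h1 := congrArg (fun q : S[X] => q.coeff (k + 1)) hE
    simp only [finsetSum_coeff, coeff_C_mul_X_pow] at h1
    rw [← h1, hQ, coeff_mul_X, coeff_neg, coeff_derivative]
  -- the correction term
  have hJ : (∑ t : Fin (p - 1) → Bool, c (cnt t) * wordS x₀ x₁ x₁ (List.ofFn t)) =
      -∑ k ∈ Finset.range (p - 1), s (k + 1) := by
    have h1 : ∀ t : Fin (p - 1) → Bool, c (cnt t) * wordS x₀ x₁ x₁ (List.ofFn t) =
        ∑ r ∈ Finset.range p, if r = cnt t then c r * wordS x₀ x₁ x₁ (List.ofFn t) else 0 := by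
      intro t
      rw [Finset.sum_ite_eq', if_pos]
      rw [Finset.mem_range]
      have := cnt_le t
      omega
    rw [Finset.sum_congr rfl (fun t _ => h1 t), Finset.sum_comm]
    have h2 : ∀ r ∈ Finset.range p, (∑ t : Fin (p - 1) → Bool,
        if r = cnt t then c r * wordS x₀ x₁ x₁ (List.ofFn t) else 0) =
          c r * ∑ t : Fin (p - 1) → Bool,
            if r = cnt t then wordS x₀ x₁ x₁ (List.ofFn t) else 0 := by
      intro r _
      rw [Finset.mul_sum]
      apply Finset.sum_congr rfl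
      intro t _
      split_ifs <;> simp
    rw [Finset.sum_congr rfl h2]
    rw [sum_range_pred_split p (by omega), hc0, zero_mul, zero_add, ← Finset.sum_neg_distrib]
    apply Finset.sum_congr rfl
    intro k hk
    rw [hK k]
    have hk' : k + 1 < p := by
      have := Finset.mem_range.mp hk
      omega
    have h3 := hc (k + 1) (by omega) hk'
    rw [Nat.cast_add, Nat.cast_one] at h3
    rw [mul_neg, ← mul_assoc, (hcomm (k + 1) (s (k + 1))).eq, mul_assoc, h3, mul_one]
  -- the extreme coefficients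
  have h0 : ∀ n, (P ^ n).coeff 0 = x₁ ^ n := by
    intro n
    induction n with
    | zero => simp
    | succ n ih =>
      rw [pow_succ, mul_coeff_zero, ih, hP]
      simp [pow_succ]
  have hdegP : P.natDegree ≤ 1 := by
    rw [hP]
    refine (natDegree_add_le _ _).trans (max_le ?_ ?_)
    · simp
    · have := natDegree_C_mul_X_pow_le x₀ 1
      simpa using this
  have hdeg : ∀ n, (P ^ n).natDegree ≤ n := by
    intro n
    exact (natDegree_pow_le_of_le n hdegP).trans (by simp)
  have htop : ∀ n, (P ^ n).coeff n = x₀ ^ n := by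
    intro n
    induction n with
    | zero => simp
    | succ n ih =>
      have hz : (P ^ n).coeff (n + 1) = 0 :=
        coeff_eq_zero_of_natDegree_lt (lt_of_le_of_lt (hdeg n) (Nat.lt_succ_self n))
      rw [pow_succ, hP, mul_add, coeff_add, coeff_mul_C, ← mul_assoc, coeff_mul_X, coeff_mul_C,
        ih, hz, zero_mul, zero_add, pow_succ]
  -- evaluate at `1`
  let ev : S[X] →+* S := eval₂RingHom' (RingHom.id S) 1 (fun _ => Commute.one_right _)
  have hevC : ∀ x : S, ev (C x) = x := by
    intro x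
    simp [ev]
  have hevX : ev X = 1 := by
    simp [ev]
  have hevP : ev P = x₀ + x₁ := by
    rw [hP, map_add, map_mul, hevC, hevC, hevX, mul_one, add_comm]
  have hsum : P ^ p = ∑ r ∈ Finset.range (p + 1), C (s r) * X ^ r := by
    have := as_sum_range' (P ^ p) (p + 1) (Nat.lt_succ_of_le (hdeg p))
    rw [this]
    apply Finset.sum_congr rfl
    intro r _
    rw [C_mul_X_pow_eq_monomial]
  have hev := congrArg ev hsum
  rw [map_pow, hevP, map_sum] at hev
  have h4 : ∀ r ∈ Finset.range (p + 1), ev (C (s r) * X ^ r) = s r := by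
    intro r _
    rw [map_mul, map_pow, hevC, hevX, one_pow, mul_one]
  rw [Finset.sum_congr rfl h4, sum_range_succ_split p (by omega)] at hev
  rw [hev, hJ]
  change (P ^ p).coeff 0 + _ + (P ^ p).coeff p = _
  rw [h0, htop]
  abel

end Main

end Groth.Agent.H83
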