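import Groth.Agent.H83.FinDual

/-! Simple finite commutative multiplicative connected group schemes over an algebraically
closed field are `μ_p`. -/

set_option autoImplicit false
universe u v

namespace Groth.Agent.H83.SimpleMult

open TensorProduct WithConv Coalgebra Groth.Agent.H83.FinDual

section Local

variable {k : Type u} [Field k] {A : Type v} [CommRing A] [HopfAlgebra k A]
  [FiniteDimensional k A] [IsLocalRing A]

/-- in a local finite Hopf algebra the augmentation ideal is nil -/
theorem isNilpotent_of_counit_eq_zero (x : A) (hx : counit (R := k) x = 0) : IsNilpotent x := by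
  have : IsArtinianRing A := IsArtinianRing.of_finite k A
  have h1 : x ∈ IsLocalRing.maximalIdeal A := by
    rw [IsLocalRing.mem_maximalIdeal, mem_nonunits_iff]
    intro hu
    have := hu.map (Bialgebra.counitAlgHom k A)
    simp [hx] at this
  rw [← IsLocalRing.jacobson_eq_maximalIdeal ⊥ bot_ne_top, IsArtinianRing.jacobson_eq_radical] at h1
  exact mem_nilradical.1 h1

/-- group-like elements of a local finite Hopf algebra in characteristic `p` have `p`-power
order -/
theorem exists_pow_char_pow_eq_one (p : ℕ) [Fact p.Prime] [CharP k p] (g : A)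
    (hg : IsGroupLikeElem k g) : ∃ r : ℕ, g ^ (p ^ r) = 1 := by
  obtain ⟨n, hn⟩ := isNilpotent_of_counit_eq_zero (k := k) (g - 1) (by simp [hg.counit_eq_one])
  have : CharP A p := charP_of_injective_algebraMap (algebraMap k A).injective p
  refine ⟨n, ?_⟩
  have h2 : (g - 1) ^ (p ^ n) = 0 :=
    pow_eq_zero_of_le (Nat.lt_pow_self (Fact.out : p.Prime).one_lt).le hn
  rw [sub_pow_char_pow, one_pow, sub_eq_zero] at h2
  exact h2

end Local

section Main

variable {k : Type u} [Field k] [IsAlgClosed k] {A : Type v} [CommRing A] [HopfAlgebra k A]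
  [Coalgebra.IsCocomm k A] [FiniteDimensional k A]

local notation "DD" => WithConv (A →ₗ[k] k)

instance : Module.Finite k DD := Module.Finite.equiv (WithConv.linearEquiv k (A →ₗ[k] k)).symm

/-- if the dual algebra is reduced, the group-like elements span -/
theorem span_groupLike_eq_top (hdual : IsReduced DD) :
    Submodule.span k {a : A | IsGroupLikeElem k a} = ⊤ := by
  by_contra hne
  obtain ⟨f, hf0, hf⟩ := Submodule.exists_le_ker_of_lt_top _ (lt_top_iff_ne_top.2 hne)
  obtain ⟨χ, hχ⟩ := exists_algHom_ne_zero (k := k) (toConv f) (by simpa using hf0)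
  obtain ⟨a, ha⟩ := exists_ev_eq χ.toLinearMap
  have ha' : ∀ f : DD, χ f = f.ofConv a := ha
  have hga : IsGroupLikeElem k a := by
    apply isGroupLikeElem_of_mul a
    · have := ha' 1
      rw [map_one] at this
      simpa using this.symm
    · intro f g
      rw [← ha', ← ha', ← ha', map_mul]
  apply hχ
  rw [ha']
  exact hf (Submodule.subset_span hga)

/-- the classification: a simple connected multiplicative finite commutative group is `μ_p` -/
theorem main (p : ℕ) [Fact p.Prime] [CharP k p] [IsLocalRing A] (hdual : IsReduced DD)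
    (hA : 1 < Module.finrank k A)
    (hsimple : ∀ I : Ideal A, I.IsHopfIdeal k →
      I = ⊥ ∨ I = RingHom.ker (Bialgebra.counitAlgHom k A)) :
    ∃ g : A, IsGroupLikeElem k g ∧ g ^ p = 1 ∧
      LinearIndependent k (fun i : Fin p => g ^ (i : ℕ)) ∧ Module.finrank k A = p := by
  classical
  have hli : LinearIndependent k (GroupLike.val : GroupLike k A → A) := linearIndep_groupLikeVal
  have hrange : Set.range (GroupLike.val : GroupLike k A → A) = {a : A | IsGroupLikeElem k a} := by
    ext a
    constructor
    · rintro ⟨γ, rfl⟩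
      exact γ.2
    · intro ha
      exact ⟨⟨a, ha⟩, rfl⟩
  have hspan : ⊤ ≤ Submodule.span k (Set.range (GroupLike.val : GroupLike k A → A)) := by
    rw [hrange, span_groupLike_eq_top hdual]
  let b : Module.Basis (GroupLike k A) k A := Module.Basis.mk hli hspan
  have hb : ∀ γ : GroupLike k A, b γ = γ.val := fun γ => by simp [b]
  have hfin : Finite (GroupLike k A) := Module.Finite.finite_basis b
  have hcard : Module.finrank k A = Nat.card (GroupLike k A) := Module.finrank_eq_nat_card_basis b
  have hP : IsPGroup p (GroupLike k A) := by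
    intro γ
    obtain ⟨r, hr⟩ := exists_pow_char_pow_eq_one (k := k) p γ.val γ.2
    exact ⟨r, GroupLike.val_injective (by simpa using hr)⟩
  have hdvd : p ∣ Nat.card (GroupLike k A) := by
    rcases hP.card_eq_or_dvd with h | h
    · omega
    · exact h
  obtain ⟨γ, hγ⟩ := exists_prime_orderOf_dvd_card' p hdvd
  have hp : p.Prime := Fact.out
  have hγ1 : γ ≠ 1 := by
    rintro rfl
    rw [orderOf_one] at hγ
    exact hp.one_lt.ne hγ
  have hI : (Ideal.span {γ.val - 1}).IsHopfIdeal k := isHopfIdeal_span_groupLike_sub_one γ.val γ.2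
  have hIker : Ideal.span {γ.val - 1} = RingHom.ker (Bialgebra.counitAlgHom k A) := by
    rcases hsimple _ hI with h | h
    · exfalso
      rw [Ideal.span_singleton_eq_bot, sub_eq_zero] at h
      exact hγ1 (GroupLike.val_injective (by simpa using h))
    · exact h
  have hγp : γ.val ^ p = 1 := by
    have := pow_orderOf_eq_one γ
    rw [hγ] at this
    simpa using congrArg GroupLike.val this
  -- every group-like is a power of `γ`
  have hall : ∀ h : GroupLike k A, h ∈ Subgroup.zpowers γ := by
    intro h
    by_contra hh
    have hmem : h.val - 1 ∈ Ideal.span {γ.val - 1} := by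
      rw [hIker, RingHom.mem_ker]
      simp
    obtain ⟨a, ha⟩ := Ideal.mem_span_singleton'.1 hmem
    have hN : (∑ i ∈ Finset.range p, γ.val ^ i) * (h.val - 1) = 0 := by
      rw [← ha, mul_comm a, ← mul_assoc, geom_sum_mul, hγp, sub_self, zero_mul]
    have hN' : ∑ i ∈ Finset.range p, b (γ ^ i * h) = ∑ i ∈ Finset.range p, b (γ ^ i) := by
      rw [mul_sub, mul_one, sub_eq_zero, Finset.sum_mul] at hN
      simpa [hb] using hN
    have h3 := congrArg (fun v => b.repr v 1) hN'
    simp only [map_sum, Module.Basis.repr_self, Finsupp.coe_finsetSum, Finset.sum_apply,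
      Finsupp.single_apply] at h3
    have hl : ∀ i ∈ Finset.range p, (if γ ^ i * h = 1 then (1 : k) else 0) = 0 := by
      intro i _
      rw [if_neg]
      intro h1
      apply hh
      rw [mul_eq_one_iff_eq_inv'] at h1
      rw [h1]
      exact Subgroup.inv_mem _ (Subgroup.npow_mem_zpowers γ i)
    have hr : ∀ i ∈ Finset.range p, i ≠ 0 → (if γ ^ i = 1 then (1 : k) else 0) = 0 := by
      intro i hi hi0
      rw [if_neg]
      apply pow_ne_one_of_lt_orderOf hi0
      rw [hγ]
      exact Finset.mem_range.1 hi
    rw [Finset.sum_eq_zero hl, Finset.sum_eq_single 0 hr (by simp [hp.pos])] at h3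
    simp at h3
  have htop : Subgroup.zpowers γ = ⊤ := by
    rw [Subgroup.eq_top_iff']
    exact hall
  have hcardp : Nat.card (GroupLike k A) = p := by
    rw [← Subgroup.card_top, ← htop, Nat.card_zpowers, hγ]
  refine ⟨γ.val, γ.2, hγp, ?_, by rw [hcard, hcardp]⟩
  have hinj : Function.Injective (fun i : Fin p => γ ^ (i : ℕ)) := by
    intro i j hij
    have := pow_injOn_Iio_orderOf (x := γ) (by simp [hγ]) (by simp [hγ]) hij
    exact Fin.ext this
  have := hli.comp _ hinj
  convert this using 1
  funext i
  simp

end Main

end Groth.Agent.H83.SimpleMult
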