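import Groth.Prelude.Def_W4c4lgringredgrpLG
import Mathlib.RingTheory.Spectrum.Prime.FreeLocus
import Mathlib.LinearAlgebra.Matrix.ToLin
import Mathlib.RingTheory.TensorProduct.Free
import Mathlib.LinearAlgebra.Matrix.NonsingularInverse
import Mathlib.Algebra.MvPolynomial.Rename
import Mathlib.RingTheory.Finiteness.Projective
import Mathlib.LinearAlgebra.Dimension.Free
import Mathlib.LinearAlgebra.Matrix.Determinant.Basic

set_option autoImplicit false
universe u v

namespace Groth.Agent.H83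

open MvPolynomial

/-- The LG property for polynomials in an arbitrary finite set of variables. -/
theorem representsUnit_of_fintype {R : Type u} [CommRing R] (hR : LGRing.IsLGRing R)
    {σ : Type} [Fintype σ] (f : MvPolynomial σ R)
    (h : ∀ (m : Ideal R) [m.IsMaximal], LGRing.RepresentsUnit f (R ⧸ m)) :
    LGRing.RepresentsUnit f R := by
  classical
  let e := Fintype.equivFin σ
  have h' : ∀ (m : Ideal R) [m.IsMaximal], LGRing.RepresentsUnit (rename e f) (R ⧸ m) := by
    intro m _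
    obtain ⟨s, hs⟩ := h m
    refine ⟨s ∘ e.symm, ?_⟩
    rw [aeval_rename]
    have : (s ∘ e.symm) ∘ e = s := by ext x; simp
    rwa [this]
  obtain ⟨t, ht⟩ := hR _ (rename e f) h'
  refine ⟨t ∘ e, ?_⟩
  rwa [aeval_rename] at ht

section AMat

variable {a b : ℕ}

/-- the matrix `P Y Q X P + (1 - P)` -/
def AMat {S : Type*} [CommRing S] (P : Matrix (Fin a) (Fin a) S) (Q : Matrix (Fin b) (Fin b) S)
    (X : Matrix (Fin b) (Fin a) S) (Y : Matrix (Fin a) (Fin b) S) : Matrix (Fin a) (Fin a) S :=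
  P * Y * Q * X * P + (1 - P)

theorem AMat_map {S T : Type*} [CommRing S] [CommRing T] (g : S →+* T)
    (P : Matrix (Fin a) (Fin a) S) (Q : Matrix (Fin b) (Fin b) S)
    (X : Matrix (Fin b) (Fin a) S) (Y : Matrix (Fin a) (Fin b) S) :
    (AMat P Q X Y).map g = AMat (P.map g) (Q.map g) (X.map g) (Y.map g) := by
  simp [AMat, Matrix.map_add, Matrix.map_mul, Matrix.map_sub, Matrix.map_one]

/-- index type of the variables -/
abbrev Vars (a b : ℕ) : Type := (Fin b × Fin a) ⊕ (Fin a × Fin b)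

variable {R : Type u} [CommRing R]

/-- generic `b × a` matrix -/
noncomputable def genX (R : Type u) [CommRing R] (a b : ℕ) :
    Matrix (Fin b) (Fin a) (MvPolynomial (Vars a b) R) :=
  Matrix.of fun i j => X (Sum.inl (i, j))

/-- generic `a × b` matrix -/
noncomputable def genY (R : Type u) [CommRing R] (a b : ℕ) :
    Matrix (Fin a) (Fin b) (MvPolynomial (Vars a b) R) :=
  Matrix.of fun i j => X (Sum.inr (i, j))

/-- the polynomial whose unit values detect mutually inverse maps -/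
noncomputable def lgPoly (P : Matrix (Fin a) (Fin a) R) (Q : Matrix (Fin b) (Fin b) R) :
    MvPolynomial (Vars a b) R :=
  (AMat (P.map C) (Q.map C) (genX R a b) (genY R a b)).det *
    (AMat (Q.map C) (P.map C) (genY R a b) (genX R a b)).det

theorem aeval_lgPoly {S : Type*} [CommRing S] [Algebra R S]
    (P : Matrix (Fin a) (Fin a) R) (Q : Matrix (Fin b) (Fin b) R) (s : Vars a b → S) :
    aeval s (lgPoly P Q) =
      (AMat (P.map (algebraMap R S)) (Q.map (algebraMap R S))
        (Matrix.of fun i j => s (Sum.inl (i, j))) (Matrix.of fun i j => s (Sum.inr (i, j)))).det *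
      (AMat (Q.map (algebraMap R S)) (P.map (algebraMap R S))
        (Matrix.of fun i j => s (Sum.inr (i, j))) (Matrix.of fun i j => s (Sum.inl (i, j)))).det := by
  have hP : ∀ {n : ℕ} (P : Matrix (Fin n) (Fin n) R),
      (P.map C).map (aeval s : MvPolynomial (Vars a b) R →ₐ[R] S).toRingHom =
        P.map (algebraMap R S) := by
    intro n P
    ext i j
    simp
  have hX : (genX R a b).map (aeval s : MvPolynomial (Vars a b) R →ₐ[R] S).toRingHom =
      Matrix.of fun i j => s (Sum.inl (i, j)) := by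
    ext i j
    simp [genX]
  have hY : (genY R a b).map (aeval s : MvPolynomial (Vars a b) R →ₐ[R] S).toRingHom =
      Matrix.of fun i j => s (Sum.inr (i, j)) := by
    ext i j
    simp [genY]
  rw [lgPoly, map_mul]
  have h1 : ∀ {n : ℕ} (A : Matrix (Fin n) (Fin n) (MvPolynomial (Vars a b) R)),
      aeval s A.det = (A.map (aeval s : MvPolynomial (Vars a b) R →ₐ[R] S).toRingHom).det := by
    intro n A
    exact RingHom.map_det (aeval s : MvPolynomial (Vars a b) R →ₐ[R] S).toRingHom A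
  rw [h1, h1, AMat_map, AMat_map, hP, hP, hX, hY]

end AMat

section RSide

variable {R : Type u} [CommRing R] {M N : Type v} [AddCommGroup M] [Module R M]
  [AddCommGroup N] [Module R N] {a b : ℕ}

/-- if `T = iM ∘ g ∘ pM + (id - iM ∘ pM)` is bijective then `g` is bijective -/
theorem bijective_of_block (pM : (Fin a → R) →ₗ[R] M) (iM : M →ₗ[R] (Fin a → R))
    (hM : pM ∘ₗ iM = LinearMap.id) (g : M →ₗ[R] M)
    (T' : (Fin a → R) →ₗ[R] (Fin a → R))
    (h1 : T' ∘ₗ (iM ∘ₗ g ∘ₗ pM + (LinearMap.id - iM ∘ₗ pM)) = LinearMap.id)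
    (h2 : (iM ∘ₗ g ∘ₗ pM + (LinearMap.id - iM ∘ₗ pM)) ∘ₗ T' = LinearMap.id) :
    Function.Bijective g := by
  have hpi : ∀ m, pM (iM m) = m := fun m => LinearMap.congr_fun hM m
  constructor
  · rw [injective_iff_map_eq_zero]
    intro m hm
    have := LinearMap.congr_fun h1 (iM m)
    simp only [LinearMap.comp_apply, LinearMap.add_apply, LinearMap.sub_apply, LinearMap.id_apply,
      hpi, hm, map_zero, sub_self, add_zero] at this
    rw [← hpi m, ← this, map_zero]
  · intro m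
    have := LinearMap.congr_fun h2 (iM m)
    simp only [LinearMap.comp_apply, LinearMap.add_apply, LinearMap.sub_apply,
      LinearMap.id_apply] at this
    refine ⟨pM (T' (iM m)), ?_⟩
    have h3 := congrArg pM this
    simp only [map_add, map_sub, hpi, sub_self, add_zero] at h3
    exact h3

theorem nonempty_linearEquiv_of_isUnit_det
    (pM : (Fin a → R) →ₗ[R] M) (iM : M →ₗ[R] (Fin a → R)) (hM : pM ∘ₗ iM = LinearMap.id)
    (pN : (Fin b → R) →ₗ[R] N) (iN : N →ₗ[R] (Fin b → R)) (hN : pN ∘ₗ iN = LinearMap.id)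
    (X : Matrix (Fin b) (Fin a) R) (Y : Matrix (Fin a) (Fin b) R)
    (h1 : IsUnit (AMat (LinearMap.toMatrix' (iM ∘ₗ pM)) (LinearMap.toMatrix' (iN ∘ₗ pN)) X Y).det)
    (h2 : IsUnit (AMat (LinearMap.toMatrix' (iN ∘ₗ pN)) (LinearMap.toMatrix' (iM ∘ₗ pM)) Y X).det) :
    Nonempty (M ≃ₗ[R] N) := by
  set φ : M →ₗ[R] N := pN ∘ₗ Matrix.toLin' X ∘ₗ iM with hφ
  set ψ : N →ₗ[R] M := pM ∘ₗ Matrix.toLin' Y ∘ₗ iN with hψ
  have key : ∀ {a b : ℕ} {M N : Type v} [AddCommGroup M] [Module R M] [AddCommGroup N] [Module R N]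
      (pM : (Fin a → R) →ₗ[R] M) (iM : M →ₗ[R] (Fin a → R)) (_ : pM ∘ₗ iM = LinearMap.id)
      (pN : (Fin b → R) →ₗ[R] N) (iN : N →ₗ[R] (Fin b → R))
      (X : Matrix (Fin b) (Fin a) R) (Y : Matrix (Fin a) (Fin b) R)
      (_ : IsUnit (AMat (LinearMap.toMatrix' (iM ∘ₗ pM)) (LinearMap.toMatrix' (iN ∘ₗ pN)) X Y).det),
      Function.Bijective ((pM ∘ₗ Matrix.toLin' Y ∘ₗ iN) ∘ₗ (pN ∘ₗ Matrix.toLin' X ∘ₗ iM)) := by
    intro a b M N _ _ _ _ pM iM hM pN iN X Y h
    set A := AMat (LinearMap.toMatrix' (iM ∘ₗ pM)) (LinearMap.toMatrix' (iN ∘ₗ pN)) X Y with hA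
    have hlin : Matrix.toLin' A =
        iM ∘ₗ ((pM ∘ₗ Matrix.toLin' Y ∘ₗ iN) ∘ₗ (pN ∘ₗ Matrix.toLin' X ∘ₗ iM)) ∘ₗ pM +
          (LinearMap.id - iM ∘ₗ pM) := by
      rw [hA, AMat]
      simp only [map_add, map_sub, Matrix.toLin'_mul, Matrix.toLin'_one,
        Matrix.toLin'_toMatrix']
      simp only [LinearMap.comp_assoc]
    have hu := (Matrix.isUnit_iff_isUnit_det A).mpr h
    have hinv1 : A⁻¹ * A = 1 := Matrix.nonsing_inv_mul A h
    have hinv2 : A * A⁻¹ = 1 := Matrix.mul_nonsing_inv A h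
    apply bijective_of_block pM iM hM _ (Matrix.toLin' A⁻¹)
    · rw [← hlin, ← Matrix.toLin'_mul, hinv1, Matrix.toLin'_one]
    · rw [← hlin, ← Matrix.toLin'_mul, hinv2, Matrix.toLin'_one]
  have hψφ := key pM iM hM pN iN X Y h1
  have hφψ := key pN iN hN pM iM Y X h2
  have hinj : Function.Injective φ := by
    have : Function.Injective (ψ ∘ φ) := hψφ.1
    exact Function.Injective.of_comp this
  have hsurj : Function.Surjective φ := by
    have : Function.Surjective (φ ∘ ψ) := hφψ.2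
    exact Function.Surjective.of_comp this
  exact ⟨LinearEquiv.ofBijective φ ⟨hinj, hsurj⟩⟩

end RSide

section KSide

open TensorProduct

variable {R : Type u} [CommRing R] {M N : Type v} [AddCommGroup M] [Module R M]
  [AddCommGroup N] [Module R N] {a b : ℕ}

theorem exists_AMat_eq_one (S : Type*) [CommRing S] [Algebra R S]
    (pM : (Fin a → R) →ₗ[R] M) (iM : M →ₗ[R] (Fin a → R)) (hM : pM ∘ₗ iM = LinearMap.id)
    (pN : (Fin b → R) →ₗ[R] N) (iN : N →ₗ[R] (Fin b → R)) (hN : pN ∘ₗ iN = LinearMap.id)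
    (g : S ⊗[R] M ≃ₗ[S] S ⊗[R] N) :
    ∃ (X : Matrix (Fin b) (Fin a) S) (Y : Matrix (Fin a) (Fin b) S),
      AMat ((LinearMap.toMatrix' (iM ∘ₗ pM)).map (algebraMap R S))
        ((LinearMap.toMatrix' (iN ∘ₗ pN)).map (algebraMap R S)) X Y = 1 ∧
      AMat ((LinearMap.toMatrix' (iN ∘ₗ pN)).map (algebraMap R S))
        ((LinearMap.toMatrix' (iM ∘ₗ pM)).map (algebraMap R S)) Y X = 1 := by
  classical
  set Ba := Algebra.TensorProduct.basis S (Pi.basisFun R (Fin a)) with hBa
  set Bb := Algebra.TensorProduct.basis S (Pi.basisFun R (Fin b)) with hBb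
  set i := iM.baseChange S with hi
  set p := pM.baseChange S with hp
  set i' := iN.baseChange S with hi'
  set p' := pN.baseChange S with hp'
  have hpi : ∀ x, p (i x) = x := by
    intro x
    have : p ∘ₗ i = LinearMap.id := by
      rw [hp, hi, ← LinearMap.baseChange_comp, hM, LinearMap.baseChange_id]
    exact LinearMap.congr_fun this x
  have hpi' : ∀ x, p' (i' x) = x := by
    intro x
    have : p' ∘ₗ i' = LinearMap.id := by
      rw [hp', hi', ← LinearMap.baseChange_comp, hN, LinearMap.baseChange_id]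
    exact LinearMap.congr_fun this x
  have hP : (LinearMap.toMatrix' (iM ∘ₗ pM)).map (algebraMap R S) =
      LinearMap.toMatrix Ba Ba (i ∘ₗ p) := by
    rw [hi, hp, ← LinearMap.baseChange_comp, hBa, LinearMap.toMatrix_baseChange,
      LinearMap.toMatrix_eq_toMatrix']
  have hQ : (LinearMap.toMatrix' (iN ∘ₗ pN)).map (algebraMap R S) =
      LinearMap.toMatrix Bb Bb (i' ∘ₗ p') := by
    rw [hi', hp', ← LinearMap.baseChange_comp, hBb, LinearMap.toMatrix_baseChange,
      LinearMap.toMatrix_eq_toMatrix']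
  refine ⟨LinearMap.toMatrix Ba Bb (i' ∘ₗ g.toLinearMap ∘ₗ p),
    LinearMap.toMatrix Bb Ba (i ∘ₗ g.symm.toLinearMap ∘ₗ p'), ?_, ?_⟩
  · rw [AMat, hP, hQ, ← LinearMap.toMatrix_comp, ← LinearMap.toMatrix_comp,
      ← LinearMap.toMatrix_comp, ← LinearMap.toMatrix_comp]
    have : ((((i ∘ₗ p) ∘ₗ i ∘ₗ g.symm.toLinearMap ∘ₗ p') ∘ₗ i' ∘ₗ p') ∘ₗ
        i' ∘ₗ g.toLinearMap ∘ₗ p) ∘ₗ i ∘ₗ p = i ∘ₗ p := by
      ext x
      simp [hpi, hpi']
    rw [this]
    simp
  · rw [AMat, hP, hQ, ← LinearMap.toMatrix_comp, ← LinearMap.toMatrix_comp,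
      ← LinearMap.toMatrix_comp, ← LinearMap.toMatrix_comp]
    have : ((((i' ∘ₗ p') ∘ₗ i' ∘ₗ g.toLinearMap ∘ₗ p) ∘ₗ i ∘ₗ p) ∘ₗ
        i ∘ₗ g.symm.toLinearMap ∘ₗ p') ∘ₗ i' ∘ₗ p' = i' ∘ₗ p' := by
      ext x
      simp [hpi, hpi']
    rw [this]
    simp

end KSide

section Main

open TensorProduct

variable {R : Type u} [CommRing R]

/-- over an LG ring, finite projective modules of the same rank function are isomorphic -/
theorem nonempty_linearEquiv_of_rankAtStalk_eq (hR : LGRing.IsLGRing R)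
    (M N : Type v) [AddCommGroup M] [Module R M] [Module.Finite R M] [Module.Projective R M]
    [AddCommGroup N] [Module R N] [Module.Finite R N] [Module.Projective R N]
    (h : ∀ p : PrimeSpectrum R, Module.rankAtStalk M p = Module.rankAtStalk N p) :
    Nonempty (M ≃ₗ[R] N) := by
  classical
  obtain ⟨a, pM, iM, -, -, hM⟩ := Module.Finite.exists_comp_eq_id_of_projective R M
  obtain ⟨b, pN, iN, -, -, hN⟩ := Module.Finite.exists_comp_eq_id_of_projective R N
  have key : LGRing.RepresentsUnit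
      (lgPoly (LinearMap.toMatrix' (iM ∘ₗ pM)) (LinearMap.toMatrix' (iN ∘ₗ pN))) R := by
    apply representsUnit_of_fintype hR
    intro m hm
    let _ := Ideal.Quotient.field m
    have hrank : Module.finrank (R ⧸ m) ((R ⧸ m) ⊗[R] M) =
        Module.finrank (R ⧸ m) ((R ⧸ m) ⊗[R] N) := by
      have h1 := Module.rankAtStalk_baseChange (R := R) (M := M) (S := R ⧸ m)
        (⟨⊥, Ideal.isPrime_bot⟩ : PrimeSpectrum (R ⧸ m))
      have h2 := Module.rankAtStalk_baseChange (R := R) (M := N) (S := R ⧸ m)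
        (⟨⊥, Ideal.isPrime_bot⟩ : PrimeSpectrum (R ⧸ m))
      rw [Module.rankAtStalk_eq_finrank_of_free] at h1 h2
      simp only [Pi.natCast_apply, Nat.cast_id] at h1 h2
      rw [h1, h2, h]
    obtain ⟨g⟩ := FiniteDimensional.nonempty_linearEquiv_of_finrank_eq hrank
    obtain ⟨X, Y, h1, h2⟩ := exists_AMat_eq_one (R ⧸ m) pM iM hM pN iN hN g
    refine ⟨Sum.elim (fun ij => X ij.1 ij.2) (fun ij => Y ij.1 ij.2), ?_⟩
    rw [aeval_lgPoly]
    have hX : (Matrix.of fun i j => (Sum.elim (fun ij : Fin b × Fin a => X ij.1 ij.2)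
        (fun ij : Fin a × Fin b => Y ij.1 ij.2)) (Sum.inl (i, j))) = X := by
      ext i j; simp
    have hY : (Matrix.of fun i j => (Sum.elim (fun ij : Fin b × Fin a => X ij.1 ij.2)
        (fun ij : Fin a × Fin b => Y ij.1 ij.2)) (Sum.inr (i, j))) = Y := by
      ext i j; simp
    rw [hX, hY, h1, h2]
    simp
  obtain ⟨s, hs⟩ := key
  rw [aeval_lgPoly] at hs
  have hid : ∀ {n : ℕ} (P : Matrix (Fin n) (Fin n) R), P.map (algebraMap R R) = P := by
    intro n P; ext i j; simp
  rw [hid, hid] at hs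
  exact nonempty_linearEquiv_of_isUnit_det pM iM hM pN iN hN _ _
    (isUnit_of_mul_isUnit_left hs) (isUnit_of_mul_isUnit_right hs)

end Main

end Groth.Agent.H83
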