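import Mathlib.RingTheory.Kaehler.Basic
import Groth.Prelude.Def_Conn
import Groth.Prelude.Def_W4swconnpcurvhiggsLogLam

set_option autoImplicit false
universe v u

namespace Groth.Agent.H83

open TensorProduct

section

variable {A : Type v} {B L E : Type u} [CommRing A] [CommRing B]
  [Algebra A B] [AddCommGroup L] [Module B L] [Module A L] [IsScalarTower A B L]
  [AddCommGroup E] [Module B E] [Module A E] [IsScalarTower A B E]

/-- the logarithmic partial derivative `b ↦ (ι db)_j` -/
noncomputable def logD {n : ℕ} (ω : Module.Basis (Fin n) B L)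
    (ι : KaehlerDifferential A B →ₗ[B] L) (j : Fin n) : Derivation A B B :=
  (ω.coord j).compDer (ι.compDer (KaehlerDifferential.D A B))

theorem logD_apply {n : ℕ} (ω : Module.Basis (Fin n) B L)
    (ι : KaehlerDifferential A B →ₗ[B] L) (j : Fin n) (b : B) :
    logD ω ι j b = ω.coord j (ι (KaehlerDifferential.D A B b)) := rfl

/-- Leibniz rule for the components of a `λ`-connection -/
theorem comp_smul (lam : B) {n : ℕ} (ω : Module.Basis (Fin n) B L)
    (ι : KaehlerDifferential A B →ₗ[B] L) (nabla : E →ₗ[A] E ⊗[B] L)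
    (hc : Conn.IsLamConn (ι.compDer (KaehlerDifferential.D A B)) lam nabla)
    (j : Fin n) (b : B) (e : E) :
    LogConn.comp nabla ω j (b • e) =
      b • LogConn.comp nabla ω j e + (lam * logD ω ι j b) • e := by
  unfold LogConn.comp
  rw [Conn.along_apply, hc b e, Conn.along_apply]
  simp only [map_add, map_smul, TensorProduct.map_tmul, LinearMap.id_apply,
    TensorProduct.rid_tmul]
  rw [mul_smul]
  rfl

variable {n : ℕ} (t : Fin n → B) (bΩ : Module.Basis (Fin n) B (KaehlerDifferential A B))
  (hbΩ : ∀ i, bΩ i = KaehlerDifferential.D A B (t i))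
  (ω : Module.Basis (Fin n) B L) (ι : KaehlerDifferential A B →ₗ[B] L)
  (hι : ∀ i, ι (KaehlerDifferential.D A B (t i)) = t i • ω i)

include hbΩ hι in
theorem logD_eq_mul (j : Fin n) (b : B) :
    logD ω ι j b = t j * bΩ.repr (KaehlerDifferential.D A B b) j := by
  classical
  rw [logD_apply]
  conv_lhs => rw [← bΩ.sum_repr (KaehlerDifferential.D A B b)]
  rw [map_sum, map_sum]
  simp only [map_smul, hbΩ, hι, Module.Basis.coord_apply, Module.Basis.repr_self,
    smul_eq_mul]
  rw [Finset.sum_eq_single j]
  · simp [mul_comm]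
  · intro i _ hi
    simp [hi]
  · intro h; exact absurd (Finset.mem_univ j) h

include hι in
theorem logD_t (j i : Fin n) : logD (A := A) ω ι j (t i) = if i = j then t i else 0 := by
  classical
  rw [logD_apply, hι, map_smul, Module.Basis.coord_apply, Module.Basis.repr_self,
    Finsupp.single_apply]
  split_ifs <;> simp

include hι in
theorem logD_prod (j : Fin n) (S : Finset (Fin n)) (hj : j ∉ S) :
    logD (A := A) ω ι j (∏ i ∈ S, t i) = 0 := by
  classical
  induction S using Finset.induction_on with
  | empty => simp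
  | insert a S ha ih =>
    rw [Finset.prod_insert ha, Derivation.leibniz]
    have hja : a ≠ j := fun h => hj (h ▸ Finset.mem_insert_self a S)
    rw [ih (fun h => hj (Finset.mem_insert_of_mem h)), logD_t t ω ι hι, if_neg hja]
    simp

end

section Piece

variable {A : Type v} {B L E : Type u} [CommRing A] [CommRing B]
  [Algebra A B] [AddCommGroup L] [Module B L]
  [AddCommGroup E] [Module B E] [Module A E] [IsScalarTower A B E]
  {n : ℕ}

theorem compProd_empty (nabla : E →ₗ[A] E ⊗[B] L) (ω : Module.Basis (Fin n) B L) :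
    LogConn.compProd nabla ω ∅ = LinearMap.id := by
  simp [LogConn.compProd]

theorem compProd_insert (nabla : E →ₗ[A] E ⊗[B] L) (ω : Module.Basis (Fin n) B L)
    (j : Fin n) (J : Finset (Fin n)) (hj : ∀ x ∈ J, j < x) :
    LogConn.compProd nabla ω (insert j J) =
      LogConn.comp nabla ω j ∘ₗ LogConn.compProd nabla ω J := by
  have hjJ : j ∉ J := fun h => lt_irrefl j (hj j h)
  unfold LogConn.compProd
  rw [Finset.sort_insert (· ≤ ·) (fun b hb => (hj b hb).le) hjJ]
  rfl

/-- a generator of the piece -/
theorem smul_compProd_mem_piece (nabla : E →ₗ[A] E ⊗[B] L) (ω : Module.Basis (Fin n) B L)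
    (t : Fin n → B) (I J : Finset (Fin n)) (hJ : J ⊆ I) (e : E) :
    (∏ i ∈ I \ J, t i) • LogConn.compProd nabla ω J e ∈ LogConn.piece nabla ω t I := by
  unfold LogConn.piece
  refine Submodule.mem_iSup_of_mem J (Submodule.mem_iSup_of_mem (Finset.mem_powerset.mpr hJ) ?_)
  exact ⟨e, rfl⟩

/-- to map a piece into a submodule it suffices to do so on generators -/
theorem piece_le_comap (nabla : E →ₗ[A] E ⊗[B] L) (ω : Module.Basis (Fin n) B L)
    (t : Fin n → B) (I : Finset (Fin n)) (f : E →ₗ[A] E) (N : Submodule A E)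
    (h : ∀ J ⊆ I, ∀ e : E, f ((∏ i ∈ I \ J, t i) • LogConn.compProd nabla ω J e) ∈ N) :
    LogConn.piece nabla ω t I ≤ N.comap f := by
  unfold LogConn.piece
  refine iSup₂_le fun J hJ => ?_
  rintro _ ⟨e, rfl⟩
  exact h J (Finset.mem_powerset.mp hJ) e

theorem smul_mem_piece_of_subset (nabla : E →ₗ[A] E ⊗[B] L) (ω : Module.Basis (Fin n) B L)
    (t : Fin n → B) (I J : Finset (Fin n)) (hJ : J ⊆ I) (y : E)
    (hy : y ∈ LogConn.piece nabla ω t J) :
    (∏ i ∈ I \ J, t i) • y ∈ LogConn.piece nabla ω t I := by
  classical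
  have := piece_le_comap nabla ω t J
    ((LinearMap.lsmul B E (∏ i ∈ I \ J, t i)).restrictScalars A) (LogConn.piece nabla ω t I) ?_ hy
  · exact this
  · intro J' hJ' e
    simp only [LinearMap.coe_restrictScalars, LinearMap.lsmul_apply]
    rw [smul_smul, ← Finset.prod_union (Finset.disjoint_left.mpr ?_)]
    · have : I \ J ∪ J \ J' = I \ J' := by
        ext x
        simp only [Finset.mem_union, Finset.mem_sdiff]
        constructor
        · rintro (⟨h1, h2⟩ | ⟨h1, h2⟩)
          · exact ⟨h1, fun h => h2 (hJ' h)⟩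
          · exact ⟨hJ h1, h2⟩
        · rintro ⟨h1, h2⟩
          by_cases hx : x ∈ J
          · exact Or.inr ⟨hx, h2⟩
          · exact Or.inl ⟨h1, hx⟩
      rw [this]
      exact smul_compProd_mem_piece nabla ω t I J' (hJ'.trans hJ) e
    · intro x hx hx'
      exact (Finset.mem_sdiff.mp hx).2 (Finset.mem_sdiff.mp hx').1

end Piece

section Main

variable {A : Type v} {B L E : Type u} [CommRing A] [CommRing B]
  [Algebra A B] [AddCommGroup L] [Module B L] [Module A L] [IsScalarTower A B L]
  [AddCommGroup E] [Module B E] [Module A E] [IsScalarTower A B E]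
  (lam : B) {n : ℕ} (t : Fin n → B) (bΩ : Module.Basis (Fin n) B (KaehlerDifferential A B))
  (hbΩ : ∀ i, bΩ i = KaehlerDifferential.D A B (t i))
  (ω : Module.Basis (Fin n) B L) (ι : KaehlerDifferential A B →ₗ[B] L)
  (hι : ∀ i, ι (KaehlerDifferential.D A B (t i)) = t i • ω i)
  (nabla : E →ₗ[A] E ⊗[B] L)
  (hc : Conn.IsLamConn (ι.compDer (KaehlerDifferential.D A B)) lam nabla)

include hbΩ hι hc in
theorem smul_compProd_mem (J : Finset (Fin n)) :
    ∀ (b : B) (e : E), b • LogConn.compProd nabla ω J e ∈ LogConn.piece nabla ω t J := by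
  classical
  induction J using Finset.induction_on_min with
  | empty =>
    intro b e
    have := smul_compProd_mem_piece nabla ω t ∅ ∅ (subset_refl _) (b • e)
    simpa [compProd_empty] using this
  | insert j J hj ih =>
    intro b e
    have hjJ : j ∉ J := fun h => lt_irrefl j (hj j h)
    rw [compProd_insert _ _ _ _ hj, LinearMap.comp_apply]
    set y := LogConn.compProd nabla ω J e with hy
    have h1 := comp_smul lam ω ι nabla hc j b y
    have h2 : b • LogConn.comp nabla ω j y =
        LogConn.comp nabla ω j (b • y) - (lam * logD ω ι j b) • y := by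
      rw [h1]; abel
    rw [h2]
    apply Submodule.sub_mem
    · have hle := piece_le_comap nabla ω t J (LogConn.comp nabla ω j)
        (LogConn.piece nabla ω t (insert j J)) ?_
      · exact hle (ih b e)
      · intro J' hJ' e'
        have hjJ' : j ∉ J \ J' := fun h => hjJ (Finset.mem_sdiff.mp h).1
        rw [comp_smul lam ω ι nabla hc, logD_prod t ω ι hι j (J \ J') hjJ', mul_zero, zero_smul,
          add_zero, ← LinearMap.comp_apply, ← compProd_insert _ _ j J' (fun x hx => hj x (hJ' hx))]
        have : J \ J' = insert j J \ insert j J' := by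
          ext x
          simp only [Finset.mem_sdiff, Finset.mem_insert]
          constructor
          · rintro ⟨hx1, hx2⟩
            refine ⟨Or.inr hx1, ?_⟩
            rintro (hxj | h)
            · exact hjJ (hxj ▸ hx1)
            · exact hx2 h
          · rintro ⟨hx1 | hx1, hx2⟩
            · exact absurd (Or.inl hx1) hx2
            · exact ⟨hx1, fun h => hx2 (Or.inr h)⟩
        rw [this]
        exact smul_compProd_mem_piece _ _ _ _ _ (Finset.insert_subset_insert j hJ') e'
    · rw [logD_eq_mul t bΩ hbΩ ω ι hι, ← mul_assoc, mul_comm lam, mul_assoc, mul_smul]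
      have := smul_mem_piece_of_subset nabla ω t (insert j J) J (Finset.subset_insert j J) _
        (ih (lam * bΩ.repr (KaehlerDifferential.D A B b) j) e)
      have hs : insert j J \ J = {j} := by
        ext x
        simp only [Finset.mem_sdiff, Finset.mem_insert, Finset.mem_singleton]
        constructor
        · rintro ⟨hx1 | hx1, hx2⟩
          · exact hx1
          · exact absurd hx1 hx2
        · intro hxj
          exact ⟨Or.inl hxj, hxj ▸ hjJ⟩
      rwa [hs, Finset.prod_singleton] at this

include hbΩ hι hc in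
/-- the pieces are `B`-stable -/
theorem smul_mem_piece (I : Finset (Fin n)) (b : B) (x : E)
    (hx : x ∈ LogConn.piece nabla ω t I) : b • x ∈ LogConn.piece nabla ω t I := by
  have hle := piece_le_comap nabla ω t I ((LinearMap.lsmul B E b).restrictScalars A)
    (LogConn.piece nabla ω t I) ?_
  · exact hle hx
  · intro J hJ e
    simp only [LinearMap.coe_restrictScalars, LinearMap.lsmul_apply]
    rw [smul_comm]
    exact smul_mem_piece_of_subset nabla ω t I J hJ _
      (smul_compProd_mem lam t bΩ hbΩ ω ι hι nabla hc J b e)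

/-- the `B`-span of the generators `t_{I∖J} ∇_J e`, `J ⊆ I`, for a fixed `e` -/
noncomputable def genSpan (I : Finset (Fin n)) (e : E) : Submodule B E :=
  Submodule.span B (Set.range fun J : I.powerset => (∏ i ∈ I \ (J : Finset (Fin n)), t i) •
    LogConn.compProd nabla ω (J : Finset (Fin n)) e)

omit [Module A L] [IsScalarTower A B L] in
theorem gen_mem_genSpan (I J : Finset (Fin n)) (hJ : J ⊆ I) (e : E) :
    (∏ i ∈ I \ J, t i) • LogConn.compProd nabla ω J e ∈ genSpan t ω nabla I e :=
  Submodule.subset_span ⟨⟨J, Finset.mem_powerset.mpr hJ⟩, rfl⟩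

omit [Module A L] [IsScalarTower A B L] in
theorem smul_mem_genSpan_of_subset (I J : Finset (Fin n)) (hJ : J ⊆ I) (e y : E)
    (hy : y ∈ genSpan t ω nabla J e) :
    (∏ i ∈ I \ J, t i) • y ∈ genSpan t ω nabla I e := by
  classical
  have hle : genSpan t ω nabla J e ≤
      (genSpan t ω nabla I e).comap (LinearMap.lsmul B E (∏ i ∈ I \ J, t i)) := by
    unfold genSpan
    rw [Submodule.span_le]
    rintro _ ⟨⟨J', hJ'⟩, rfl⟩
    have hJ'' := Finset.mem_powerset.mp hJ'
    simp only [Submodule.comap_coe, Set.mem_preimage, LinearMap.lsmul_apply, SetLike.mem_coe]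
    rw [smul_smul, ← Finset.prod_union (Finset.disjoint_left.mpr ?_)]
    · have : I \ J ∪ J \ J' = I \ J' := by
        ext x
        simp only [Finset.mem_union, Finset.mem_sdiff]
        constructor
        · rintro (⟨hx1, hx2⟩ | ⟨hx1, hx2⟩)
          · exact ⟨hx1, fun h => hx2 (hJ'' h)⟩
          · exact ⟨hJ hx1, hx2⟩
        · rintro ⟨hx1, hx2⟩
          by_cases hx : x ∈ J
          · exact Or.inr ⟨hx, hx2⟩
          · exact Or.inl ⟨hx1, hx⟩
      rw [this]
      exact gen_mem_genSpan t ω nabla I J' (hJ''.trans hJ) e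
    · intro x hx hx'
      exact (Finset.mem_sdiff.mp hx).2 (Finset.mem_sdiff.mp hx').1
  exact hle hy

include hbΩ hι hc in
theorem comp_mem_genSpan (j : Fin n) (J : Finset (Fin n)) (hj : ∀ x ∈ J, j < x) (e y : E)
    (hy : y ∈ genSpan t ω nabla J e) :
    LogConn.comp nabla ω j y ∈ genSpan t ω nabla (insert j J) e := by
  classical
  have hjJ : j ∉ J := fun h => lt_irrefl j (hj j h)
  have hs : insert j J \ J = {j} := by
    ext x
    simp only [Finset.mem_sdiff, Finset.mem_insert, Finset.mem_singleton]
    constructor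
    · rintro ⟨hx1 | hx1, hx2⟩
      · exact hx1
      · exact absurd hx1 hx2
    · intro hxj
      exact ⟨Or.inl hxj, hxj ▸ hjJ⟩
  have htj : ∀ z ∈ genSpan t ω nabla J e, t j • z ∈ genSpan t ω nabla (insert j J) e := by
    intro z hz
    have := smul_mem_genSpan_of_subset t ω nabla (insert j J) J (Finset.subset_insert j J) e z hz
    rwa [hs, Finset.prod_singleton] at this
  unfold genSpan at hy
  induction hy using Submodule.span_induction with
  | mem z hz =>
    obtain ⟨⟨J', hJ'⟩, rfl⟩ := hz
    have hJ'' := Finset.mem_powerset.mp hJ'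
    have hjJ' : j ∉ J \ J' := fun h => hjJ (Finset.mem_sdiff.mp h).1
    simp only
    rw [comp_smul lam ω ι nabla hc, logD_prod t ω ι hι j (J \ J') hjJ', mul_zero, zero_smul,
      add_zero, ← LinearMap.comp_apply, ← compProd_insert _ _ j J' (fun x hx => hj x (hJ'' hx))]
    have : J \ J' = insert j J \ insert j J' := by
      ext x
      simp only [Finset.mem_sdiff, Finset.mem_insert]
      constructor
      · rintro ⟨hx1, hx2⟩
        refine ⟨Or.inr hx1, ?_⟩
        rintro (hxj | h)
        · exact hjJ (hxj ▸ hx1)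
        · exact hx2 h
      · rintro ⟨hx1 | hx1, hx2⟩
        · exact absurd (Or.inl hx1) hx2
        · exact ⟨hx1, fun h => hx2 (Or.inr h)⟩
    rw [this]
    exact gen_mem_genSpan t ω nabla _ _ (Finset.insert_subset_insert j hJ'') e
  | zero => rw [map_zero]; exact Submodule.zero_mem _
  | add z w _ _ hz hw => rw [map_add]; exact Submodule.add_mem _ hz hw
  | smul c z hz hz' =>
    rw [comp_smul lam ω ι nabla hc, logD_eq_mul t bΩ hbΩ ω ι hι, ← mul_assoc, mul_comm lam,
      mul_assoc, mul_smul]
    refine Submodule.add_mem _ (Submodule.smul_mem _ _ hz') (htj _ (Submodule.smul_mem _ _ hz))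

include hbΩ hι hc in
theorem compProd_smul_mem_genSpan (J : Finset (Fin n)) :
    ∀ (b : B) (e : E), LogConn.compProd nabla ω J (b • e) ∈ genSpan t ω nabla J e := by
  classical
  induction J using Finset.induction_on_min with
  | empty =>
    intro b e
    have := gen_mem_genSpan t ω nabla ∅ ∅ (subset_refl _) e
    rw [compProd_empty] at this ⊢
    simp only [Finset.sdiff_self, Finset.prod_empty, one_smul, LinearMap.id_apply] at this ⊢
    exact Submodule.smul_mem _ _ this
  | insert j J hj ih =>
    intro b e
    rw [compProd_insert _ _ _ _ hj, LinearMap.comp_apply]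
    exact comp_mem_genSpan lam t bΩ hbΩ ω ι hι nabla hc j J hj e _ (ih b e)

end Main

end Groth.Agent.H83
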