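import Groth.Agent.H83.LogGens

set_option autoImplicit false
universe v u

namespace Groth.Agent.H83

open TensorProduct

section Stab

variable {A : Type v} {B L E : Type u} [CommRing A] [CommRing B]
  [Algebra A B] [AddCommGroup L] [Module B L] [Module A L] [IsScalarTower A B L]
  [AddCommGroup E] [Module B E] [Module A E] [IsScalarTower A B E]
  (lam : B) {n : ℕ} (t : Fin n → B) (bΩ : Module.Basis (Fin n) B (KaehlerDifferential A B))
  (hbΩ : ∀ i, bΩ i = KaehlerDifferential.D A B (t i))
  (ω : Module.Basis (Fin n) B L) (ι : KaehlerDifferential A B →ₗ[B] L)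
  (hι : ∀ i, ι (KaehlerDifferential.D A B (t i)) = t i • ω i)
  (nabla : E →ₗ[A] E ⊗[B] L)
  (hc : Conn.IsLamConn (ι.compDer (KaehlerDifferential.D A B)) lam nabla)
  (d : ∀ p : ℕ, ↥(⋀[B]^p L) →ₗ[A] ↥(⋀[B]^(p + 1) L))
  (hd : LogDiff.IsLogRule (KaehlerDifferential.D A B) ι (⇑ω) d)
  (nablas : ∀ p : ℕ, E ⊗[B] ↥(⋀[B]^p L) →ₗ[A] E ⊗[B] ↥(⋀[B]^(p + 1) L))
  (hint : Conn.IsIntegrable nabla (fun p => lam • d p) nablas)

include hd hint in
/-- a component commutes with the ordered composites -/
theorem comp_compProd_comm (k : Fin n) (J : Finset (Fin n)) :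
    LogConn.comp nabla ω k ∘ₗ LogConn.compProd nabla ω J =
      LogConn.compProd nabla ω J ∘ₗ LogConn.comp nabla ω k := by
  classical
  induction J using Finset.induction_on_min with
  | empty => rw [compProd_empty]; rfl
  | insert j J' hj ih =>
    rw [compProd_insert nabla ω j J' hj, ← LinearMap.comp_assoc]
    have hcomm : LogConn.comp nabla ω k ∘ₗ LogConn.comp nabla ω j =
        LogConn.comp nabla ω j ∘ₗ LogConn.comp nabla ω k := by
      ext e
      exact comp_comm ω ι nabla lam d hd nablas hint k j e
    rw [hcomm, LinearMap.comp_assoc, ih, LinearMap.comp_assoc]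

include hι in
theorem logD_prod_mem (k : Fin n) (S : Finset (Fin n)) (hk : k ∈ S) :
    logD (A := A) ω ι k (∏ i ∈ S, t i) = ∏ i ∈ S, t i := by
  classical
  rw [← Finset.insert_erase hk, Finset.prod_insert (Finset.notMem_erase k S), Derivation.leibniz,
    logD_prod t ω ι hι k (S.erase k) (Finset.notMem_erase k S), logD_t t ω ι hι, if_pos rfl]
  simp [mul_comm]

include hbΩ hι hc hd hint in
/-- dropping an index enlarges the piece -/
theorem piece_anti_insert (S : Finset (Fin n)) (k : Fin n) (hk : k ∉ S) :
    LogConn.piece nabla ω t (insert k S) ≤ LogConn.piece nabla ω t S := by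
  classical
  have hle := piece_le_comap nabla ω t (insert k S) LinearMap.id (LogConn.piece nabla ω t S) ?_
  · intro y hy
    exact hle hy
  · intro J hJ e
    rw [LinearMap.id_apply]
    by_cases hkJ : k ∈ J
    · -- `J = insert k J₀`
      have hJ₀ : J.erase k ⊆ S := by
        intro x hx
        have hx' := Finset.mem_erase.mp hx
        rcases Finset.mem_insert.mp (hJ hx'.2) with h | h
        · exact absurd h hx'.1
        · exact h
      have hJeq : J = insert k (J.erase k) := (Finset.insert_erase hkJ).symm
      have hsd : insert k S \ J = S \ J.erase k := by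
        ext x
        simp only [Finset.mem_sdiff, Finset.mem_insert, Finset.mem_erase]
        constructor
        · rintro ⟨h1 | h1, h2⟩
          · exact absurd (h1 ▸ hkJ) h2
          · exact ⟨h1, fun h => h2 h.2⟩
        · rintro ⟨h1, h2⟩
          refine ⟨Or.inr h1, fun h => h2 ⟨?_, h⟩⟩
          rintro rfl
          exact hk h1
      have h1 : LogConn.compProd nabla ω J e =
          LogConn.compProd nabla ω (J.erase k) (LogConn.comp nabla ω k e) := by
        conv_lhs => rw [hJeq]
        rw [← comp_compProd ω ι nabla lam d hd nablas hint k (J.erase k)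
          (Finset.notMem_erase k J), comp_compProd_comm lam ω ι nabla d hd nablas hint]
        rfl
      rw [hsd, h1]
      exact smul_compProd_mem_piece nabla ω t S (J.erase k) hJ₀ _
    · have hJS : J ⊆ S := by
        intro x hx
        rcases Finset.mem_insert.mp (hJ hx) with h | h
        · exact absurd (h ▸ hx) hkJ
        · exact h
      have hsd : insert k S \ J = insert k (S \ J) := by
        ext x
        simp only [Finset.mem_sdiff, Finset.mem_insert]
        constructor
        · rintro ⟨h1 | h1, h2⟩
          · exact Or.inl h1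
          · exact Or.inr ⟨h1, h2⟩
        · rintro (h1 | ⟨h1, h2⟩)
          · exact ⟨Or.inl h1, h1 ▸ hkJ⟩
          · exact ⟨Or.inr h1, h2⟩
      have hkSJ : k ∉ S \ J := fun h => hk (Finset.mem_sdiff.mp h).1
      rw [hsd, Finset.prod_insert hkSJ, mul_smul]
      apply smul_mem_piece lam t bΩ hbΩ ω ι hι nabla hc
      exact smul_compProd_mem_piece nabla ω t S J hJS e

include hbΩ hι hc hd hint in
/-- the pieces decrease with the index set -/
theorem piece_anti (S I : Finset (Fin n)) (hSI : S ⊆ I) :
    LogConn.piece nabla ω t I ≤ LogConn.piece nabla ω t S := by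
  classical
  have key : ∀ T : Finset (Fin n), Disjoint T S →
      LogConn.piece nabla ω t (T ∪ S) ≤ LogConn.piece nabla ω t S := by
    intro T
    induction T using Finset.induction_on with
    | empty => intro _; rw [Finset.empty_union]
    | insert k T' hkT ih =>
      intro hdisj
      have hkS : k ∉ S := fun h => Finset.disjoint_left.mp hdisj (Finset.mem_insert_self k T') h
      have hdisj' : Disjoint T' S :=
        Finset.disjoint_of_subset_left (Finset.subset_insert k T') hdisj
      rw [Finset.insert_union]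
      refine (piece_anti_insert lam t bΩ hbΩ ω ι hι nabla hc d hd nablas hint (T' ∪ S) k ?_).trans
        (ih hdisj')
      intro h
      rcases Finset.mem_union.mp h with h | h
      · exact hkT h
      · exact hkS h
  have := key (I \ S) Finset.sdiff_disjoint
  rwa [Finset.sdiff_union_of_subset hSI] at this

include hbΩ hι hc hd hint in
/-- every piece is stable under every component of a flat connection -/
theorem comp_mem_piece_self (I : Finset (Fin n)) (k : Fin n) (y : E)
    (hy : y ∈ LogConn.piece nabla ω t I) :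
    LogConn.comp nabla ω k y ∈ LogConn.piece nabla ω t I := by
  classical
  by_cases hkI : k ∈ I
  · have hle := piece_le_comap nabla ω t I (LogConn.comp nabla ω k) (LogConn.piece nabla ω t I) ?_
    · exact hle hy
    · intro J hJ e
      rw [comp_smul lam ω ι nabla hc]
      by_cases hkJ : k ∈ J
      · have hkIJ : k ∉ I \ J := fun h => (Finset.mem_sdiff.mp h).2 hkJ
        rw [logD_prod t ω ι hι k (I \ J) hkIJ, mul_zero, zero_smul, add_zero,
          ← LinearMap.comp_apply, comp_compProd_comm lam ω ι nabla d hd nablas hint,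
          LinearMap.comp_apply]
        exact smul_compProd_mem_piece nabla ω t I J hJ _
      · have hkIJ : k ∈ I \ J := Finset.mem_sdiff.mpr ⟨hkI, hkJ⟩
        rw [logD_prod_mem t ω ι hι k (I \ J) hkIJ]
        apply Submodule.add_mem
        · have hsd : I \ J = insert k (I \ insert k J) := by
            ext x
            simp only [Finset.mem_sdiff, Finset.mem_insert, not_or]
            constructor
            · rintro ⟨h1, h2⟩
              by_cases hx : x = k
              · exact Or.inl hx
              · exact Or.inr ⟨h1, hx, h2⟩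
            · rintro (h1 | ⟨h1, _, h3⟩)
              · exact h1 ▸ ⟨hkI, hkJ⟩
              · exact ⟨h1, h3⟩
          have hk' : k ∉ I \ insert k J := fun h =>
            (Finset.mem_sdiff.mp h).2 (Finset.mem_insert_self k J)
          rw [← LinearMap.comp_apply, comp_compProd ω ι nabla lam d hd nablas hint k J hkJ, hsd,
            Finset.prod_insert hk', mul_smul]
          apply smul_mem_piece lam t bΩ hbΩ ω ι hι nabla hc
          refine smul_compProd_mem_piece nabla ω t I (insert k J) ?_ e
          intro x hx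
          rcases Finset.mem_insert.mp hx with rfl | hx
          · exact hkI
          · exact hJ hx
        · rw [mul_smul]
          apply smul_mem_piece lam t bΩ hbΩ ω ι hι nabla hc
          exact smul_compProd_mem_piece nabla ω t I J hJ e
  · exact piece_anti_insert lam t bΩ hbΩ ω ι hι nabla hc d hd nablas hint I k hkI
      (comp_mem_piece_insert lam t ω ι hι nabla hc d hd nablas hint I k hkI y hy)

end Stab

section Change

variable {A : Type v} {B L E : Type u} [CommRing A] [CommRing B]
  [Algebra A B] [AddCommGroup L] [Module B L] [Module A L] [IsScalarTower A B L]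
  [AddCommGroup E] [Module B E] [Module A E] [IsScalarTower A B E]
  (lam : B) {n : ℕ} (t : Fin n → B) (bΩ : Module.Basis (Fin n) B (KaehlerDifferential A B))
  (hbΩ : ∀ i, bΩ i = KaehlerDifferential.D A B (t i))
  (ω : Module.Basis (Fin n) B L) (ι : KaehlerDifferential A B →ₗ[B] L)
  (hι : ∀ i, ι (KaehlerDifferential.D A B (t i)) = t i • ω i)
  (nabla : E →ₗ[A] E ⊗[B] L)
  (hc : Conn.IsLamConn (ι.compDer (KaehlerDifferential.D A B)) lam nabla)
  (d : ∀ p : ℕ, ↥(⋀[B]^p L) →ₗ[A] ↥(⋀[B]^(p + 1) L))
  (hd : LogDiff.IsLogRule (KaehlerDifferential.D A B) ι (⇑ω) d)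
  (nablas : ∀ p : ℕ, E ⊗[B] ↥(⋀[B]^p L) →ₗ[A] E ⊗[B] ↥(⋀[B]^(p + 1) L))
  (hint : Conn.IsIntegrable nabla (fun p => lam • d p) nablas)
  (ω' : Module.Basis (Fin n) B L) (ζ : Fin n → KaehlerDifferential A B)
  (hω' : ∀ i, ω' i = ω i + ι (ζ i))

include hbΩ hι hω' in
omit [Module A L] [IsScalarTower A B L] in
/-- the old basis in the new coordinates, modulo `t i` -/
theorem coord'_basis (i k : Fin n) :
    ω'.coord i (ω k) = (if i = k then 1 else 0) -
      t i * ∑ k', ω'.coord k' (ω k) * bΩ.repr (ζ k') i := by
  classical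
  have h1 : ω k = ∑ k', ω'.coord k' (ω k) • ω' k' := by
    conv_lhs => rw [← ω'.sum_repr (ω k)]
    rfl
  have h2 := congrArg (ω.coord i) h1
  rw [map_sum] at h2
  simp only [map_smul, hω', map_add, coord_ι t bΩ hbΩ ω ι hι, smul_eq_mul] at h2
  simp only [Module.Basis.coord_apply ω, Module.Basis.repr_self, mul_add,
    Finset.sum_add_distrib, Finsupp.single_apply] at h2
  simp only [mul_ite, mul_one, mul_zero, Finset.sum_ite_eq', Finset.mem_univ, if_true] at h2
  rw [Finset.mul_sum]
  have h3 : ∑ x, ω'.coord x (ω k) * (t i * bΩ.repr (ζ x) i) =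
      ∑ x, t i * (ω'.coord x (ω k) * bΩ.repr (ζ x) i) := by
    apply Finset.sum_congr rfl
    intro x _
    ring
  rw [h3] at h2
  have h4 : (if k = i then (1 : B) else 0) = if i = k then 1 else 0 := by
    by_cases h : k = i
    · rw [if_pos h, if_pos h.symm]
    · rw [if_neg h, if_neg (fun h' => h h'.symm)]
  rw [← h4, h2]
  ring

include hbΩ hι hω' in
omit [Module A L] [IsScalarTower A B L] in
/-- the new components in terms of the old ones -/
theorem comp'_eq (i : Fin n) (y : E) :
    LogConn.comp nabla ω' i y = LogConn.comp nabla ω i y -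
      t i • ∑ k, (∑ k', ω'.coord k' (ω k) * bΩ.repr (ζ k') i) • LogConn.comp nabla ω k y := by
  classical
  have h1 : LogConn.comp nabla ω' i y = ∑ k, ω'.coord i (ω k) • LogConn.comp nabla ω k y := by
    unfold LogConn.comp
    rw [Conn.along_apply]
    conv_lhs => rw [nabla_expand ω nabla y]
    rw [map_sum, map_sum]
    apply Finset.sum_congr rfl
    intro k _
    rw [TensorProduct.map_tmul, TensorProduct.rid_tmul]
    rfl
  rw [h1]
  have h2 : ∀ k, ω'.coord i (ω k) • LogConn.comp nabla ω k y =
      (if i = k then (1 : B) else 0) • LogConn.comp nabla ω k y -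
        t i • ((∑ k', ω'.coord k' (ω k) * bΩ.repr (ζ k') i) • LogConn.comp nabla ω k y) := by
    intro k
    rw [coord'_basis t bΩ hbΩ ω ι hι ω' ζ hω' i k, sub_smul, mul_smul]
  rw [Finset.sum_congr rfl (fun k _ => h2 k), Finset.sum_sub_distrib, ← Finset.smul_sum]
  congr 1
  simp only [ite_smul, one_smul, zero_smul, Finset.sum_ite_eq, Finset.mem_univ, if_true]

include hbΩ hι hc hd hint hω' in
/-- a new component maps the old piece `E_I` into `E_{I ∪ i}` -/
theorem comp'_mem_piece_insert (I : Finset (Fin n)) (i : Fin n) (hi : i ∉ I) (y : E)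
    (hy : y ∈ LogConn.piece nabla ω t I) :
    LogConn.comp nabla ω' i y ∈ LogConn.piece nabla ω t (insert i I) := by
  classical
  rw [comp'_eq t bΩ hbΩ ω ι hι nabla ω' ζ hω']
  apply Submodule.sub_mem
  · exact comp_mem_piece_insert lam t ω ι hι nabla hc d hd nablas hint I i hi y hy
  · have h1 : ∑ k, (∑ k', ω'.coord k' (ω k) * bΩ.repr (ζ k') i) • LogConn.comp nabla ω k y ∈
        LogConn.piece nabla ω t I := by
      refine Submodule.sum_mem _ (fun k _ => ?_)
      apply smul_mem_piece lam t bΩ hbΩ ω ι hι nabla hc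
      exact comp_mem_piece_self lam t bΩ hbΩ ω ι hι nabla hc d hd nablas hint I k y hy
    have h2 := smul_mem_piece_of_subset nabla ω t (insert i I) I (Finset.subset_insert i I) _ h1
    have hs : insert i I \ I = {i} := by
      ext x
      simp only [Finset.mem_sdiff, Finset.mem_insert, Finset.mem_singleton]
      constructor
      · rintro ⟨hx1 | hx1, hx2⟩
        · exact hx1
        · exact absurd hx1 hx2
      · intro hxi
        exact ⟨Or.inl hxi, hxi ▸ hi⟩
    rwa [hs, Finset.prod_singleton] at h2

include hbΩ hι hc hd hint hω' in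
/-- the new ordered composites map into the old pieces -/
theorem compProd'_mem_piece (I : Finset (Fin n)) (e : E) :
    LogConn.compProd nabla ω' I e ∈ LogConn.piece nabla ω t I := by
  classical
  induction I using Finset.induction_on_min with
  | empty =>
    have := smul_compProd_mem_piece nabla ω t ∅ ∅ (subset_refl _) e
    simpa [compProd_empty] using this
  | insert i I' hi ih =>
    have hiI : i ∉ I' := fun h => lt_irrefl i (hi i h)
    rw [compProd_insert nabla ω' i I' hi, LinearMap.comp_apply]
    exact comp'_mem_piece_insert lam t bΩ hbΩ ω ι hι nabla hc d hd nablas hint ω' ζ hω' I' i hiI _ ih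

include hbΩ hι hc hd hint hω' in
/-- the generators formed with the new basis lie in the layer formed with the old data -/
theorem gens'_subset_layer (p : ℕ) :
    LogConn.gens nabla ω' ι p ⊆ (LogConn.layer nabla ω t p : Set (E ⊗[B] ↥(⋀[B]^p L))) := by
  classical
  rintro x ⟨I, hI, e, v, hv1, hv2, rfl⟩
  have hzI : LogConn.compProd nabla ω' I e ∈ LogConn.piece nabla ω t I :=
    compProd'_mem_piece lam t bΩ hbΩ ω ι hι nabla hc d hd nablas hint ω' ζ hω' I e
  generalize LogConn.compProd nabla ω' I e = z at hzI
  let m : Fin p → L := fun k =>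
    if h : k.val < I.card then ω (I.orderEmbOfFin rfl ⟨k.val, h⟩) else v k
  let m' : Fin p → L := fun k =>
    if h : k.val < I.card then ι (ζ (I.orderEmbOfFin rfl ⟨k.val, h⟩)) else 0
  have hm : ∀ (k : Fin p) (h : k.val < I.card), m k = ω (I.orderEmbOfFin rfl ⟨k.val, h⟩) :=
    fun k h => dif_pos h
  have hm2 : ∀ (k : Fin p), ¬ k.val < I.card → m k = v k := fun k h => dif_neg h
  have hm'r : ∀ k, m' k ∈ LinearMap.range ι := by
    intro k
    by_cases h : k.val < I.card
    · have h1 : m' k = ι (ζ (I.orderEmbOfFin rfl ⟨k.val, h⟩)) := dif_pos h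
      exact ⟨_, h1.symm⟩
    · have h1 : m' k = 0 := dif_neg h
      exact ⟨0, by rw [map_zero, h1]⟩
  have hv : v = m + m' := by
    funext k
    simp only [Pi.add_apply, m, m']
    by_cases h : k.val < I.card
    · rw [dif_pos h, dif_pos h, hv1 k h, hω']
    · rw [dif_neg h, dif_neg h, add_zero]
  rw [hv, AlternatingMap.map_add_univ, TensorProduct.tmul_sum]
  refine Submodule.sum_mem _ (fun s _ => ?_)
  let F : Finset (Fin I.card) := Finset.univ.filter (fun r => Fin.castLE hI r ∈ s)
  apply tmul_ιMulti_mem_layer lam t bΩ hbΩ ω ι hι nabla hc p (s.piecewise m m')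
    (F.image (Fin.castLE hI)) (F.image (I.orderEmbOfFin rfl))
  · intro k hk
    obtain ⟨r, hr, rfl⟩ := Finset.mem_image.mp hk
    have hrs : Fin.castLE hI r ∈ s := (Finset.mem_filter.mp hr).2
    refine ⟨I.orderEmbOfFin rfl r, Finset.mem_image_of_mem _ hr, ?_⟩
    rw [Finset.piecewise_eq_of_mem _ _ _ hrs, hm (Fin.castLE hI r) r.2]
    rfl
  · intro i hi
    obtain ⟨r, hr, rfl⟩ := Finset.mem_image.mp hi
    have hrs : Fin.castLE hI r ∈ s := (Finset.mem_filter.mp hr).2
    refine ⟨Fin.castLE hI r, Finset.mem_image_of_mem _ hr, ?_⟩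
    rw [Finset.piecewise_eq_of_mem _ _ _ hrs, hm (Fin.castLE hI r) r.2]
    rfl
  · intro k hk
    by_cases hks : k ∈ s
    · rw [Finset.piecewise_eq_of_mem _ _ _ hks]
      by_cases h : k.val < I.card
      · exfalso
        apply hk
        refine Finset.mem_image.mpr ⟨⟨k.val, h⟩, ?_, rfl⟩
        rw [Finset.mem_filter]
        exact ⟨Finset.mem_univ _, hks⟩
      · rw [hm2 k h]
        exact hv2 k (not_lt.mp h)
    · rw [Finset.piecewise_eq_of_notMem _ _ _ hks]
      exact hm'r k
  · refine piece_anti lam t bΩ hbΩ ω ι hι nabla hc d hd nablas hint _ I ?_ hzI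
    intro i hi
    obtain ⟨r, _, rfl⟩ := Finset.mem_image.mp hi
    exact Finset.orderEmbOfFin_mem _ _ _

include hbΩ hι hc hd hint hω' in
theorem span_gens'_le_layer (p : ℕ) :
    (Submodule.span B (LogConn.gens nabla ω' ι p)).restrictScalars A ≤
      LogConn.layer nabla ω t p := by
  intro x hx
  have hx' : x ∈ Submodule.span B (LogConn.gens nabla ω' ι p) := hx
  clear hx
  induction hx' using Submodule.span_induction with
  | mem y hy =>
    exact gens'_subset_layer lam t bΩ hbΩ ω ι hι nabla hc d hd nablas hint ω' ζ hω' p hy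
  | zero => exact zero_mem _
  | add y z _ _ hy hz => exact add_mem hy hz
  | smul b y _ hy =>
    have hy' := hy
    rw [mem_layer_iff] at hy' ⊢
    intro K
    rw [map_smul]
    exact smul_mem_piece lam t bΩ hbΩ ω ι hι nabla hc _ b _ (hy' K)

end Change

section Rule

variable {A : Type v} {B L : Type u} [CommRing A] [CommRing B]
  [Algebra A B] [AddCommGroup L] [Module B L] [Module A L] [IsScalarTower A B L]
  {n : ℕ} (ω : Module.Basis (Fin n) B L) (ι : KaehlerDifferential A B →ₗ[B] L)
  (d : ∀ p : ℕ, ↥(⋀[B]^p L) →ₗ[A] ↥(⋀[B]^(p + 1) L))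
  (hd : LogDiff.IsLogRule (KaehlerDifferential.D A B) ι (⇑ω) d)
  (u : Fin n → Bˣ) (ω' : Fin n → L)
  (hω' : ∀ i, ω' i = ω i + ((u i)⁻¹ : Bˣ).val • ι (KaehlerDifferential.D A B (u i : B)))

include hd hω' in
theorem isLogRule_change_aux (p : ℕ) (Q : Finset (Fin p)) :
    ∀ (e : Fin p → L) (b₀ : B), (∀ k ∈ Q, ∃ i, e k = ω' i) →
      (∀ k, k ∉ Q → (∃ b, e k = ι (KaehlerDifferential.D A B b)) ∨ ∃ i, e k = ω i) →
      d p (b₀ • exteriorPower.ιMulti B p e) =
        exteriorPower.ιMulti B (p + 1) (Fin.cons (ι (KaehlerDifferential.D A B b₀)) e) := by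
  classical
  induction Q using Finset.induction_on with
  | empty =>
    intro e b₀ _ h2
    exact hd p b₀ e (fun k => h2 k (Finset.notMem_empty k))
  | insert k₀ Q' hk₀ ih =>
    intro e b₀ h1 h2
    obtain ⟨i, hi⟩ := h1 k₀ (Finset.mem_insert_self k₀ Q')
    set c : B := ((u i)⁻¹ : Bˣ).val with hc
    set du : L := ι (KaehlerDifferential.D A B (u i : B)) with hdu
    have he : e = Function.update e k₀ (ω i + c • du) := by
      rw [← hω' i, ← hi, Function.update_eq_self]
    -- the two auxiliary vectors satisfy the induction hypothesis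
    have hA : ∀ (y : L), ((∃ b, y = ι (KaehlerDifferential.D A B b)) ∨ ∃ j, y = ω j) →
        ∀ b : B, d p (b • exteriorPower.ιMulti B p (Function.update e k₀ y)) =
          exteriorPower.ιMulti B (p + 1)
            (Fin.cons (ι (KaehlerDifferential.D A B b)) (Function.update e k₀ y)) := by
      intro y hy b
      apply ih
      · intro k hk
        have hkk : k ≠ k₀ := fun h => hk₀ (h ▸ hk)
        rw [Function.update_of_ne hkk]
        exact h1 k (Finset.mem_insert_of_mem hk)
      · intro k hk
        by_cases hkk : k = k₀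
        · subst hkk
          rw [Function.update_self]
          exact hy
        · rw [Function.update_of_ne hkk]
          apply h2
          intro h
          rcases Finset.mem_insert.mp h with h | h
          · exact hkk h
          · exact hk h
    have h3 : b₀ • exteriorPower.ιMulti B p e =
        b₀ • exteriorPower.ιMulti B p (Function.update e k₀ (ω i)) +
          (b₀ * c) • exteriorPower.ιMulti B p (Function.update e k₀ du) := by
      conv_lhs => rw [he]
      rw [AlternatingMap.map_update_add, AlternatingMap.map_update_smul, smul_add, smul_smul]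
    have hDc : KaehlerDifferential.D A B c = -c ^ 2 • KaehlerDifferential.D A B (u i : B) :=
      (KaehlerDifferential.D A B).leibniz_of_mul_eq_one (by
        rw [hc]
        exact_mod_cast (u i).inv_mul)
    set x : L := ι (KaehlerDifferential.D A B b₀) with hx
    have h4 : ι (KaehlerDifferential.D A B (b₀ * c)) = c • x + (-(b₀ * c ^ 2)) • du := by
      rw [Derivation.leibniz, map_add, map_smul, map_smul, hDc, map_smul, smul_smul, hx, hdu]
      rw [add_comm]
      congr 2
      ring
    have h5 : exteriorPower.ιMulti B (p + 1)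
        (Fin.cons (ι (KaehlerDifferential.D A B (b₀ * c))) (Function.update e k₀ du)) =
        c • exteriorPower.ιMulti B (p + 1) (Fin.cons x (Function.update e k₀ du)) := by
      have hcz : ∀ y : L, (Fin.cons y (Function.update e k₀ du) : Fin (p + 1) → L) =
          Function.update (Fin.cons (0 : L) (Function.update e k₀ du) : Fin (p + 1) → L) 0 y :=
        fun y => by rw [Fin.update_cons_zero]
      rw [h4, hcz (c • x + -(b₀ * c ^ 2) • du), AlternatingMap.map_update_add,
        AlternatingMap.map_update_smul, AlternatingMap.map_update_smul, ← hcz, ← hcz]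
      have hz : exteriorPower.ιMulti B (p + 1) (Fin.cons du (Function.update e k₀ du)) = 0 := by
        apply AlternatingMap.map_eq_zero_of_eq _ _ (i := 0) (j := k₀.succ)
        · rw [Fin.cons_zero, Fin.cons_succ, Function.update_self]
        · exact (Fin.succ_ne_zero k₀).symm
      rw [hz, smul_zero, add_zero]
    have h6 : exteriorPower.ιMulti B (p + 1) (Fin.cons x e) =
        exteriorPower.ιMulti B (p + 1) (Fin.cons x (Function.update e k₀ (ω i))) +
          c • exteriorPower.ιMulti B (p + 1) (Fin.cons x (Function.update e k₀ du)) := by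
      conv_lhs => rw [he]
      rw [Fin.cons_update, AlternatingMap.map_update_add, AlternatingMap.map_update_smul,
        ← Fin.cons_update, ← Fin.cons_update]
    rw [h3, map_add, hA (ω i) (Or.inr ⟨i, rfl⟩) b₀, hA du (Or.inl ⟨_, rfl⟩) (b₀ * c), h5, h6]

include hd hω' in
/-- the logarithmic de Rham rule holds as well for the log forms `ω_i + u_i⁻¹ du_i` -/
theorem isLogRule_change :
    LogDiff.IsLogRule (KaehlerDifferential.D A B) ι ω' d := by
  classical
  intro p b₀ e he
  apply isLogRule_change_aux ω ι d hd u ω' hω' p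
    (Finset.univ.filter (fun k => ∃ i, e k = ω' i)) e b₀
  · intro k hk
    exact (Finset.mem_filter.mp hk).2
  · intro k hk
    rcases he k with h | h
    · exact Or.inl h
    · exfalso
      apply hk
      rw [Finset.mem_filter]
      exact ⟨Finset.mem_univ _, h⟩

end Rule

section Final

variable {A : Type v} {B L E : Type u} [CommRing A] [CommRing B]
  [Algebra A B] [AddCommGroup L] [Module B L] [Module A L] [IsScalarTower A B L]
  [AddCommGroup E] [Module B E] [Module A E] [IsScalarTower A B E]
  (lam : B) {n : ℕ} (t : Fin n → B) (bΩ : Module.Basis (Fin n) B (KaehlerDifferential A B))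
  (hbΩ : ∀ i, bΩ i = KaehlerDifferential.D A B (t i))
  (ω : Module.Basis (Fin n) B L) (ι : KaehlerDifferential A B →ₗ[B] L)
  (hι : ∀ i, ι (KaehlerDifferential.D A B (t i)) = t i • ω i)
  (nabla : E →ₗ[A] E ⊗[B] L)
  (hc : Conn.IsLamConn (ι.compDer (KaehlerDifferential.D A B)) lam nabla)
  (d : ∀ p : ℕ, ↥(⋀[B]^p L) →ₗ[A] ↥(⋀[B]^(p + 1) L))
  (hd : LogDiff.IsLogRule (KaehlerDifferential.D A B) ι (⇑ω) d)
  (nablas : ∀ p : ℕ, E ⊗[B] ↥(⋀[B]^p L) →ₗ[A] E ⊗[B] ↥(⋀[B]^(p + 1) L))
  (hint : Conn.IsIntegrable nabla (fun p => lam • d p) nablas)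
  (u : Fin n → Bˣ) (bΩ' : Module.Basis (Fin n) B (KaehlerDifferential A B))
  (hbΩ' : ∀ i, bΩ' i = KaehlerDifferential.D A B ((u i : B) * t i))
  (ω' : Module.Basis (Fin n) B L)
  (hω' : ∀ i, ω' i = ω i + ((u i)⁻¹ : Bˣ).val • ι (KaehlerDifferential.D A B (u i : B)))

include hbΩ hι hc hd hint hbΩ' hω' in
/-- the layers do not depend on the admissible coordinate system -/
theorem layer_eq_layer_of_units (p : ℕ) :
    LogConn.layer nabla ω t p = LogConn.layer nabla ω' (fun i => (u i : B) * t i) p := by
  have hι' : ∀ i, ι (KaehlerDifferential.D A B ((u i : B) * t i)) =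
      ((u i : B) * t i) • ω' i := by
    intro i
    rw [Derivation.leibniz, map_add, map_smul, map_smul, hι, hω', smul_add, smul_smul, smul_smul]
    congr 2
    rw [mul_right_comm, Units.mul_inv, one_mul]
  have hζ : ∀ i, ω' i = ω i + ι (((u i)⁻¹ : Bˣ).val • KaehlerDifferential.D A B (u i : B)) := by
    intro i
    rw [hω' i, map_smul]
  have hζ' : ∀ i, ω i =
      ω' i + ι (-(((u i)⁻¹ : Bˣ).val • KaehlerDifferential.D A B (u i : B))) := by
    intro i
    rw [hζ i, map_neg]
    abel
  have hd' : LogDiff.IsLogRule (KaehlerDifferential.D A B) ι (⇑ω') d :=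
    isLogRule_change ω ι d hd u (⇑ω') hω'
  apply le_antisymm
  · rw [← span_gens_eq_layer lam t bΩ hbΩ ω ι hι nabla hc p]
    exact span_gens'_le_layer lam (fun i => (u i : B) * t i) bΩ' hbΩ' ω' ι hι' nabla hc d hd'
      nablas hint ω _ hζ' p
  · rw [← span_gens_eq_layer lam (fun i => (u i : B) * t i) bΩ' hbΩ' ω' ι hι' nabla hc p]
    exact span_gens'_le_layer lam t bΩ hbΩ ω ι hι nabla hc d hd nablas hint ω' _ hζ p

end Final

end Groth.Agent.H83
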