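import Groth.Agent.H83.LogLayer

set_option autoImplicit false
universe v u

namespace Groth.Agent.H83

open TensorProduct

section Gens

variable {A : Type v} {B L E : Type u} [CommRing A] [CommRing B]
  [Algebra A B] [AddCommGroup L] [Module B L] [Module A L] [IsScalarTower A B L]
  [AddCommGroup E] [Module B E] [Module A E] [IsScalarTower A B E]
  (lam : B) {n : ℕ} (t : Fin n → B) (bΩ : Module.Basis (Fin n) B (KaehlerDifferential A B))
  (hbΩ : ∀ i, bΩ i = KaehlerDifferential.D A B (t i))
  (ω : Module.Basis (Fin n) B L) (ι : KaehlerDifferential A B →ₗ[B] L)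
  (hι : ∀ i, ι (KaehlerDifferential.D A B (t i)) = t i • ω i)
  (nabla : E →ₗ[A] E ⊗[B] L)
  (hc : Conn.IsLamConn (ι.compDer (KaehlerDifferential.D A B)) lam nabla)

include hbΩ hι in
omit [Module A L] [IsScalarTower A B L] in
/-- coordinates of a form without poles -/
theorem coord_ι (η : KaehlerDifferential A B) (j : Fin n) :
    ω.coord j (ι η) = t j * bΩ.repr η j := by
  classical
  conv_lhs => rw [← bΩ.sum_repr η]
  rw [map_sum, map_sum]
  simp only [map_smul, hbΩ, hι, Module.Basis.coord_apply, Module.Basis.repr_self,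
    smul_eq_mul]
  rw [Finset.sum_eq_single j]
  · simp [mul_comm]
  · intro i _ hi
    simp [hi]
  · intro h
    exact absurd (Finset.mem_univ j) h

omit [Module A L] [IsScalarTower A B L] in
theorem prod_ite_orderEmb {p : ℕ} (K : Set.powersetCard (Fin n) p) (S : Finset (Fin n)) :
    ∏ j : Fin p, (if Set.powersetCard.ofFinEmbEquiv.symm K j ∈ S then (1 : B)
      else t (Set.powersetCard.ofFinEmbEquiv.symm K j)) =
      ∏ x ∈ (K : Finset (Fin n)) \ S, t x := by
  classical
  have h1 : ∏ j : Fin p, (if Set.powersetCard.ofFinEmbEquiv.symm K j ∈ S then (1 : B)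
      else t (Set.powersetCard.ofFinEmbEquiv.symm K j)) =
      ∏ x ∈ (K : Finset (Fin n)), (if x ∈ S then (1 : B) else t x) := by
    conv_rhs => rw [← Finset.image_orderEmbOfFin_univ (K : Finset (Fin n)) K.prop]
    rw [Finset.prod_image]
    · rfl
    · intro a _ b _ hab
      exact (Finset.orderEmbOfFin _ _).injective hab
  rw [h1, Finset.prod_ite, Finset.prod_const_one, one_mul, Finset.filter_notMem_eq_sdiff]

include hbΩ hι hc in
/-- a tensor `z ⊗ (w₁ ∧ ⋯ ∧ w_p)` whose factors are either basis vectors `ω_i` (for the positions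
in `Pos`, the indices that occur forming the set `S`) or forms without poles lies in the layer,
provided `z` lies in the piece attached to `S` -/
theorem tmul_ιMulti_mem_layer (p : ℕ) (w : Fin p → L) (Pos : Finset (Fin p))
    (S : Finset (Fin n))
    (hS1 : ∀ k ∈ Pos, ∃ i ∈ S, w k = ω i) (hS2 : ∀ i ∈ S, ∃ k ∈ Pos, w k = ω i)
    (hw2 : ∀ k, k ∉ Pos → w k ∈ LinearMap.range ι)
    (z : E) (hz : z ∈ LogConn.piece nabla ω t S) :
    z ⊗ₜ[B] exteriorPower.ιMulti B p w ∈ LogConn.layer nabla ω t p := by
  classical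
  rw [mem_layer_iff]
  intro K
  rw [coordE_tmul_ιMulti]
  by_cases hSK : S ⊆ (K : Finset (Fin n))
  · -- choose preimages for the forms without poles
    have hη : ∀ k : Fin p, ∃ η : KaehlerDifferential A B, k ∉ Pos → w k = ι η := by
      intro k
      by_cases hk : k ∈ Pos
      · exact ⟨0, fun h => absurd hk h⟩
      · obtain ⟨η, hη⟩ := hw2 k hk
        exact ⟨η, fun _ => hη.symm⟩
    choose η hη using hη
    set Kf := Set.powersetCard.ofFinEmbEquiv.symm K with hKf
    let s : Fin p → B := fun j => if Kf j ∈ S then 1 else t (Kf j)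
    let M' : Matrix (Fin p) (Fin p) B := Matrix.of fun i j =>
      if Kf j ∈ S then ω.coord (Kf j) (w i)
      else (if i ∈ Pos then 0 else bΩ.repr (η i) (Kf j))
    have hM : (Matrix.of fun i j => ω.coord (Kf j) (w i)) =
        Matrix.of fun i j => s j * M' i j := by
      ext i j
      simp only [Matrix.of_apply, s, M']
      by_cases hj : Kf j ∈ S
      · rw [if_pos hj, if_pos hj, one_mul]
      · rw [if_neg hj, if_neg hj]
        by_cases hi : i ∈ Pos
        · obtain ⟨i₀, hi₀, hwi⟩ := hS1 i hi
          rw [if_pos hi, mul_zero, hwi, Module.Basis.coord_apply, Module.Basis.repr_self,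
            Finsupp.single_apply, if_neg]
          intro h
          exact hj (h ▸ hi₀)
        · rw [if_neg hi, hη i hi, coord_ι t bΩ hbΩ ω ι hι]
    rw [hM, Matrix.det_mul_row, prod_ite_orderEmb t K S, mul_comm, mul_smul]
    apply smul_mem_piece lam t bΩ hbΩ ω ι hι nabla hc
    exact smul_mem_piece_of_subset nabla ω t _ _ hSK z hz
  · -- a zero row
    obtain ⟨x, hx, hxK⟩ := Finset.not_subset.mp hSK
    obtain ⟨k, hk, hwk⟩ := hS2 x hx
    rw [Matrix.det_eq_zero_of_row_eq_zero k, zero_smul]
    · exact zero_mem _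
    · intro j
      rw [Matrix.of_apply, hwk, Module.Basis.coord_apply, Module.Basis.repr_self,
        Finsupp.single_apply, if_neg]
      intro h
      apply hxK
      rw [h]
      exact (Set.powersetCard.mem_range_ofFinEmbEquiv_symm_iff_mem K _).mp ⟨j, rfl⟩

include hbΩ hι hc in
theorem gens_subset_layer (p : ℕ) :
    LogConn.gens nabla ω ι p ⊆ (LogConn.layer nabla ω t p : Set (E ⊗[B] ↥(⋀[B]^p L))) := by
  classical
  rintro x ⟨I, hI, e, v, hv1, hv2, rfl⟩
  apply tmul_ιMulti_mem_layer lam t bΩ hbΩ ω ι hι nabla hc p v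
    (Finset.univ.filter (fun k : Fin p => k.val < I.card)) I
  · intro k hk
    have hk' : k.val < I.card := (Finset.mem_filter.mp hk).2
    exact ⟨I.orderEmbOfFin rfl ⟨k.val, hk'⟩, Finset.orderEmbOfFin_mem _ _ _, hv1 k hk'⟩
  · intro i hi
    have hir : i ∈ Set.range (I.orderEmbOfFin rfl) := by
      rw [Finset.range_orderEmbOfFin]
      exact hi
    obtain ⟨r, rfl⟩ := hir
    refine ⟨⟨r.val, lt_of_lt_of_le r.2 hI⟩, ?_, ?_⟩
    · rw [Finset.mem_filter]
      exact ⟨Finset.mem_univ _, r.2⟩
    · exact hv1 ⟨r.val, lt_of_lt_of_le r.2 hI⟩ r.2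
  · intro k hk
    apply hv2
    rw [Finset.mem_filter] at hk
    push Not at hk
    exact hk (Finset.mem_univ _)
  · have := smul_compProd_mem_piece nabla ω t I I (subset_refl _) e
    simpa using this

omit [Module A L] [IsScalarTower A B L] in
/-- a wedge of distinct basis vectors indexed by the elements of `K` is `±` the basis vector -/
theorem ιMulti_comp_eq_sign_smul (p : ℕ) (K : Set.powersetCard (Fin n) p) (g : Fin p → Fin n)
    (hg : Function.Injective g) (hgK : ∀ i, g i ∈ (K : Finset (Fin n))) :
    ∃ u : ℤˣ, exteriorPower.ιMulti B p (ω ∘ g) = u • (ω.exteriorPower p) K := by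
  classical
  have hex : ∀ i, ∃ j, Set.powersetCard.ofFinEmbEquiv.symm K j = g i := fun i =>
    (Set.powersetCard.mem_range_ofFinEmbEquiv_symm_iff_mem K (g i)).mpr (hgK i)
  choose σ hσ using hex
  have hinj : Function.Injective σ := by
    intro i i' h
    apply hg
    rw [← hσ i, ← hσ i', h]
  let σe : Equiv.Perm (Fin p) := Equiv.ofBijective σ (Finite.injective_iff_bijective.mp hinj)
  refine ⟨Equiv.Perm.sign σe, ?_⟩
  have h1 : ω ∘ g = (ω ∘ Set.powersetCard.ofFinEmbEquiv.symm K) ∘ σe := by
    funext i
    simp only [Function.comp_apply]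
    rw [← hσ i]
    rfl
  rw [h1, AlternatingMap.map_perm, exteriorPower.basis_apply]
  rfl

include hι in
omit [Module A L] [IsScalarTower A B L] in
/-- the generator vector attached to `J ⊆ K` -/
theorem exists_gen_vector (p : ℕ) (K : Set.powersetCard (Fin n) p) (J : Finset (Fin n))
    (hJK : J ⊆ (K : Finset (Fin n))) :
    ∃ (v : Fin p → L) (u : ℤˣ),
      (∀ (k : Fin p) (hk : k.val < J.card), v k = ω (J.orderEmbOfFin rfl ⟨k.val, hk⟩)) ∧
      (∀ k : Fin p, J.card ≤ k.val → v k ∈ LinearMap.range ι) ∧
      exteriorPower.ιMulti B p v =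
        u • ((∏ x ∈ (K : Finset (Fin n)) \ J, t x) • (ω.exteriorPower p) K) := by
  classical
  have hcard : ((K : Finset (Fin n)) \ J).card + J.card = p := by
    rw [Finset.card_sdiff_add_card_eq_card hJK, Set.powersetCard.card_eq]
  obtain ⟨q, hq⟩ : ∃ q, q = ((K : Finset (Fin n)) \ J).card := ⟨_, rfl⟩
  have hp : p = J.card + q := by omega
  subst hp
  set D := (K : Finset (Fin n)) \ J with hD
  let a : Fin J.card → Fin n := J.orderEmbOfFin rfl
  let b : Fin q → Fin n := D.orderEmbOfFin hq.symm
  let g : Fin (J.card + q) → Fin n := Fin.append a b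
  let c : Fin (J.card + q) → B := Fin.append (fun _ => 1) (fun k' => t (b k'))
  have hg : Function.Injective g := by
    rw [Fin.append_injective_iff]
    refine ⟨(J.orderEmbOfFin rfl).injective, (D.orderEmbOfFin hq.symm).injective, ?_⟩
    intro i j h
    have h1 : a i ∈ J := Finset.orderEmbOfFin_mem _ _ _
    have h2 : b j ∈ D := Finset.orderEmbOfFin_mem _ _ _
    rw [h] at h1
    exact (Finset.mem_sdiff.mp h2).2 h1
  have hgK : ∀ i, g i ∈ (K : Finset (Fin n)) := by
    intro i
    refine Fin.addCases (fun i' => ?_) (fun i' => ?_) i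
    · have : g (Fin.castAdd q i') = a i' := Fin.append_left a b i'
      rw [this]
      exact hJK (Finset.orderEmbOfFin_mem _ _ _)
    · have : g (Fin.natAdd J.card i') = b i' := Fin.append_right a b i'
      rw [this]
      exact (Finset.mem_sdiff.mp (Finset.orderEmbOfFin_mem _ _ _)).1
  obtain ⟨u, hu⟩ := ιMulti_comp_eq_sign_smul ω _ K g hg hgK
  refine ⟨fun k => c k • ω (g k), u, ?_, ?_, ?_⟩
  · intro k hk
    have hc1 : c k = 1 := Fin.append_left (fun _ => (1 : B)) (fun k' => t (b k')) ⟨k.val, hk⟩
    have hg1 : g k = a ⟨k.val, hk⟩ := Fin.append_left a b ⟨k.val, hk⟩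
    change c k • ω (g k) = _
    rw [hc1, hg1, one_smul]
  · intro k hk
    obtain ⟨k', rfl⟩ : ∃ k', k = Fin.natAdd J.card k' := by
      refine ⟨⟨k.val - J.card, by omega⟩, ?_⟩
      apply Fin.ext
      simp only [Fin.val_natAdd]
      omega
    have hc2 : c (Fin.natAdd J.card k') = t (b k') :=
      Fin.append_right (fun _ => (1 : B)) (fun k' => t (b k')) k'
    have hg2 : g (Fin.natAdd J.card k') = b k' := Fin.append_right a b k'
    change c (Fin.natAdd J.card k') • ω (g (Fin.natAdd J.card k')) ∈ _
    rw [hc2, hg2]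
    exact ⟨KaehlerDifferential.D A B (t (b k')), hι _⟩
  · have h1 := (exteriorPower.ιMulti B (J.card + q)).toMultilinearMap.map_smul_univ c (ω ∘ g)
    have h2 : (fun k => c k • ω (g k)) = fun i => c i • (ω ∘ g) i := rfl
    have hc' : ∏ i, c i = ∏ x ∈ D, t x := by
      rw [Fin.prod_univ_add]
      simp only [c, Fin.append_left, Fin.append_right, Finset.prod_const_one, one_mul]
      conv_rhs => rw [← Finset.image_orderEmbOfFin_univ D hq.symm]
      rw [Finset.prod_image]
      intro x _ y _ h
      exact (D.orderEmbOfFin hq.symm).injective h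
    rw [h2]
    erw [h1]
    rw [hc']
    refine (congrArg (fun y => (∏ x ∈ D, t x) • y) hu).trans ?_
    exact smul_comm _ _ _

include hbΩ hι hc in
/-- the `B`-span of the generators is the layer -/
theorem span_gens_eq_layer (p : ℕ) :
    (Submodule.span B (LogConn.gens nabla ω ι p)).restrictScalars A =
      LogConn.layer nabla ω t p := by
  classical
  apply le_antisymm
  · intro x hx
    have hx' : x ∈ Submodule.span B (LogConn.gens nabla ω ι p) := hx
    clear hx
    induction hx' using Submodule.span_induction with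
    | mem y hy => exact gens_subset_layer lam t bΩ hbΩ ω ι hι nabla hc p hy
    | zero => exact zero_mem _
    | add y z _ _ hy hz => exact add_mem hy hz
    | smul b y _ hy =>
      have hy' := hy
      rw [mem_layer_iff] at hy' ⊢
      intro K
      rw [map_smul]
      exact smul_mem_piece lam t bΩ hbΩ ω ι hι nabla hc _ b _ (hy' K)
  · intro x hx
    have hx' := (mem_layer_iff t ω nabla p x).mp hx
    rw [tensor_basis_expand (ω.exteriorPower p) x]
    change _ ∈ Submodule.span B (LogConn.gens nabla ω ι p)
    refine Submodule.sum_mem _ (fun K _ => ?_)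
    have key : ∀ y ∈ LogConn.piece nabla ω t (K : Finset (Fin n)),
        y ⊗ₜ[B] (ω.exteriorPower p) K ∈ Submodule.span B (LogConn.gens nabla ω ι p) := by
      intro y hy
      let φ : E →ₗ[A] E ⊗[B] ↥(⋀[B]^p L) :=
        ((TensorProduct.mk B E _).flip ((ω.exteriorPower p) K)).restrictScalars A
      have hle : LogConn.piece nabla ω t (K : Finset (Fin n)) ≤
          ((Submodule.span B (LogConn.gens nabla ω ι p)).restrictScalars A).comap φ := by
        unfold LogConn.piece
        refine iSup₂_le fun J hJ => ?_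
        rintro _ ⟨e, rfl⟩
        have hJK := Finset.mem_powerset.mp hJ
        obtain ⟨v, u, hv1, hv2, hv3⟩ := exists_gen_vector t ω ι hι p K J hJK
        change ((∏ i ∈ (K : Finset (Fin n)) \ J, t i) • LogConn.compProd nabla ω J e) ⊗ₜ[B]
          (ω.exteriorPower p) K ∈ Submodule.span B _
        have h1 : (∏ i ∈ (K : Finset (Fin n)) \ J, t i) • (ω.exteriorPower p) K =
            u • exteriorPower.ιMulti B p v := by
          rw [hv3, smul_smul, Int.units_mul_self, one_smul]
        have hgen : LogConn.compProd nabla ω J e ⊗ₜ[B] exteriorPower.ιMulti B p v ∈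
            LogConn.gens nabla ω ι p :=
          ⟨J, (Finset.card_le_card hJK).trans_eq K.prop, e, v, hv1, hv2, rfl⟩
        rw [TensorProduct.smul_tmul, h1]
        rcases Int.units_eq_one_or u with rfl | rfl
        · rw [one_smul]
          exact Submodule.subset_span hgen
        · rw [Units.neg_smul, one_smul, TensorProduct.tmul_neg]
          exact Submodule.neg_mem _ (Submodule.subset_span hgen)
      exact hle hy
    exact key _ (hx' K)

end Gens

end Groth.Agent.H83
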