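import Groth.Agent.H83.LogConn
import Groth.Prelude.Def_LogDiff
import Mathlib.LinearAlgebra.ExteriorPower.Basis

set_option autoImplicit false
universe v u

namespace Groth.Agent.H83

open TensorProduct

section Expand

variable {B : Type u} [CommRing B] {E F : Type u} [AddCommGroup E] [Module B E]
  [AddCommGroup F] [Module B F] {κ : Type*} [Fintype κ]

/-- expansion of an element of `E ⊗ F` along a finite basis of `F` -/
theorem tensor_basis_expand (b : Module.Basis κ B F) (x : E ⊗[B] F) :
    x = ∑ i, (TensorProduct.rid B E (TensorProduct.map LinearMap.id (b.coord i) x)) ⊗ₜ[B] b i := by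
  induction x using TensorProduct.induction_on with
  | zero => simp
  | tmul e f =>
    simp only [TensorProduct.map_tmul, LinearMap.id_apply, TensorProduct.rid_tmul,
      Module.Basis.coord_apply]
    conv_lhs => rw [← b.sum_repr f, TensorProduct.tmul_sum]
    apply Finset.sum_congr rfl
    intro i _
    rw [TensorProduct.smul_tmul]
  | add x y hx hy =>
    conv_lhs => rw [hx, hy]
    rw [← Finset.sum_add_distrib]
    apply Finset.sum_congr rfl
    intro i _
    rw [map_add, map_add, TensorProduct.add_tmul]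

end Expand

section Coord

variable {B L E : Type u} [CommRing B] [AddCommGroup L] [Module B L] [AddCommGroup E] [Module B E]
  {n : ℕ}

theorem coordE_tmul (ω : Module.Basis (Fin n) B L) (p : ℕ) (K : Set.powersetCard (Fin n) p)
    (z : E) (η : ⋀[B]^p L) :
    LogConn.coordE ω p K (z ⊗ₜ[B] η) = ((ω.exteriorPower p).coord K η) • z := by
  simp [LogConn.coordE]

theorem coordE_tmul_ιMulti (ω : Module.Basis (Fin n) B L) (p : ℕ)
    (K : Set.powersetCard (Fin n) p) (z : E) (v : Fin p → L) :
    LogConn.coordE ω p K (z ⊗ₜ[B] exteriorPower.ιMulti B p v) =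
      (Matrix.of fun i j => ω.coord (Set.powersetCard.ofFinEmbEquiv.symm K j) (v i)).det • z := by
  rw [coordE_tmul, exteriorPower.basis_coord, exteriorPower.ιMultiDual_apply_ιMulti]

theorem coordE_tmul_ιMulti_eq_zero (ω : Module.Basis (Fin n) B L) (p : ℕ)
    (K : Set.powersetCard (Fin n) p) (z : E) (g : Fin p → Fin n)
    (h : ∃ j, Set.powersetCard.ofFinEmbEquiv.symm K j ∉ Set.range g) :
    LogConn.coordE ω p K (z ⊗ₜ[B] exteriorPower.ιMulti B p (ω ∘ g)) = 0 := by
  classical
  obtain ⟨j, hj⟩ := h
  rw [coordE_tmul_ιMulti, Matrix.det_eq_zero_of_column_eq_zero j, zero_smul]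
  intro i
  simp only [Matrix.of_apply, Function.comp_apply, Module.Basis.coord_apply,
    Module.Basis.repr_self]
  rw [Finsupp.single_apply, if_neg]
  intro h
  exact hj ⟨i, h⟩

/-- wedging with a one-form given by a vector prepends the vector -/
theorem wedge_oneEquiv_symm_ιMulti (p : ℕ) (m : L) (v : Fin p → L) :
    Conn.wedge p ((exteriorPower.oneEquiv B L).symm m) (exteriorPower.ιMulti B p v) =
      exteriorPower.ιMulti B (p + 1) (Fin.cons m v) := by
  apply Subtype.ext
  rw [Conn.wedge_apply_coe, exteriorPower.oneEquiv_symm_apply]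
  simp only [exteriorPower.ιMulti_apply_coe, ExteriorAlgebra.ιMulti_succ_apply,
    ExteriorAlgebra.ιMulti_zero_apply, mul_one]
  congr 2

end Coord

section Flat

variable {A : Type v} {B L E : Type u} [CommRing A] [CommRing B]
  [Algebra A B] [AddCommGroup L] [Module B L] [Module A L] [IsScalarTower A B L]
  [AddCommGroup E] [Module B E] [Module A E] [IsScalarTower A B E]
  {n : ℕ} (ω : Module.Basis (Fin n) B L) (ι : KaehlerDifferential A B →ₗ[B] L)
  (nabla : E →ₗ[A] E ⊗[B] L)

omit [Module A L] [IsScalarTower A B L] in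
theorem nabla_expand (e : E) : nabla e = ∑ j, LogConn.comp nabla ω j e ⊗ₜ[B] ω j :=
  tensor_basis_expand ω (nabla e)

omit [Module A L] [IsScalarTower A B L] in
theorem toOne_nabla (e : E) :
    Conn.toOne (nabla e) =
      ∑ j, LogConn.comp nabla ω j e ⊗ₜ[B] (exteriorPower.oneEquiv B L).symm (ω j) := by
  conv_lhs => rw [nabla_expand ω nabla e]
  rw [map_sum]
  rfl

variable (lam : B) (d : ∀ p : ℕ, ↥(⋀[B]^p L) →ₗ[A] ↥(⋀[B]^(p + 1) L))
  (hd : LogDiff.IsLogRule (KaehlerDifferential.D A B) ι (⇑ω) d)
  (nablas : ∀ p : ℕ, E ⊗[B] ↥(⋀[B]^p L) →ₗ[A] E ⊗[B] ↥(⋀[B]^(p + 1) L))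

include hd in
theorem d_ιMulti_basis (p : ℕ) (g : Fin p → Fin n) :
    d p (exteriorPower.ιMulti B p (ω ∘ g)) = 0 := by
  have h := hd p 1 (ω ∘ g) (fun k => Or.inr ⟨g k, rfl⟩)
  rw [one_smul] at h
  rw [h]
  apply (exteriorPower.ιMulti B (p + 1)).map_coord_zero 0
  simp

include hd in
theorem nablas_tmul_ιMulti (hcx : Conn.IsCxRule nabla (fun p => lam • d p) nablas) (p : ℕ)
    (y : E) (g : Fin p → Fin n) :
    nablas p (y ⊗ₜ[B] exteriorPower.ιMulti B p (ω ∘ g)) =
      ∑ j, LogConn.comp nabla ω j y ⊗ₜ[B] exteriorPower.ιMulti B (p + 1) (ω ∘ Fin.cons j g) := by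
  rw [hcx, toOne_nabla ω, map_sum, LinearMap.sum_apply, LinearMap.smul_apply,
    d_ιMulti_basis ω ι d hd, smul_zero, tmul_zero, add_zero]
  apply Finset.sum_congr rfl
  intro j _
  rw [Conn.twedge_tmul, wedge_oneEquiv_symm_ιMulti, Fin.comp_cons]

theorem sum_ite_pair {B' E' : Type*} [CommRing B'] [AddCommGroup E'] [Module B' E'] (m : ℕ)
    (a b : Fin m) (T : Fin m → Fin m → E') :
    ∑ j, ∑ i, (((if i = a then 1 else 0) * (if j = b then 1 else 0) -
      (if i = b then 1 else 0) * (if j = a then 1 else 0) : B')) • T i j = T a b - T b a := by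
  simp only [sub_smul, Finset.sum_sub_distrib, mul_smul, ite_smul, one_smul, zero_smul, smul_ite,
    smul_zero]
  simp

include hd in
theorem comp_comm_of_lt (hint : Conn.IsIntegrable nabla (fun p => lam • d p) nablas)
    (a b : Fin n) (hab : a < b) (e : E) :
    LogConn.comp nabla ω a (LogConn.comp nabla ω b e) =
      LogConn.comp nabla ω b (LogConn.comp nabla ω a e) := by
  classical
  have h0 := hint.2 e
  have h1 : ∀ j, (exteriorPower.oneEquiv B L).symm (ω j) =
      exteriorPower.ιMulti B 1 (ω ∘ fun _ => j) := fun j => by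
    rw [exteriorPower.oneEquiv_symm_apply]
    rfl
  rw [toOne_nabla ω, map_sum] at h0
  simp only [h1, nablas_tmul_ιMulti ω ι nabla lam d hd nablas hint.1] at h0
  have hsm : StrictMono ![a, b] := by
    intro i j hij
    fin_cases i <;> fin_cases j <;> simp_all
  let f : Fin 2 ↪o Fin n := OrderEmbedding.ofStrictMono ![a, b] hsm
  have h2 := congrArg (LogConn.coordE ω 2 (Set.powersetCard.ofFinEmbEquiv f)) h0
  simp only [map_sum, map_zero, coordE_tmul_ιMulti, Equiv.symm_apply_apply] at h2
  have h3 : ∀ i j : Fin n,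
      (Matrix.of fun (i' : Fin (1 + 1)) (j' : Fin 2) =>
        (ω.coord (f j')) ((⇑ω ∘ (Fin.cons i fun _ => j : Fin (1 + 1) → Fin n)) i')).det =
      ((if i = a then 1 else 0) * (if j = b then 1 else 0) -
        (if i = b then 1 else 0) * (if j = a then 1 else 0) : B) := by
    intro i j
    have f0 : f 0 = a := rfl
    have f1 : f 1 = b := rfl
    have c0 : (Fin.cons i (fun _ => j) : Fin (1 + 1) → Fin n) 0 = i := rfl
    have c1 : (Fin.cons i (fun _ => j) : Fin (1 + 1) → Fin n) 1 = j := rfl
    rw [Matrix.det_fin_two]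
    simp only [Matrix.of_apply, Function.comp_apply, f0, f1, c0, c1, Module.Basis.coord_apply,
      Module.Basis.repr_self, Finsupp.single_apply]
  simp only [h3] at h2
  rw [sum_ite_pair n a b (fun i j => LogConn.comp nabla ω i (LogConn.comp nabla ω j e)),
    sub_eq_zero] at h2
  exact h2

include hd in
theorem comp_comm (hint : Conn.IsIntegrable nabla (fun p => lam • d p) nablas)
    (a b : Fin n) (e : E) :
    LogConn.comp nabla ω a (LogConn.comp nabla ω b e) =
      LogConn.comp nabla ω b (LogConn.comp nabla ω a e) := by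
  rcases lt_trichotomy a b with hab | rfl | hab
  · exact comp_comm_of_lt ω ι nabla lam d hd nablas hint a b hab e
  · rfl
  · exact (comp_comm_of_lt ω ι nabla lam d hd nablas hint b a hab e).symm

include hd in
/-- with commuting components, `∇_j ∘ ∇_J = ∇_{J ∪ j}` -/
theorem comp_compProd (hint : Conn.IsIntegrable nabla (fun p => lam • d p) nablas)
    (j : Fin n) (J : Finset (Fin n)) (hj : j ∉ J) :
    LogConn.comp nabla ω j ∘ₗ LogConn.compProd nabla ω J =
      LogConn.compProd nabla ω (insert j J) := by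
  classical
  induction J using Finset.induction_on_min with
  | empty => rw [compProd_insert nabla ω j ∅ (by simp)]
  | insert i J' hi ih =>
    have hij : j ≠ i := fun h => hj (h ▸ Finset.mem_insert_self i J')
    have hjJ' : j ∉ J' := fun h => hj (Finset.mem_insert_of_mem h)
    rcases lt_or_gt_of_ne hij with hlt | hgt
    · rw [compProd_insert nabla ω j (insert i J') ?_]
      intro x hx
      rcases Finset.mem_insert.mp hx with rfl | hx
      · exact hlt
      · exact hlt.trans (hi x hx)
    · rw [compProd_insert nabla ω i J' hi, ← LinearMap.comp_assoc]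
      have hc : LogConn.comp nabla ω j ∘ₗ LogConn.comp nabla ω i =
          LogConn.comp nabla ω i ∘ₗ LogConn.comp nabla ω j := by
        ext e
        exact comp_comm ω ι nabla lam d hd nablas hint j i e
      rw [hc, LinearMap.comp_assoc, ih hjJ', Finset.insert_comm,
        compProd_insert nabla ω i (insert j J') ?_]
      intro x hx
      rcases Finset.mem_insert.mp hx with rfl | hx
      · exact hgt
      · exact hi x hx

end Flat

section Layer

variable {A : Type v} {B L E : Type u} [CommRing A] [CommRing B]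
  [Algebra A B] [AddCommGroup L] [Module B L] [Module A L] [IsScalarTower A B L]
  [AddCommGroup E] [Module B E] [Module A E] [IsScalarTower A B E]
  (lam : B) {n : ℕ} (t : Fin n → B) (bΩ : Module.Basis (Fin n) B (KaehlerDifferential A B))
  (hbΩ : ∀ i, bΩ i = KaehlerDifferential.D A B (t i))
  (ω : Module.Basis (Fin n) B L) (ι : KaehlerDifferential A B →ₗ[B] L)
  (hι : ∀ i, ι (KaehlerDifferential.D A B (t i)) = t i • ω i)
  (nabla : E →ₗ[A] E ⊗[B] L)
  (hc : Conn.IsLamConn (ι.compDer (KaehlerDifferential.D A B)) lam nabla)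
  (d : ∀ p : ℕ, ↥(⋀[B]^p L) →ₗ[A] ↥(⋀[B]^(p + 1) L))
  (hd : LogDiff.IsLogRule (KaehlerDifferential.D A B) ι (⇑ω) d)
  (nablas : ∀ p : ℕ, E ⊗[B] ↥(⋀[B]^p L) →ₗ[A] E ⊗[B] ↥(⋀[B]^(p + 1) L))
  (hint : Conn.IsIntegrable nabla (fun p => lam • d p) nablas)

include hι hc hd hint in
/-- `∇_j` maps the piece `E_K` into `E_{K ∪ j}` for `j ∉ K` -/
theorem comp_mem_piece_insert (K : Finset (Fin n)) (j : Fin n) (hjK : j ∉ K) (y : E)
    (hy : y ∈ LogConn.piece nabla ω t K) :
    LogConn.comp nabla ω j y ∈ LogConn.piece nabla ω t (insert j K) := by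
  classical
  have hle := piece_le_comap nabla ω t K (LogConn.comp nabla ω j)
    (LogConn.piece nabla ω t (insert j K)) ?_
  · exact hle hy
  · intro J hJ e
    have hjJ : j ∉ J := fun h => hjK (hJ h)
    have hjKJ : j ∉ K \ J := fun h => hjK (Finset.mem_sdiff.mp h).1
    rw [comp_smul lam ω ι nabla hc, logD_prod t ω ι hι j (K \ J) hjKJ, mul_zero, zero_smul,
      add_zero, ← LinearMap.comp_apply, comp_compProd ω ι nabla lam d hd nablas hint j J hjJ]
    have : K \ J = insert j K \ insert j J := by
      ext x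
      simp only [Finset.mem_sdiff, Finset.mem_insert]
      constructor
      · rintro ⟨hx1, hx2⟩
        refine ⟨Or.inr hx1, ?_⟩
        rintro (hxj | h)
        · exact hjK (hxj ▸ hx1)
        · exact hx2 h
      · rintro ⟨hx1 | hx1, hx2⟩
        · exact absurd (Or.inl hx1) hx2
        · exact ⟨hx1, fun h => hx2 (Or.inr h)⟩
    rw [this]
    exact smul_compProd_mem_piece _ _ _ _ _ (Finset.insert_subset_insert j hJ) e

omit [Module A L] [IsScalarTower A B L] in
theorem mem_layer_iff (p : ℕ) (x : E ⊗[B] ↥(⋀[B]^p L)) :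
    x ∈ LogConn.layer nabla ω t p ↔
      ∀ K : Set.powersetCard (Fin n) p,
        LogConn.coordE ω p K x ∈ LogConn.piece nabla ω t (K : Finset (Fin n)) := by
  unfold LogConn.layer
  rw [Submodule.mem_iInf]
  rfl

include hbΩ hι hc hd hint in
/-- the extension of a flat logarithmic `λ`-connection preserves the layers -/
theorem nablas_mem_layer (p : ℕ) (x : E ⊗[B] ↥(⋀[B]^p L))
    (hx : x ∈ LogConn.layer nabla ω t p) :
    nablas p x ∈ LogConn.layer nabla ω t (p + 1) := by
  classical
  have hx' := (mem_layer_iff t ω nabla p x).mp hx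
  rw [tensor_basis_expand (ω.exteriorPower p) x, map_sum]
  refine Submodule.sum_mem _ (fun K _ => ?_)
  have hK : (ω.exteriorPower p) K =
      exteriorPower.ιMulti B p (ω ∘ (Set.powersetCard.ofFinEmbEquiv.symm K)) := by
    rw [exteriorPower.basis_apply]
    rfl
  rw [hK, nablas_tmul_ιMulti ω ι nabla lam d hd nablas hint.1]
  refine Submodule.sum_mem _ (fun j _ => ?_)
  rw [mem_layer_iff]
  intro K'
  by_cases h : ∃ i, Set.powersetCard.ofFinEmbEquiv.symm K' i ∉
      Set.range (Fin.cons j (Set.powersetCard.ofFinEmbEquiv.symm K) : Fin (p + 1) → Fin n)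
  · rw [coordE_tmul_ιMulti_eq_zero _ _ _ _ _ h]
    exact zero_mem _
  · push Not at h
    have hsub : (K' : Finset (Fin n)) ⊆ insert j (K : Finset (Fin n)) := by
      intro x hx
      obtain ⟨i, rfl⟩ := (Set.powersetCard.mem_range_ofFinEmbEquiv_symm_iff_mem K' x).mpr hx
      obtain ⟨i', hi'⟩ := h i
      rw [← hi']
      refine Fin.cases ?_ (fun i'' => ?_) i'
      · rw [Fin.cons_zero]
        exact Finset.mem_insert_self _ _
      · rw [Fin.cons_succ]
        refine Finset.mem_insert_of_mem ?_
        exact (Set.powersetCard.mem_range_ofFinEmbEquiv_symm_iff_mem K _).mp ⟨i'', rfl⟩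
    have hcard : (insert j (K : Finset (Fin n))).card ≤ (K' : Finset (Fin n)).card := by
      rw [Set.powersetCard.card_eq K']
      refine (Finset.card_insert_le _ _).trans ?_
      rw [Set.powersetCard.card_eq K]
    have hKeq : (K' : Finset (Fin n)) = insert j (K : Finset (Fin n)) :=
      Finset.eq_of_subset_of_card_le hsub hcard
    have hjK : j ∉ (K : Finset (Fin n)) := by
      intro hj
      have h1 := Set.powersetCard.card_eq K'
      rw [hKeq, Finset.insert_eq_of_mem hj, Set.powersetCard.card_eq K] at h1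
      omega
    rw [coordE_tmul_ιMulti]
    apply smul_mem_piece lam t bΩ hbΩ ω ι hι nabla hc
    rw [hKeq]
    exact comp_mem_piece_insert lam t ω ι hι nabla hc d hd nablas hint _ j hjK _ (hx' K)

end Layer

end Groth.Agent.H83
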