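import Groth.Agent.H83.Jacobson
import Groth.Prelude.Def_Conn

set_option autoImplicit false
universe v u

namespace Groth.Agent.H83

open TensorProduct

section PCurv

variable {A : Type v} {B M : Type u} [CommRing A] [CommRing B] [Algebra A B]
  [AddCommGroup M] [Module B M] [Module A M] [IsScalarTower A B M]

/-- scalar multiplication as a ring hom into `End_A(M)` -/
noncomputable abbrev muM (A : Type v) {B : Type u} (M : Type u) [CommRing A] [CommRing B]
    [Algebra A B] [AddCommGroup M] [Module B M] [Module A M] [IsScalarTower A B M] :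
    B →+* Module.End A M := Module.toModuleEnd A (S := B) M

theorem along_smul (nabla : M →ₗ[A] M ⊗[B] Ω[B⁄A]) (f : B) (φ : Ω[B⁄A] →ₗ[B] B) :
    Conn.along nabla (f • φ) = muM A M f * Conn.along nabla φ := by
  ext m
  rw [Module.End.mul_apply, Conn.along_apply, Conn.along_apply, TensorProduct.map_smul_right]
  simp

theorem along_add (nabla : M →ₗ[A] M ⊗[B] Ω[B⁄A]) (φ ψ : Ω[B⁄A] →ₗ[B] B) :
    Conn.along nabla (φ + ψ) = Conn.along nabla φ + Conn.along nabla ψ := by
  ext m
  rw [LinearMap.add_apply, Conn.along_apply, Conn.along_apply, Conn.along_apply,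
    TensorProduct.map_add_right]
  simp

theorem alongDer_comm (nabla : M →ₗ[A] M ⊗[B] Ω[B⁄A])
    (hc : Conn.IsConn (KaehlerDifferential.D A B) nabla) (θ : Derivation A B B) (g : B) :
    Conn.alongDer nabla θ * muM A M g - muM A M g * Conn.alongDer nabla θ = muM A M (θ g) := by
  ext m
  rw [LinearMap.sub_apply, Module.End.mul_apply, Module.End.mul_apply]
  simp only [Conn.alongDer, Conn.along_apply, Module.toModuleEnd_apply,
    DistribSMul.toLinearMap_apply]
  rw [hc g m]
  simp


theorem natCast_end_eq_zero' (p : ℕ) [CharP B p] : ((p : ℕ) : Module.End A M) = 0 := by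
  ext m
  simp only [Module.End.natCast_apply, LinearMap.zero_apply]
  rw [← Nat.cast_smul_eq_nsmul B, CharP.cast_eq_zero, zero_smul]

theorem deriv_comm (θ : Derivation A B B) (g : B) :
    (θ : B →ₗ[A] B) * muM A B g - muM A B g * (θ : B →ₗ[A] B) = muM A B (θ g) := by
  ext x
  rw [LinearMap.sub_apply, Module.End.mul_apply, Module.End.mul_apply]
  simp only [Module.toModuleEnd_apply, DistribSMul.toLinearMap_apply, Derivation.coeFn_coe,
    smul_eq_mul, Derivation.leibniz]
  ring

variable (p : ℕ) [hp : Fact p.Prime] [CharP B p]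

/-- the `p`-th power of a derivation in characteristic `p` is a derivation -/
noncomputable def derivPow (θ₀ : Derivation A B B) : Derivation A B B :=
  Derivation.mk' ((θ₀ : B →ₗ[A] B) ^ p) (by
    intro a b
    have h := pow_prime_comm (R := Module.End A B) p
      (natCast_end_eq_zero' (A := A) (B := B) (M := B) p) (muM A B)
      (θ₀ : B →ₗ[A] B) θ₀ (deriv_comm θ₀) a
    have h2 := LinearMap.congr_fun h b
    rw [LinearMap.sub_apply, Module.End.mul_apply, Module.End.mul_apply] at h2
    simp only [Module.toModuleEnd_apply, DistribSMul.toLinearMap_apply, smul_eq_mul] at h2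
    have h3 : ((θ₀ : B →ₗ[A] B) ^ p) a = (⇑θ₀)^[p] a := by
      rw [Module.End.pow_apply]
      rfl
    rw [smul_eq_mul, smul_eq_mul, h3, mul_comm b, ← h2]
    ring)

theorem derivPow_apply (θ₀ : Derivation A B B) (b : B) : derivPow p θ₀ b = (⇑θ₀)^[p] b := by
  change ((θ₀ : B →ₗ[A] B) ^ p) b = _
  rw [Module.End.pow_apply]
  rfl

theorem isIterPow_derivPow (θ₀ : Derivation A B B) : Conn.IsIterPow θ₀ p (derivPow p θ₀) :=
  fun b => derivPow_apply p θ₀ b

/-- if `Ω` is free of rank one, the `p`-curvature vanishes as soon as it vanishes on the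
derivation dual to the generator -/
theorem pCurv_eq_zero_of_generator
    (bΩ : Module.Basis (Fin 1) B (Ω[B⁄A])) (θ₀ : Derivation A B B)
    (hθ₀ : θ₀.liftKaehlerDifferential (bΩ 0) = 1)
    (nabla : M →ₗ[A] M ⊗[B] Ω[B⁄A])
    (hc : Conn.IsConn (KaehlerDifferential.D A B) nabla)
    (H : ∀ θp : Derivation A B B, Conn.IsIterPow θ₀ p θp → Conn.pCurv p nabla θ₀ θp = 0)
    (θ θp : Derivation A B B) (hθp : Conn.IsIterPow θ p θp) :
    Conn.pCurv p nabla θ θp = 0 := by
  set f : B := θ.liftKaehlerDifferential (bΩ 0) with hf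
  have hlift : θ.liftKaehlerDifferential = f • θ₀.liftKaehlerDifferential := by
    apply bΩ.ext
    intro i
    have : i = 0 := Subsingleton.elim _ _
    subst this
    rw [LinearMap.smul_apply, hθ₀, smul_eq_mul, mul_one]
  have hθ : ∀ b, θ b = f * θ₀ b := by
    intro b
    rw [← Derivation.liftKaehlerDifferential_comp_D θ, hlift, LinearMap.smul_apply,
      Derivation.liftKaehlerDifferential_comp_D, smul_eq_mul]
  have hB := hochschild (R := Module.End A B) p
    (natCast_end_eq_zero' (A := A) (B := B) (M := B) p) (muM A B) (θ₀ : B →ₗ[A] B) θ₀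
    (deriv_comm θ₀) f
  have hM := hochschild (R := Module.End A M) p
    (natCast_end_eq_zero' (A := A) (B := B) (M := M) p) (muM A M) (Conn.alongDer nabla θ₀) θ₀
    (alongDer_comm nabla hc θ₀) f
  generalize (fun g => f * θ₀ g)^[p - 1] f = c at hB hM
  have hθE : (θ : B →ₗ[A] B) = muM A B f * (θ₀ : B →ₗ[A] B) := by
    ext b
    rw [Module.End.mul_apply]
    simp only [Module.toModuleEnd_apply, DistribSMul.toLinearMap_apply, Derivation.coeFn_coe,
      smul_eq_mul]
    exact hθ b
  have hθp' : ∀ b, θp b = f ^ p * derivPow p θ₀ b + c * θ₀ b := by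
    intro b
    rw [hθp b]
    have h1 : (⇑θ)^[p] b = ((θ : B →ₗ[A] B) ^ p) b := by
      rw [Module.End.pow_apply]
      rfl
    rw [h1, hθE, hB, LinearMap.add_apply, Module.End.mul_apply, Module.End.mul_apply]
    simp only [Module.toModuleEnd_apply, DistribSMul.toLinearMap_apply, Derivation.coeFn_coe,
      smul_eq_mul]
    rfl
  have hliftp : θp.liftKaehlerDifferential = (f ^ p) • (derivPow p θ₀).liftKaehlerDifferential +
      c • θ₀.liftKaehlerDifferential := by
    apply Derivation.liftKaehlerDifferential_unique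
    ext b
    change θp.liftKaehlerDifferential (KaehlerDifferential.D A B b) =
      ((f ^ p) • (derivPow p θ₀).liftKaehlerDifferential + c • θ₀.liftKaehlerDifferential)
        (KaehlerDifferential.D A B b)
    simp only [Derivation.liftKaehlerDifferential_comp_D,
      LinearMap.add_apply, LinearMap.smul_apply, smul_eq_mul]
    exact hθp' b
  have h0 := H (derivPow p θ₀) (isIterPow_derivPow p θ₀)
  unfold Conn.pCurv at h0 ⊢
  rw [sub_eq_zero] at h0 ⊢
  have e1 : Conn.alongDer nabla θ = muM A M f * Conn.alongDer nabla θ₀ := by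
    unfold Conn.alongDer
    rw [hlift, along_smul]
  have e2 : Conn.alongDer nabla θp = muM A M (f ^ p) * Conn.alongDer nabla (derivPow p θ₀) +
      muM A M c * Conn.alongDer nabla θ₀ := by
    unfold Conn.alongDer
    rw [hliftp, along_add, along_smul, along_smul]
  rw [e1, e2, hM, h0]

end PCurv

end Groth.Agent.H83
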