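import Groth.Agent.H83.PLieRestrict

/-! Matrix form of Jacobson's restrictability criterion for a free Lie algebra of finite rank. -/

set_option autoImplicit false
universe u v w

namespace Groth.Agent.H83

section

variable (R : Type u) [CommRing R] (p : ℕ) [hp : Fact p.Prime] [CharP R p]
  {L : Type v} [LieRing L] [LieAlgebra R L] {ι : Type w} [Fintype ι] [DecidableEq ι]
  (b : Module.Basis ι R L)

/-- the matrix of `ad (b i)` in the basis `b` -/
noncomputable def adMat (i : ι) : Matrix ι ι R :=
  LinearMap.toMatrix b b (LieAlgebra.ad R L (b i))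

omit hp [CharP R p] in
theorem adMat_apply (i r s : ι) : adMat R b i r s = b.repr ⁅b i, b s⁆ r := by
  rw [adMat, LinearMap.toMatrix_apply, LieAlgebra.ad_apply]

omit hp [CharP R p] in
theorem toMatrix_ad_sum (c : ι → R) :
    LinearMap.toMatrix b b (LieAlgebra.ad R L (∑ j, c j • b j)) = ∑ j, c j • adMat R b j := by
  simp only [map_sum, map_smul, adMat]

/-- a free Lie algebra of finite rank is restrictable iff the `p`-th powers of the matrices of the
`ad (b i)` lie in the span of these matrices -/
theorem nonempty_pmap_iff_matrix :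
    Nonempty (PLie.PMap R p L) ↔
      ∀ i, ∃ c : ι → R, adMat R b i ^ p = ∑ j, c j • adMat R b j := by
  constructor
  · rintro ⟨φ⟩ i
    refine ⟨fun j => b.repr (φ.toFun (b i)) j, ?_⟩
    rw [← toMatrix_ad_sum, b.sum_repr, φ.ad_map, adMat, LinearMap.toMatrix_pow]
  · intro h
    choose c hc using h
    have hy : ∀ i, LieAlgebra.ad R L (b i) ^ p = LieAlgebra.ad R L (∑ j, c i j • b j) := by
      intro i
      apply (LinearMap.toMatrix b b).injective
      rw [← LinearMap.toMatrix_pow, toMatrix_ad_sum]
      exact hc i
    obtain ⟨φ, -⟩ := exists_pmap_of_basis R p b (fun i => ∑ j, c i j • b j) hy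
    exact ⟨φ⟩

end

end Groth.Agent.H83
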