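import Groth.Agent.H83.JacobsonAssoc
import Groth.Agent.H83.PBWRing.Final

/-! Jacobson's restrictability theorem: a free Lie algebra with `(ad b_i)^p = ad y_i` carries a
unique `p`-mapping with `b_i ↦ y_i`. -/

set_option autoImplicit false
universe u v w

namespace Groth.Agent.H83

attribute [local instance] LieRing.ofAssociativeRing

section PBW

variable {R : Type u} [CommRing R] {L : Type v} [LieRing L] [LieAlgebra R L] {ι : Type w}

/-- `L → U(L)` is injective for a free Lie algebra over a commutative ring -/
theorem ι_injective_of_basis (b : Module.Basis ι R L) :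
    Function.Injective (UniversalEnvelopingAlgebra.ι R : L → UniversalEnvelopingAlgebra R L) := by
  classical
  letI : LinearOrder ι := IsWellOrder.linearOrder WellOrderingRel
  obtain ⟨B, hB⟩ := PBWRing.pbw b
  let idx : ι → {l : List ι // l.SortedLE} := fun i => ⟨[i], by simp [List.sortedLE_iff_pairwise]⟩
  have hidx : Function.Injective idx := by
    intro i j h
    have := congrArg Subtype.val h
    simpa [idx] using this
  have hBi : ∀ i, B (idx i) = UniversalEnvelopingAlgebra.ι R (b i) := by
    intro i
    rw [hB]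
    simp [idx]
  have key : ∀ (x : L) (i : ι), B.repr (UniversalEnvelopingAlgebra.ι R x) (idx i) = b.repr x i := by
    intro x i
    let f₁ : L →ₗ[R] R :=
      (Finsupp.lapply (idx i)) ∘ₗ B.repr.toLinearMap ∘ₗ
        (UniversalEnvelopingAlgebra.ι R : L →ₗ⁅R⁆ UniversalEnvelopingAlgebra R L).toLinearMap
    let f₂ : L →ₗ[R] R := (Finsupp.lapply i) ∘ₗ b.repr.toLinearMap
    have : f₁ = f₂ := by
      apply b.ext
      intro j
      change B.repr (UniversalEnvelopingAlgebra.ι R (b j)) (idx i) = b.repr (b j) i
      rw [← hBi, Module.Basis.repr_self, Module.Basis.repr_self, Finsupp.single_apply,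
        Finsupp.single_apply]
      by_cases hji : j = i
      · subst hji; simp
      · rw [if_neg hji, if_neg (fun h => hji (hidx h))]
    exact LinearMap.congr_fun this x
  intro x x' hxx'
  apply b.repr.injective
  ext i
  rw [← key, ← key, hxx']

end PBW


section Hom

variable {R : Type u} [CommRing R] (p : ℕ) [CharP R p]
  {L : Type v} [LieRing L] [LieAlgebra R L] {A : Type w} [Ring A] [Algebra R A]

theorem map_bracketWord (f : L →ₗ⁅R⁆ A) (x₀ x₁ z : L) (w : List Bool) :
    f (PLie.bracketWord (PLie.pair x₀ x₁) z w) =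
      PLie.bracketWord (PLie.pair (f x₀) (f x₁)) (f z) w := by
  induction w with
  | nil => rfl
  | cons a t ih =>
    rw [PLie.bracketWord_cons, PLie.bracketWord_cons, LieHom.map_lie, ih]
    congr 1
    cases a <;> rfl

theorem map_jacobson (f : L →ₗ⁅R⁆ A) (x₀ x₁ : L) :
    f (PLie.jacobson R p x₀ x₁) = PLie.jacobson R p (f x₀) (f x₁) := by
  unfold PLie.jacobson
  rw [map_sum]
  apply Finset.sum_congr rfl
  intro t _
  rw [map_smul, map_bracketWord]

theorem map_ad_pow (f : L →ₗ⁅R⁆ A) (x w : L) (n : ℕ) :
    f ((LieAlgebra.ad R L x ^ n) w) = (adE (f x) ^ n) (f w) := by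
  induction n generalizing w with
  | zero => simp
  | succ n ih =>
    rw [pow_succ, Module.End.mul_apply, ih, pow_succ, Module.End.mul_apply, LieAlgebra.ad_apply,
      LieHom.map_lie, LieRing.of_associative_ring_bracket, adE_apply]

end Hom

section Restrict

variable (R : Type u) [CommRing R] (p : ℕ) [hp : Fact p.Prime] [CharP R p]
  (L : Type v) [LieRing L] [LieAlgebra R L]

omit hp in
theorem pmap_ext {φ ψ : PLie.PMap R p L} (h : ∀ x, φ x = ψ x) : φ = ψ := by
  cases φ with
  | mk f _ _ _ =>
  cases ψ with
  | mk g _ _ _ =>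
  have : f = g := funext h
  subst this
  rfl

variable {L} {ι : Type w}

theorem pmap_zero (φ : PLie.PMap R p L) : φ 0 = 0 := by
  have := φ.map_smul 0 0
  rw [zero_smul, zero_pow hp.out.ne_zero, zero_smul] at this
  exact this

/-- uniqueness of a `p`-mapping with prescribed values on a basis -/
theorem pmap_unique_of_basis (b : Module.Basis ι R L) (φ ψ : PLie.PMap R p L)
    (h : ∀ i, φ (b i) = ψ (b i)) : φ = ψ := by
  apply pmap_ext
  intro x
  have hx : x ∈ Submodule.span R (Set.range b) := by rw [b.span_eq]; trivial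
  induction hx using Submodule.span_induction with
  | mem x hx =>
    obtain ⟨i, rfl⟩ := hx
    exact h i
  | zero => rw [pmap_zero, pmap_zero]
  | add x x' _ _ hx hx' =>
    have h1 := φ.map_add x x'
    have h2 := ψ.map_add x x'
    change φ (x + x') = _ at h1
    change ψ (x + x') = _ at h2
    rw [h1, h2]
    change φ x + φ x' - _ = ψ x + ψ x' - _
    rw [hx, hx']
  | smul a x _ hx =>
    have h1 := φ.map_smul a x
    have h2 := ψ.map_smul a x
    change φ (a • x) = a ^ p • φ x at h1
    change ψ (a • x) = a ^ p • ψ x at h2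
    rw [h1, h2, hx]

end Restrict


section Exists

variable (R : Type u) [CommRing R] (p : ℕ) [hp : Fact p.Prime] [CharP R p]
  {L : Type v} [LieRing L] [LieAlgebra R L] {ι : Type w} (b : Module.Basis ι R L) (y : ι → L)

local notation "U" => UniversalEnvelopingAlgebra R L
local notation "ιU" => UniversalEnvelopingAlgebra.ι R

/-- the central elements `b_i^p - y_i` -/
noncomputable def zetaGen (i : ι) : U := ιU (b i) ^ p - ιU (y i)

/-- the semilinear extension of `zetaGen` -/
noncomputable def zeta (x : L) : U := (b.repr x).sum fun i c => (c ^ p) • zetaGen R p b y i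

theorem zeta_add (x x' : L) : zeta R p b y (x + x') = zeta R p b y x + zeta R p b y x' := by
  unfold zeta
  rw [map_add, Finsupp.sum_add_index']
  · intro i
    rw [zero_pow hp.out.ne_zero, zero_smul]
  · intro i c c'
    rw [add_pow_char, add_smul]

theorem zeta_smul (a : R) (x : L) : zeta R p b y (a • x) = a ^ p • zeta R p b y x := by
  unfold zeta
  rw [map_smul, Finsupp.sum_smul_index, Finsupp.smul_sum]
  · apply Finsupp.sum_congr
    intro i _
    rw [mul_pow, mul_smul]
  · intro i
    rw [zero_pow hp.out.ne_zero, zero_smul]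

theorem zeta_basis (i : ι) : zeta R p b y (b i) = zetaGen R p b y i := by
  unfold zeta
  rw [Module.Basis.repr_self, Finsupp.sum_single_index, one_pow, one_smul]
  rw [zero_pow hp.out.ne_zero, zero_smul]

theorem zeta_zero : zeta R p b y 0 = 0 := by
  unfold zeta
  rw [map_zero, Finsupp.sum_zero_index]

variable (hy : ∀ i : ι, LieAlgebra.ad R L (b i) ^ p = LieAlgebra.ad R L (y i))

include hy in
theorem zetaGen_comm (i : ι) (w : L) :
    zetaGen R p b y i * ιU w = ιU w * zetaGen R p b y i := by
  have h1 := adE_pow_prime p (natCast_algebra_eq_zero R p (A := U)) (ιU (b i)) (ιU w)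
  have h2 := map_ad_pow (ιU) (b i) w p
  rw [hy i, LieAlgebra.ad_apply, LieHom.map_lie, LieRing.of_associative_ring_bracket] at h2
  rw [h1] at h2
  unfold zetaGen
  rw [sub_mul, mul_sub, sub_eq_sub_iff_sub_eq_sub]
  exact h2.symm

include hy in
theorem zeta_comm (x w : L) : zeta R p b y x * ιU w = ιU w * zeta R p b y x := by
  unfold zeta
  rw [Finsupp.sum, Finset.sum_mul, Finset.mul_sum]
  apply Finset.sum_congr rfl
  intro i _
  rw [smul_mul_assoc, mul_smul_comm, zetaGen_comm R p b y hy]

theorem exists_pow_eq (x : L) : ∃ ℓ : L, ιU x ^ p = ιU ℓ + zeta R p b y x := by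
  have hx : x ∈ Submodule.span R (Set.range b) := by rw [b.span_eq]; trivial
  induction hx using Submodule.span_induction with
  | mem x hx =>
    obtain ⟨i, rfl⟩ := hx
    refine ⟨y i, ?_⟩
    rw [zeta_basis]
    unfold zetaGen
    abel
  | zero =>
    refine ⟨0, ?_⟩
    rw [map_zero, zeta_zero, zero_pow hp.out.ne_zero, add_zero]
  | add x x' _ _ hx hx' =>
    obtain ⟨ℓ, hℓ⟩ := hx
    obtain ⟨ℓ', hℓ'⟩ := hx'
    refine ⟨ℓ + ℓ' - PLie.jacobson R p x x', ?_⟩
    rw [map_add, add_pow_eq_sub_jacobson R p, hℓ, hℓ', zeta_add, map_sub, map_add, map_jacobson]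
    abel
  | smul a x _ hx =>
    obtain ⟨ℓ, hℓ⟩ := hx
    refine ⟨a ^ p • ℓ, ?_⟩
    rw [map_smul, smul_pow, hℓ, zeta_smul, map_smul, smul_add]

/-- the `p`-mapping of Jacobson's theorem -/
noncomputable def jacobsonPMapFun (x : L) : L := Classical.choose (exists_pow_eq R p b y x)

theorem jacobsonPMapFun_spec (x : L) :
    ιU x ^ p = ιU (jacobsonPMapFun R p b y x) + zeta R p b y x :=
  Classical.choose_spec (exists_pow_eq R p b y x)

include hy in
/-- **Jacobson's theorem**: existence of the `p`-mapping -/
theorem exists_pmap_of_basis : ∃ φ : PLie.PMap R p L, ∀ i, φ (b i) = y i := by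
  have hinj := ι_injective_of_basis (R := R) b
  have hspec := jacobsonPMapFun_spec R p b y
  refine ⟨⟨jacobsonPMapFun R p b y, ?_, ?_, ?_⟩, ?_⟩
  · intro a x
    apply hinj
    have h1 := hspec (a • x)
    have h2 := hspec x
    rw [map_smul, smul_pow, h2, zeta_smul, smul_add] at h1
    rw [map_smul]
    exact (add_right_cancel h1).symm
  · intro x
    ext w
    apply hinj
    have h2 := hspec x
    rw [LieAlgebra.ad_apply, LieHom.map_lie, LieRing.of_associative_ring_bracket,
      map_ad_pow, adE_pow_prime p (natCast_algebra_eq_zero R p (A := U)), h2, add_mul, mul_add,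
      zeta_comm R p b y hy]
    abel
  · intro x x'
    apply hinj
    have h1 := hspec (x + x')
    have h2 := hspec x
    have h3 := hspec x'
    rw [map_add, add_pow_eq_sub_jacobson R p, h2, h3, zeta_add] at h1
    rw [map_sub, map_add, map_jacobson]
    have h4 : ιU (jacobsonPMapFun R p b y (x + x')) =
        ιU (jacobsonPMapFun R p b y x) + zeta R p b y x +
          (ιU (jacobsonPMapFun R p b y x') + zeta R p b y x') -
          PLie.jacobson R p (ιU x) (ιU x') - (zeta R p b y x + zeta R p b y x') := by
      rw [h1]; abel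
    rw [h4]
    abel
  · intro i
    apply hinj
    have h1 := hspec (b i)
    rw [zeta_basis] at h1
    unfold zetaGen at h1
    have h2 : ιU (jacobsonPMapFun R p b y (b i)) = ιU (y i) := by
      have : ιU (b i) ^ p - (ιU (b i) ^ p - ιU (y i)) = ιU (jacobsonPMapFun R p b y (b i)) := by
        rw [sub_eq_iff_eq_add]
        exact h1
      rw [← this]
      abel
    exact h2

include hy in
/-- **Jacobson's theorem** -/
theorem existsUnique_pmap_of_basis : ∃! φ : PLie.PMap R p L, ∀ i, φ (b i) = y i := by
  obtain ⟨φ, hφ⟩ := exists_pmap_of_basis R p b y hy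
  refine ⟨φ, hφ, fun ψ hψ => ?_⟩
  apply pmap_unique_of_basis R p b
  intro i
  rw [hψ i, hφ i]

end Exists

end Groth.Agent.H83
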