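import Groth.Agent.H83.PrimeOrder
import Groth.Prelude.Def_ConstGrp

/-! A finite group scheme with as many points as its order is constant. -/

set_option autoImplicit false
universe u v w

namespace Groth.Agent.H83.PrimeClassEtale

open TensorProduct WithConv Coalgebra

section Pair

variable {k : Type u} [CommRing k] {G : Type w} [Group G] [Fintype G] [DecidableEq G]

omit [Group G] in
theorem pair_injective : Function.Injective (ConstGrp.pair k G) := by
  let L : ConstGrp.F k (G × G) → ConstGrp.F k G ⊗[k] ConstGrp.F k G := fun φ =>
    ∑ a : G, ∑ b : G, φ (a, b) • (ConstGrp.e k a ⊗ₜ[k] ConstGrp.e k b)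
  have hL : ∀ t, L (ConstGrp.pair k G t) = t := by
    intro t
    induction t using TensorProduct.induction_on with
    | zero =>
      simp only [L, map_zero, ConstGrp.zero_apply, zero_smul, Finset.sum_const_zero]
    | tmul u v =>
      simp only [L, ConstGrp.pair_tmul]
      conv_rhs => rw [ConstGrp.eq_sum_smul_e u, ConstGrp.eq_sum_smul_e v]
      rw [TensorProduct.sum_tmul]
      refine Finset.sum_congr rfl fun a _ => ?_
      rw [TensorProduct.tmul_sum]
      refine Finset.sum_congr rfl fun b _ => ?_
      rw [TensorProduct.smul_tmul_smul]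
    | add x y hx hy =>
      have : L (ConstGrp.pair k G (x + y)) = L (ConstGrp.pair k G x) + L (ConstGrp.pair k G y) := by
        simp only [L, map_add, ConstGrp.add_apply, add_smul, Finset.sum_add_distrib]
      rw [this, hx, hy]
  intro t t' h
  rw [← hL t, ← hL t', h]

end Pair

section Const

variable {k : Type u} [Field k] {A : Type v} [CommRing A] [HopfAlgebra k A] [Module.Finite k A]
  {G : Type w} [Group G] [Fintype G] [DecidableEq G]

/-- the evaluation map attached to an identification of `G` with the group of points -/
noncomputable def evalHom (e : G ≃* WithConv (A →ₐ[k] k)) : A →ₐ[k] ConstGrp.F k G :=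
  (ConstGrp.equivFun k G).symm.toAlgHom.comp
    (AlgHom.pi (R := k) fun g : G => (e g).ofConv)

omit [Module.Finite k A] in
theorem evalHom_apply (e : G ≃* WithConv (A →ₐ[k] k)) (a : A) (g : G) :
    evalHom e a g = (e g).ofConv a := rfl

theorem evalHom_bijective (e : G ≃* WithConv (A →ₐ[k] k))
    (hcard : Fintype.card G = Module.finrank k A) : Function.Bijective (evalHom e) := by
  have hsurj : Function.Surjective (evalHom e) := by
    intro f
    obtain ⟨a, ha⟩ := Groth.Agent.H86.pi_algHom_surjective k A
      (fun x : A →ₐ[k] k => f (e.symm (toConv x)))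
    refine ⟨a, ?_⟩
    ext g
    rw [evalHom_apply]
    have := congrFun ha (e g).ofConv
    simp only [toConv_ofConv, MulEquiv.symm_apply_apply] at this
    exact this
  have hfin : Module.finrank k A = Module.finrank k (ConstGrp.F k G) := by
    rw [← hcard]
    exact (Module.finrank_fintype_fun_eq_card k).symm
  exact ⟨(LinearMap.injective_iff_surjective_of_finrank_eq_finrank hfin
    (f := (evalHom e).toLinearMap)).2 hsurj, hsurj⟩

omit [Module.Finite k A] in
theorem pair_map_evalHom (e : G ≃* WithConv (A →ₐ[k] k)) (t : A ⊗[k] A) (g h : G) :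
    ConstGrp.pair k G (Algebra.TensorProduct.map (evalHom e) (evalHom e) t) (g, h) =
      Algebra.TensorProduct.lift (e g).ofConv (e h).ofConv (fun _ _ => Commute.all _ _) t := by
  induction t using TensorProduct.induction_on with
  | zero => simp
  | tmul x y =>
    rw [Algebra.TensorProduct.map_tmul, ConstGrp.pair_tmul, Algebra.TensorProduct.lift_tmul]
    rfl
  | add x y hx hy =>
    rw [map_add, map_add, ConstGrp.add_apply, hx, hy, map_add]

/-- the evaluation map is a bialgebra map -/
noncomputable def evalBialgHom (e : G ≃* WithConv (A →ₐ[k] k)) : A →ₐc[k] ConstGrp.F k G :=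
  BialgHom.ofAlgHom (evalHom e)
    (by
      ext a
      rw [AlgHom.comp_apply]
      change (evalHom e a) 1 = _
      rw [evalHom_apply, map_one]
      rfl)
    (by
      ext a
      apply pair_injective
      funext ⟨g, h⟩
      rw [AlgHom.comp_apply, AlgHom.comp_apply, pair_map_evalHom]
      change _ = ConstGrp.pair k G (Coalgebra.comul (R := k) (evalHom e a)) (g, h)
      rw [ConstGrp.pair_comul, evalHom_apply, map_mul]
      exact (AlgHom.convMul_apply (e g) (e h) a).symm)

/-- a finite group scheme whose group of points has the order of the scheme is constant -/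
theorem nonempty_bialgEquiv (e : G ≃* WithConv (A →ₐ[k] k))
    (hcard : Fintype.card G = Module.finrank k A) : Nonempty (A ≃ₐc[k] ConstGrp.F k G) :=
  ⟨BialgEquiv.ofBijective (evalBialgHom e) (evalHom_bijective e hcard)⟩

end Const

end Groth.Agent.H83.PrimeClassEtale
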