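import Groth.Agent.H83.PrimeClassLocal
import Groth.Agent.H83.PrimeClassEtale

/-! Classification of the group schemes of prime order over an algebraically closed field of
characteristic `p`: `ℤ/ℓ`, `μ_p`, `α_p`. -/

set_option autoImplicit false
universe u v

namespace Groth.Agent.H83.PrimeClassIso

open TensorProduct WithConv Coalgebra Groth.Agent.H83.PrimeClassLocal

section Iso

variable {k : Type u} [Field k] {A : Type v} [CommRing A] [HopfAlgebra k A] [Module.Finite k A]
  (p : ℕ) [Fact p.Prime] [CharP k p]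

omit [Fact p.Prime] [CharP k p] in
/-- elements of the augmentation ideal have vanishing `p`-th power -/
theorem pow_eq_zero_of_counit (hA : Module.finrank k A = p)
    (hnil : ∀ a : A, counit (R := k) a = 0 → IsNilpotent a) (a : A)
    (ha : counit (R := k) a = 0) : a ^ p = 0 := by
  obtain ⟨I, hI⟩ : ∃ I : Ideal A, I = RingHom.ker (Bialgebra.counitAlgHom k A) := ⟨_, rfl⟩
  have hImem : ∀ a : A, a ∈ I ↔ counit (R := k) a = 0 := by
    intro a
    rw [hI, RingHom.mem_ker]
    rfl
  have hnoeth : IsNoetherianRing A := IsNoetherianRing.of_finite k A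
  have hInil : IsNilpotent I := by
    rw [Ideal.FG.isNilpotent_iff_le_nilradical (IsNoetherian.noetherian I)]
    intro a ha
    exact hnil a ((hImem a).1 ha)
  have h1 := NilpIndex.pow_finrank_eq_bot_of_isNilpotent (k := k) I hInil
  rw [hA] at h1
  have h2 : a ^ p ∈ I ^ p := Ideal.pow_mem_pow ((hImem a).2 ha) p
  rw [h1] at h2
  exact h2

omit [Fact p.Prime] [CharP k p] [Module.Finite k A] in
theorem surjective_of_mem_range {B : Type*} [CommRing B] [Algebra k B] (F : B →ₐ[k] A) (x₁ : A)
    (hx₁ : x₁ ∈ F.range)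
    (hspan : Submodule.span k (Set.range fun i : Fin p => x₁ ^ (i : ℕ)) = ⊤) :
    Function.Surjective F := by
  rw [← AlgHom.range_eq_top, eq_top_iff]
  intro a _
  have ha : a ∈ Submodule.span k (Set.range fun i : Fin p => x₁ ^ (i : ℕ)) :=
    hspan ▸ Submodule.mem_top
  have hle : Submodule.span k (Set.range fun i : Fin p => x₁ ^ (i : ℕ)) ≤
      Subalgebra.toSubmodule F.range := by
    rw [Submodule.span_le]
    rintro _ ⟨i, rfl⟩
    exact pow_mem hx₁ _
  exact hle ha

/-- the additive case: `A` is the Hopf algebra of `α_p` -/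
theorem nonempty_equiv_alphaP (hA : Module.finrank k A = p)
    (hnil : ∀ a : A, counit (R := k) a = 0 → IsNilpotent a)
    (d : A →ₗ[k] k) (hd : IsPointDer d) (x₀ : A)
    (hx₀ : comul (R := k) x₀ = x₀ ⊗ₜ[k] (1 : A) + (1 : A) ⊗ₜ[k] x₀) (hdx₀ : d x₀ = 1) :
    Nonempty (A ≃ₐc[k] AlphaP.A p k) := by
  have hε : counit (R := k) x₀ = 0 := FinDual.counit_eq_zero_of_primitive x₀ hx₀
  have hpow : x₀ ^ p = 0 := pow_eq_zero_of_counit p hA hnil x₀ hε
  obtain ⟨F, hF⟩ : ∃ F : AlphaP.A p k →ₐ[k] A, F = AlphaP.lift p k x₀ hpow := ⟨_, rfl⟩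
  have hFx : F (AlphaP.x p k) = x₀ := by rw [hF, AlphaP.lift_x]
  have hc : (Bialgebra.counitAlgHom k A).comp F = Bialgebra.counitAlgHom k (AlphaP.A p k) := by
    apply AlphaP.algHom_ext
    rw [AlgHom.comp_apply, hFx]
    change counit (R := k) x₀ = counit (R := k) (AlphaP.x p k)
    rw [hε, AlphaP.counit_x]
  have hm : (Algebra.TensorProduct.map F F).comp (Bialgebra.comulAlgHom k (AlphaP.A p k)) =
      (Bialgebra.comulAlgHom k A).comp F := by
    apply AlphaP.algHom_ext
    rw [AlgHom.comp_apply, AlgHom.comp_apply, hFx]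
    change Algebra.TensorProduct.map F F (comul (R := k) (AlphaP.x p k)) = comul (R := k) x₀
    rw [AlphaP.comul_x, map_add, Algebra.TensorProduct.map_tmul, Algebra.TensorProduct.map_tmul,
      hFx, map_one, hx₀]
  have hsurj : Function.Surjective F :=
    surjective_of_mem_range p F x₀ ⟨AlphaP.x p k, hFx⟩
      (span_pow_elem p hA d hd x₀ hε hdx₀)
  have hfin : Module.finrank k (AlphaP.A p k) = Module.finrank k A := by
    rw [AlphaP.finrank_eq, hA]
  have hinj : Function.Injective F :=
    (LinearMap.injective_iff_surjective_of_finrank_eq_finrank hfin (f := F.toLinearMap)).2 hsurj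
  exact ⟨(BialgEquiv.ofBijective (BialgHom.ofAlgHom F hc hm) ⟨hinj, hsurj⟩).symm⟩

/-- the monoid hom `ℤ/p → G(A)` attached to a group-like element of order dividing `p` -/
noncomputable def powHom (g : GroupLike k A) (hg : g ^ p = 1) :
    Multiplicative (ZMod p) →* GroupLike k A where
  toFun m := g ^ (Multiplicative.toAdd m).val
  map_one' := by
    show g ^ (0 : ZMod p).val = 1
    rw [ZMod.val_zero, pow_zero]
  map_mul' a b := by
    show g ^ (Multiplicative.toAdd a + Multiplicative.toAdd b).val =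
      g ^ (Multiplicative.toAdd a).val * g ^ (Multiplicative.toAdd b).val
    rw [ZMod.val_add, ← pow_add]
    exact (pow_eq_pow_mod _ hg).symm

omit [CharP k p] [Module.Finite k A] in
theorem powHom_ofAdd_one (g : GroupLike k A) (hg : g ^ p = 1) :
    powHom p g hg (Multiplicative.ofAdd 1) = g := by
  have hp : p.Prime := Fact.out
  show g ^ (1 : ZMod p).val = g
  rw [ZMod.val_one_eq_one_mod, Nat.one_mod_eq_one.2 hp.one_lt.ne', pow_one]

/-- the multiplicative case: `A` is the Hopf algebra of `μ_p` -/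
theorem nonempty_equiv_mu (hA : Module.finrank k A = p)
    (hnil : ∀ a : A, counit (R := k) a = 0 → IsNilpotent a)
    (d : A →ₗ[k] k) (hd : IsPointDer d) (g₀ : A) (hg₀ : IsGroupLikeElem k g₀) (hdg : d g₀ = 1) :
    Nonempty (A ≃ₐc[k] MonoidAlgebra k (Multiplicative (ZMod p))) := by
  have hp : p.Prime := Fact.out
  have hnt : Nontrivial A := by
    apply Module.nontrivial_of_finrank_pos (R := k)
    rw [hA]
    exact hp.pos
  have hchar : CharP A p := charP_of_injective_algebraMap (algebraMap k A).injective p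
  have hε : counit (R := k) (g₀ - 1) = 0 := by
    rw [map_sub, hg₀.counit_eq_one, Bialgebra.counit_one, sub_self]
  have hd1 : d (g₀ - 1) = 1 := by
    rw [map_sub, hdg, hd.map_one, sub_zero]
  have hpow : g₀ ^ p = 1 := by
    have h := pow_eq_zero_of_counit p hA hnil (g₀ - 1) hε
    rw [sub_pow_char, one_pow, sub_eq_zero] at h
    exact h
  obtain ⟨g, hg⟩ : ∃ g : GroupLike k A, g = ⟨g₀, hg₀⟩ := ⟨_, rfl⟩
  have hgval : (g : A) = g₀ := by rw [hg]
  have hgp : g ^ p = 1 := by
    apply GroupLike.val_injective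
    rw [GroupLike.val_pow, hgval, hpow, GroupLike.val_one]
  obtain ⟨F, hF⟩ : ∃ F : MonoidAlgebra k (Multiplicative (ZMod p)) →ₐc[k] A,
      F = (MonoidAlgebra.liftGroupLikeBialgHom (R := k) (A := A)).comp
        (MonoidAlgebra.mapDomainBialgHom k (powHom p g hgp)) := ⟨_, rfl⟩
  have hFs : ∀ m : Multiplicative (ZMod p), F (MonoidAlgebra.single m 1) = (powHom p g hgp m : A) := by
    intro m
    rw [hF, BialgHom.comp_apply, MonoidAlgebra.mapDomainBialgHom_single]
    simp
  have hsurj : Function.Surjective F := by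
    apply surjective_of_mem_range p (F : MonoidAlgebra k (Multiplicative (ZMod p)) →ₐ[k] A)
      (g₀ - 1) _ (span_pow_elem p hA d hd (g₀ - 1) hε hd1)
    refine ⟨MonoidAlgebra.single (Multiplicative.ofAdd (1 : ZMod p)) 1 - 1, ?_⟩
    show F (MonoidAlgebra.single (Multiplicative.ofAdd (1 : ZMod p)) 1 - 1) = g₀ - 1
    rw [map_sub, hFs, powHom_ofAdd_one, hgval, map_one]
  have hfin : Module.finrank k (MonoidAlgebra k (Multiplicative (ZMod p))) =
      Module.finrank k A := by
    have : NeZero p := ⟨hp.ne_zero⟩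
    rw [(MonoidAlgebra.coeffLinearEquiv k).finrank_eq, Module.finrank_finsupp_self, hA,
      Fintype.card_multiplicative, ZMod.card]
  have hinj : Function.Injective F :=
    (LinearMap.injective_iff_surjective_of_finrank_eq_finrank hfin
      (f := (F : MonoidAlgebra k (Multiplicative (ZMod p)) →ₐ[k] A).toLinearMap)).2 hsurj
  exact ⟨(BialgEquiv.ofBijective F ⟨hinj, hsurj⟩).symm⟩

end Iso

end Groth.Agent.H83.PrimeClassIso
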