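import Groth.Agent.H83.PrimeOrder
import Groth.Prelude.Def_AlphaP

/-! Connected group schemes of order `p` in characteristic `p`: the dual algebra is `k[d]` with
`d^p = c d`. -/

set_option autoImplicit false
universe u v

namespace Groth.Agent.H83.PrimeClassLocal

open TensorProduct WithConv Coalgebra Groth.Agent.H83.InvDer Groth.Agent.H83.PrimeOrder

section PointDer

variable {k : Type u} [Field k] {A : Type v} [CommRing A] [Bialgebra k A]

local notation "DD" => WithConv (A →ₗ[k] k)

/-- point derivations at the counit -/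
def IsPointDer (f : A →ₗ[k] k) : Prop :=
  ∀ a b : A, f (a * b) = counit (R := k) a * f b + f a * counit (R := k) b

theorem IsPointDer.map_one {f : A →ₗ[k] k} (hf : IsPointDer f) : f 1 = 0 := by
  have h := hf 1 1
  simp only [mul_one, Bialgebra.counit_one, one_mul] at h
  linear_combination -h

theorem IsPointDer.map_mul_of_counit {f : A →ₗ[k] k} (hf : IsPointDer f) (a b : A)
    (ha : counit (R := k) a = 0) (hb : counit (R := k) b = 0) : f (a * b) = 0 := by
  rw [hf, ha, hb]
  ring

theorem IsPointDer.sub_smul {f g : A →ₗ[k] k} (hf : IsPointDer f) (hg : IsPointDer g) (c : k) :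
    IsPointDer (f - c • g) := by
  intro a b
  simp only [LinearMap.sub_apply, LinearMap.smul_apply, smul_eq_mul, hf a b, hg a b]
  ring

theorem IsPointDer.smul {f : A →ₗ[k] k} (hf : IsPointDer f) (c : k) : IsPointDer (c • f) := by
  intro a b
  simp only [LinearMap.smul_apply, smul_eq_mul, hf a b]
  ring

/-- the iterates of a derivation satisfy the Leibniz rule in characteristic `p` -/
theorem der_pow_char_mul (p : ℕ) [Fact p.Prime] [CharP k p] (D : Derivation k A A) (a b : A) :
    ((D : A →ₗ[k] A) ^ p) (a * b) = ((D : A →ₗ[k] A) ^ p) a * b + a * ((D : A →ₗ[k] A) ^ p) b := by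
  have hnt : Nontrivial A := by
    refine ⟨⟨1, 0, fun h => ?_⟩⟩
    have := congrArg (counit (R := k)) h
    simp at this
  have hntT : Nontrivial (A ⊗[k] A) :=
    (Algebra.TensorProduct.lmul' k : A ⊗[k] A →ₐ[k] A).toRingHom.domain_nontrivial
  have hcharE : CharP (Module.End k (A ⊗[k] A)) p :=
    charP_of_injective_algebraMap (algebraMap k (Module.End k (A ⊗[k] A))).injective p
  obtain ⟨L, hL⟩ : ∃ L : Module.End k (A ⊗[k] A), L = LinearMap.rTensor A (D : A →ₗ[k] A) :=
    ⟨_, rfl⟩
  obtain ⟨R, hR⟩ : ∃ R : Module.End k (A ⊗[k] A), R = LinearMap.lTensor A (D : A →ₗ[k] A) :=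
    ⟨_, rfl⟩
  have hcomm : Commute L R := by
    rw [hL, hR]
    show LinearMap.rTensor A (D : A →ₗ[k] A) ∘ₗ LinearMap.lTensor A (D : A →ₗ[k] A) =
      LinearMap.lTensor A (D : A →ₗ[k] A) ∘ₗ LinearMap.rTensor A (D : A →ₗ[k] A)
    rw [LinearMap.rTensor_comp_lTensor, LinearMap.lTensor_comp_rTensor]
  have hleib : ∀ t : A ⊗[k] A, (D : A →ₗ[k] A) (LinearMap.mul' k A t) =
      LinearMap.mul' k A ((L + R) t) := by
    intro t
    induction t using TensorProduct.induction_on with
    | zero => simp
    | tmul x y =>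
      rw [hL, hR]
      simp only [LinearMap.mul'_apply, LinearMap.add_apply, LinearMap.rTensor_tmul,
        LinearMap.lTensor_tmul, map_add]
      show D (x * y) = D x * y + x * D y
      rw [Derivation.leibniz]
      simp only [smul_eq_mul]
      ring
    | add x y hx hy => simp only [map_add, hx, hy]
  have hpow : ∀ (n : ℕ) (t : A ⊗[k] A), ((D : A →ₗ[k] A) ^ n) (LinearMap.mul' k A t) =
      LinearMap.mul' k A (((L + R) ^ n) t) := by
    intro n
    induction n with
    | zero => intro t; simp
    | succ n ih =>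
      intro t
      rw [pow_succ, Module.End.mul_apply, hleib, ih, pow_succ, Module.End.mul_apply]
  have h1 := hpow p (a ⊗ₜ[k] b)
  rw [add_pow_char_of_commute _ hcomm, hL, hR] at h1
  rw [LinearMap.mul'_apply] at h1
  rw [h1]
  have h2 : (LinearMap.rTensor A (D : A →ₗ[k] A) : Module.End k (A ⊗[k] A)) ^ p =
      LinearMap.rTensor A ((D : A →ₗ[k] A) ^ p) := LinearMap.rTensor_pow _ _
  have h3 : (LinearMap.lTensor A (D : A →ₗ[k] A) : Module.End k (A ⊗[k] A)) ^ p =
      LinearMap.lTensor A ((D : A →ₗ[k] A) ^ p) := LinearMap.lTensor_pow _ _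
  rw [h2, h3]
  simp only [LinearMap.add_apply, LinearMap.rTensor_tmul, LinearMap.lTensor_tmul, map_add,
    LinearMap.mul'_apply]

/-- the `p`-th convolution power of a point derivation is a point derivation -/
theorem isPointDer_pow (p : ℕ) [Fact p.Prime] [CharP k p] (d : A →ₗ[k] k) (hd : IsPointDer d) :
    IsPointDer ((toConv d : DD) ^ p).ofConv := by
  intro a b
  rw [pow_apply d hd, pow_apply d hd, pow_apply d hd, der_pow_char_mul]
  simp only [map_add, Bialgebra.counit_mul]
  ring

theorem pow_apply_pow_of_lt (d : A →ₗ[k] k) (hd : IsPointDer d) (x : A)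
    (hx : counit (R := k) x = 0) (j i : ℕ) (hji : j < i) :
    ((toConv d : DD) ^ j).ofConv (x ^ i) = 0 := by
  obtain ⟨I, hI⟩ : ∃ I : Ideal A, I = RingHom.ker (Bialgebra.counitAlgHom k A) := ⟨_, rfl⟩
  have hImem : ∀ a : A, a ∈ I ↔ counit (R := k) a = 0 := by
    intro a
    rw [hI, RingHom.mem_ker]
    rfl
  have h3 : x ^ i ∈ I ^ ((i - j) + j) := by
    rw [Nat.sub_add_cancel (le_of_lt hji)]
    exact Ideal.pow_mem_pow ((hImem x).2 hx) _
  have h4 := der_pow_mem (invDer d hd) I j (i - j) _ h3
  have h5 : I ^ (i - j) ≤ I := Ideal.pow_le_self (by omega)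
  rw [pow_apply d hd, (hImem _).1 (h5 h4)]

theorem pow_apply_pow_self (d : A →ₗ[k] k) (hd : IsPointDer d) (x : A)
    (hx : counit (R := k) x = 0) (hdx : d x = 1) (j : ℕ) :
    ((toConv d : DD) ^ j).ofConv (x ^ j) = (j.factorial : k) := by
  rw [pow_apply d hd]
  have h2 := counit_der_pow (invDer d hd) x hx j 1
  rw [mul_one] at h2
  rw [h2, counit_invDer, hdx]
  simp

/-- the powers of a coordinate are linearly independent up to the characteristic -/
theorem linearIndependent_pow_elem (p : ℕ) (hfac : ∀ j < p, (j.factorial : k) ≠ 0)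
    (d : A →ₗ[k] k) (hd : IsPointDer d) (x : A) (hx : counit (R := k) x = 0) (hdx : d x = 1) :
    LinearIndependent k (fun i : Fin p => x ^ (i : ℕ)) := by
  classical
  rw [Fintype.linearIndependent_iff]
  intro c hc
  by_contra hne
  push Not at hne
  have hs : (Finset.univ.filter fun j : Fin p => c j ≠ 0).Nonempty := by
    obtain ⟨j, hj⟩ := hne
    exact ⟨j, by simp [hj]⟩
  obtain ⟨j₀, hj₀⟩ : ∃ j₀, j₀ = (Finset.univ.filter fun j : Fin p => c j ≠ 0).min' hs := ⟨_, rfl⟩
  have hj₀mem : j₀ ∈ Finset.univ.filter fun j : Fin p => c j ≠ 0 := hj₀ ▸ Finset.min'_mem _ hs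
  have hc₀ : c j₀ ≠ 0 := by simpa using hj₀mem
  have hlt : ∀ j : Fin p, j < j₀ → c j = 0 := by
    intro j hj
    by_contra hcj
    have : j ∈ Finset.univ.filter fun j : Fin p => c j ≠ 0 := by simp [hcj]
    have := Finset.min'_le _ j this
    rw [← hj₀] at this
    exact absurd hj (not_lt.2 this)
  have h1 := congrArg (fun a : A => ((toConv d : DD) ^ (j₀ : ℕ)).ofConv a) hc
  simp only [map_sum, map_smul, smul_eq_mul, map_zero] at h1
  rw [Finset.sum_eq_single j₀] at h1
  · rw [pow_apply_pow_self d hd x hx hdx] at h1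
    rcases mul_eq_zero.1 h1 with h | h
    · exact hc₀ h
    · exact hfac _ j₀.2 h
  · intro j _ hj
    rcases lt_or_gt_of_ne hj with hlt' | hgt
    · rw [hlt j hlt', zero_mul]
    · rw [pow_apply_pow_of_lt d hd x hx _ _ hgt, mul_zero]
  · intro h
    exact absurd (Finset.mem_univ j₀) h

end PointDer

section Setup

variable {k : Type u} [Field k] {A : Type v} [CommRing A] [HopfAlgebra k A] [Module.Finite k A]

local notation "DD" => WithConv (A →ₗ[k] k)

/-- a nontrivial connected finite group scheme has a point derivation with a coordinate -/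
theorem exists_pointDer (hA : 1 < Module.finrank k A)
    (hnil : ∀ a : A, counit (R := k) a = 0 → IsNilpotent a) :
    ∃ (d : A →ₗ[k] k) (x : A), IsPointDer d ∧ counit (R := k) x = 0 ∧ d x = 1 := by
  obtain ⟨I, hI⟩ : ∃ I : Ideal A, I = RingHom.ker (Bialgebra.counitAlgHom k A) := ⟨_, rfl⟩
  have hImem : ∀ a : A, a ∈ I ↔ counit (R := k) a = 0 := by
    intro a
    rw [hI, RingHom.mem_ker]
    rfl
  have hnoeth : IsNoetherianRing A := IsNoetherianRing.of_finite k A
  have hex : ∃ x : I, I.toCotangent x ≠ 0 := by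
    by_contra hall
    push Not at hall
    have hle : I ≤ I ^ 2 := fun x hx => (Ideal.toCotangent_eq_zero I ⟨x, hx⟩).1 (hall ⟨x, hx⟩)
    have hInil : IsNilpotent I := by
      rw [Ideal.FG.isNilpotent_iff_le_nilradical (IsNoetherian.noetherian I)]
      intro a ha
      exact hnil a ((hImem a).1 ha)
    have hbot : I ^ 1 = ⊥ := by
      apply NilpIndex.eq_bot_of_pow_succ_eq I hInil 1
      rw [pow_one]
      exact le_antisymm (Ideal.pow_le_self (by norm_num)) hle
    rw [pow_one] at hbot
    have hinj : Function.Injective (counit (R := k) : A →ₗ[k] k) := by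
      rw [← LinearMap.ker_eq_bot, eq_bot_iff]
      intro a ha
      have : a ∈ I := (hImem a).2 ha
      rw [hbot] at this
      exact this
    have h1 := LinearMap.finrank_le_finrank_of_injective hinj
    rw [Module.finrank_self] at h1
    omega
  obtain ⟨x, hx⟩ := hex
  obtain ⟨φ, hφ⟩ := Module.Projective.exists_dual_eq_one k hx
  refine ⟨HeightOne.pointDer I hImem φ, (x : A), HeightOne.pointDer_mul I hImem φ,
    (hImem _).1 x.2, ?_⟩
  rw [HeightOne.pointDer_apply_of_mem I hImem φ _ x.2]
  exact hφ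

end Setup

section Main

variable {k : Type u} [Field k] {A : Type v} [CommRing A] [HopfAlgebra k A] [Module.Finite k A]
  (p : ℕ) [Fact p.Prime] [CharP k p]

local notation "DD" => WithConv (A →ₗ[k] k)

omit [Fact p.Prime] in
theorem factorial_ne_zero (hp : p.Prime) (j : ℕ) (hj : j < p) : (j.factorial : k) ≠ 0 := by
  intro h0
  rw [CharP.cast_eq_zero_iff k p, hp.dvd_factorial] at h0
  omega

/-- the basis of the dual algebra given by the powers of a point derivation -/
noncomputable def basisD (hA : Module.finrank k A = p) (d : A →ₗ[k] k) (hd : IsPointDer d)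
    (x : A) (hx : counit (R := k) x = 0) (hdx : d x = 1) : Module.Basis (Fin p) k DD :=
  basisOfLinearIndependentOfCardEqFinrank
    (linearIndependent_pow p (factorial_ne_zero p Fact.out) d hd x hx hdx)
    (by rw [finrank_dual, hA, Fintype.card_fin])

omit [Module.Finite k A] in
theorem basisD_apply (hA : Module.finrank k A = p) (d : A →ₗ[k] k) (hd : IsPointDer d)
    (x : A) (hx : counit (R := k) x = 0) (hdx : d x = 1) (j : Fin p) :
    basisD p hA d hd x hx hdx j = (toConv d : DD) ^ (j : ℕ) := by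
  rw [basisD, coe_basisOfLinearIndependentOfCardEqFinrank]

/-- the powers of a coordinate span -/
theorem span_pow_elem (hA : Module.finrank k A = p) (d : A →ₗ[k] k) (hd : IsPointDer d)
    (x : A) (hx : counit (R := k) x = 0) (hdx : d x = 1) :
    Submodule.span k (Set.range fun i : Fin p => x ^ (i : ℕ)) = ⊤ :=
  (linearIndependent_pow_elem p (factorial_ne_zero p Fact.out) d hd x hx
    hdx).span_eq_top_of_card_eq_finrank' (by rw [hA, Fintype.card_fin])

/-- point derivations are multiples of `d` -/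
theorem eq_smul_of_isPointDer (hA : Module.finrank k A = p) (d : A →ₗ[k] k) (hd : IsPointDer d)
    (x : A) (hx : counit (R := k) x = 0) (hdx : d x = 1) (f : A →ₗ[k] k) (hf : IsPointDer f) :
    f = f x • d := by
  have hδ : IsPointDer (f - f x • d) := hf.sub_smul hd (f x)
  have h0 : f - f x • d = 0 := by
    apply LinearMap.ext_on (span_pow_elem p hA d hd x hx hdx)
    rintro _ ⟨i, rfl⟩
    rw [LinearMap.zero_apply]
    show (f - f x • d) (x ^ (i : ℕ)) = 0
    rcases Nat.lt_or_ge (i : ℕ) 1 with h | h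
    · have : (i : ℕ) = 0 := by omega
      rw [this, pow_zero]
      exact hδ.map_one
    · rcases Nat.lt_or_ge (i : ℕ) 2 with h2 | h2
      · have : (i : ℕ) = 1 := by omega
        rw [this, pow_one]
        simp [hdx]
      · obtain ⟨m, hm⟩ : ∃ m, (i : ℕ) = m + 1 + 1 := ⟨(i : ℕ) - 2, by omega⟩
        rw [hm, pow_succ]
        apply hδ.map_mul_of_counit _ _ _ hx
        rw [Bialgebra.counit_pow, hx, zero_pow (Nat.succ_ne_zero m)]
  exact sub_eq_zero.1 h0

/-- the `p`-th power of `d` is a multiple of `d` -/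
theorem pow_eq_smul (hA : Module.finrank k A = p) (d : A →ₗ[k] k) (hd : IsPointDer d)
    (x : A) (hx : counit (R := k) x = 0) (hdx : d x = 1) :
    (toConv d : DD) ^ p = ((toConv d : DD) ^ p).ofConv x • (toConv d : DD) := by
  have h := eq_smul_of_isPointDer p hA d hd x hx hdx _ (isPointDer_pow p d hd)
  apply WithConv.ofConv_injective
  exact h

omit [Fact p.Prime] [CharP k p] [Module.Finite k A] in
/-- the value of a convolution power of a point derivation at `1` -/
theorem pow_apply_one (d : A →ₗ[k] k) (hd : IsPointDer d) (i : ℕ) :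
    ((toConv d : DD) ^ i).ofConv (1 : A) = if i = 0 then 1 else 0 := by
  rw [pow_apply d hd]
  rcases i with _ | i
  · simp
  · rw [pow_succ, Module.End.mul_apply]
    have : ((invDer d hd : Derivation k A A) : A →ₗ[k] A) 1 = 0 :=
      Derivation.map_one_eq_zero (invDer d hd)
    rw [this, map_zero, map_zero]
    simp

omit [Fact p.Prime] [CharP k p] [Module.Finite k A] in
theorem bilin_ext {ι : Type*} {V : Type*} [AddCommGroup V] [Module k V] (b : Module.Basis ι k V)
    (B₁ B₂ : V →ₗ[k] V →ₗ[k] k) (h : ∀ i j, B₁ (b i) (b j) = B₂ (b i) (b j)) : B₁ = B₂ :=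
  b.ext fun i => b.ext fun j => h i j

/-- additive case: if `d^p = 0` there is a primitive coordinate -/
theorem exists_primitive (hA : Module.finrank k A = p) (d : A →ₗ[k] k) (hd : IsPointDer d)
    (x : A) (hx : counit (R := k) x = 0) (hdx : d x = 1) (hp0 : (toConv d : DD) ^ p = 0) :
    ∃ x₀ : A, comul (R := k) x₀ = x₀ ⊗ₜ[k] (1 : A) + (1 : A) ⊗ₜ[k] x₀ ∧ d x₀ = 1 := by
  have hp : p.Prime := Fact.out
  obtain ⟨b, hb⟩ : ∃ b : Module.Basis (Fin p) k DD, b = basisD p hA d hd x hx hdx := ⟨_, rfl⟩
  have hbj : ∀ j : Fin p, b j = (toConv d : DD) ^ (j : ℕ) := fun j => by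
    rw [hb, basisD_apply]
  obtain ⟨φ, hφ⟩ : ∃ φ : DD →ₗ[k] k, φ = b.coord ⟨1, hp.one_lt⟩ := ⟨_, rfl⟩
  have hφpow : ∀ n : ℕ, φ ((toConv d : DD) ^ n) = if n = 1 then 1 else 0 := by
    intro n
    rcases Nat.lt_or_ge n p with hn | hn
    · have h1 : (toConv d : DD) ^ n = b ⟨n, hn⟩ := (hbj ⟨n, hn⟩).symm
      rw [h1, hφ, Module.Basis.coord_apply, Module.Basis.repr_self, Finsupp.single_apply]
      simp only [Fin.mk.injEq]
    · obtain ⟨m, rfl⟩ := Nat.exists_eq_add_of_le hn
      rw [pow_add, hp0, zero_mul, map_zero, if_neg]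
      have := hp.two_le
      omega
  obtain ⟨x₀, hx₀⟩ := FinDual.exists_ev_eq φ
  obtain ⟨ev1, hev1⟩ : ∃ ev1 : DD →ₗ[k] k, ∀ f : DD, ev1 f = f.ofConv (1 : A) :=
    ⟨{ toFun := fun f => f.ofConv 1, map_add' := fun f g => rfl, map_smul' := fun c f => rfl },
      fun f => rfl⟩
  have hB : (LinearMap.mul k DD).compr₂ φ =
      LinearMap.mk₂ k (fun f g : DD => ev1 f * φ g + φ f * ev1 g)
        (fun f f' g => by simp only [map_add]; ring)
        (fun c f g => by simp only [map_smul, smul_eq_mul]; ring)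
        (fun f g g' => by simp only [map_add]; ring)
        (fun c f g => by simp only [map_smul, smul_eq_mul]; ring) := by
    apply bilin_ext b
    intro i j
    rw [LinearMap.compr₂_apply, LinearMap.mul_apply', LinearMap.mk₂_apply, hbj, hbj, ← pow_add,
      hφpow, hφpow, hφpow, hev1, hev1, pow_apply_one d hd, pow_apply_one d hd]
    split_ifs <;> first | omega | simp
  refine ⟨x₀, ?_, ?_⟩
  · apply FinDual.isPrimitive_of_deriv
    intro f g
    have h1 := LinearMap.congr_fun (LinearMap.congr_fun hB f) g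
    rw [LinearMap.compr₂_apply, LinearMap.mul_apply', LinearMap.mk₂_apply, hev1, hev1, hx₀, hx₀,
      hx₀] at h1
    rw [h1]
  · have h1 := hx₀ (toConv d)
    rw [← pow_one (toConv d : DD), hφpow, if_pos rfl] at h1
    rw [pow_one] at h1
    exact h1.symm

/-- multiplicative case: if `d^p = d` there is a group-like element with `d g = 1` -/
theorem exists_groupLike (hA : Module.finrank k A = p) (d : A →ₗ[k] k) (hd : IsPointDer d)
    (x : A) (hx : counit (R := k) x = 0) (hdx : d x = 1)
    (hpd : (toConv d : DD) ^ p = toConv d) :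
    ∃ g : A, IsGroupLikeElem k g ∧ d g = 1 := by
  classical
  have hp : p.Prime := Fact.out
  obtain ⟨b, hb⟩ : ∃ b : Module.Basis (Fin p) k DD, b = basisD p hA d hd x hx hdx := ⟨_, rfl⟩
  have hbj : ∀ j : Fin p, b j = (toConv d : DD) ^ (j : ℕ) := fun j => by
    rw [hb, basisD_apply]
  obtain ⟨φ, hφ⟩ : ∃ φ : DD →ₗ[k] k, φ = ∑ j : Fin p, b.coord j := ⟨_, rfl⟩
  have hφpow : ∀ n : ℕ, φ ((toConv d : DD) ^ n) = 1 := by
    intro n
    induction n using Nat.strong_induction_on with
    | _ n ih =>
      rcases Nat.lt_or_ge n p with hn | hn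
      · have h1 : (toConv d : DD) ^ n = b ⟨n, hn⟩ := (hbj ⟨n, hn⟩).symm
        rw [h1, hφ, LinearMap.sum_apply]
        simp only [Module.Basis.coord_apply, Module.Basis.repr_self, Finsupp.single_apply]
        rw [Finset.sum_eq_single ⟨n, hn⟩]
        · simp
        · intro j _ hj
          rw [if_neg (Ne.symm hj)]
        · intro h
          exact absurd (Finset.mem_univ _) h
      · obtain ⟨m, rfl⟩ := Nat.exists_eq_add_of_le hn
        rw [pow_add, hpd, ← pow_succ']
        apply ih
        have := hp.two_le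
        omega
  obtain ⟨g, hg⟩ := FinDual.exists_ev_eq φ
  have hB : (LinearMap.mul k DD).compr₂ φ =
      LinearMap.mk₂ k (fun f g : DD => φ f * φ g)
        (fun f f' g => by simp only [map_add]; ring)
        (fun c f g => by simp only [map_smul, smul_eq_mul]; ring)
        (fun f g g' => by simp only [map_add]; ring)
        (fun c f g => by simp only [map_smul, smul_eq_mul]; ring) := by
    apply bilin_ext b
    intro i j
    rw [LinearMap.compr₂_apply, LinearMap.mul_apply', LinearMap.mk₂_apply, hbj, hbj, ← pow_add,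
      hφpow, hφpow, hφpow, mul_one]
  refine ⟨g, ?_, ?_⟩
  · apply FinDual.isGroupLikeElem_of_mul
    · have h1 := hg 1
      rw [← pow_zero (toConv d : DD), hφpow] at h1
      rw [pow_zero] at h1
      have h2 : (1 : DD).ofConv g = counit (R := k) g := by
        simp
      rw [← h2, ← h1]
    · intro f f'
      have h1 := LinearMap.congr_fun (LinearMap.congr_fun hB f) f'
      rw [LinearMap.compr₂_apply, LinearMap.mul_apply', LinearMap.mk₂_apply, hg, hg, hg] at h1
      exact h1
  · have h1 := hg (toConv d)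
    rw [← pow_one (toConv d : DD), hφpow] at h1
    rw [pow_one] at h1
    exact h1.symm

end Main

end Groth.Agent.H83.PrimeClassLocal
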