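import Groth.Agent.H83.PrimeClassIso

/-! Classification of the group schemes of prime order over an algebraically closed field of
characteristic `p`: assembly of the local and the constant case. -/

set_option autoImplicit false
universe u v

namespace Groth.Agent.H83.PrimeClassMain

open TensorProduct WithConv Coalgebra Groth.Agent.H83.PrimeClassLocal
  Groth.Agent.H83.PrimeClassIso Groth.Agent.H83.PrimeClassEtale

section Main

variable {k : Type u} [Field k] [IsAlgClosed k] {A : Type v} [CommRing A] [HopfAlgebra k A]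
  [Module.Finite k A]

local notation "DD" => WithConv (A →ₗ[k] k)

/-- the connected case: `μ_p` or `α_p` -/
theorem local_case (p : ℕ) [Fact p.Prime] [CharP k p] (hA : Module.finrank k A = p)
    (hnil : ∀ a : A, counit (R := k) a = 0 → IsNilpotent a) :
    Nonempty (A ≃ₐc[k] MonoidAlgebra k (Multiplicative (ZMod p))) ∨
      Nonempty (A ≃ₐc[k] AlphaP.A p k) := by
  have hp : p.Prime := Fact.out
  obtain ⟨d, x, hd, hx, hdx⟩ := exists_pointDer (k := k) (A := A)
    (by rw [hA]; exact hp.one_lt) hnil
  obtain ⟨c, hc⟩ : ∃ c : k, c = ((toConv d : DD) ^ p).ofConv x := ⟨_, rfl⟩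
  have hpow := pow_eq_smul p hA d hd x hx hdx
  rw [← hc] at hpow
  by_cases hc0 : c = 0
  · right
    rw [hc0, zero_smul] at hpow
    obtain ⟨x₀, hx₀, hdx₀⟩ := exists_primitive p hA d hd x hx hdx hpow
    exact nonempty_equiv_alphaP p hA hnil d hd x₀ hx₀ hdx₀
  · left
    have hp1 : 0 < p - 1 := by
      have := hp.two_le
      omega
    obtain ⟨lam, hlam⟩ := IsAlgClosed.exists_pow_nat_eq (c⁻¹) hp1
    have hlam0 : lam ≠ 0 := by
      rintro rfl
      rw [zero_pow hp1.ne'] at hlam
      exact inv_ne_zero hc0 hlam.symm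
    have hd₁ : IsPointDer (lam • d) := hd.smul lam
    have hx₁ : counit (R := k) (lam⁻¹ • x) = 0 := by rw [map_smul, hx, smul_zero]
    have hdx₁ : (lam • d) (lam⁻¹ • x) = 1 := by
      rw [LinearMap.smul_apply, map_smul, hdx, smul_eq_mul, smul_eq_mul, mul_one,
        mul_inv_cancel₀ hlam0]
    have hpd : (toConv (lam • d) : DD) ^ p = toConv (lam • d) := by
      have h1 : (toConv (lam • d) : DD) = lam • (toConv d : DD) := rfl
      rw [h1, smul_pow, hpow, smul_smul]
      congr 1
      have h2 : lam ^ p = lam ^ (p - 1) * lam := by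
        rw [← pow_succ]
        congr 1
        omega
      rw [h2, hlam, mul_comm (c⁻¹), mul_assoc, inv_mul_cancel₀ hc0, mul_one]
    obtain ⟨g, hg, hdg⟩ := exists_groupLike p hA (lam • d) hd₁ (lam⁻¹ • x) hx₁ hdx₁ hpd
    exact nonempty_equiv_mu p hA hnil (lam • d) hd₁ g hg hdg

omit [IsAlgClosed k] in
/-- the étale case: the constant group `ℤ/ℓ` -/
theorem etale_case (ℓ : ℕ) [Fact ℓ.Prime] (hA : Module.finrank k A = ℓ)
    (hcard : Nat.card (A →ₐ[k] k) = ℓ) :
    Nonempty (A ≃ₐc[k] ConstGrp.F k (Multiplicative (ZMod ℓ))) := by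
  have hc : Nat.card (WithConv (A →ₐ[k] k)) = ℓ := by
    rw [← hcard]
    exact Nat.card_congr (WithConv.equiv _)
  have hcyc : IsCyclic (WithConv (A →ₐ[k] k)) := isCyclic_of_prime_card hc
  have e : Multiplicative (ZMod ℓ) ≃* WithConv (A →ₐ[k] k) := hc ▸ zmodCyclicMulEquiv hcyc
  apply nonempty_bialgEquiv e
  rw [Fintype.card_multiplicative, ZMod.card, hA]

end Main

section Classify

variable (k : Type u) [Field k] [IsAlgClosed k] (A : Type v) [CommRing A] [HopfAlgebra k A]

/-- the group schemes of prime order over an algebraically closed field -/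
theorem classify (p : ℕ) [Fact p.Prime] [CharP k p] (ℓ : ℕ) [Fact ℓ.Prime]
    (hA : Module.finrank k A = ℓ) :
    (ℓ ≠ p → Nonempty (A ≃ₐc[k] ConstGrp.F k (Multiplicative (ZMod ℓ)))) ∧
      (ℓ = p → Nonempty (A ≃ₐc[k] ConstGrp.F k (Multiplicative (ZMod p))) ∨
        Nonempty (A ≃ₐc[k] MonoidAlgebra k (Multiplicative (ZMod p))) ∨
        Nonempty (A ≃ₐc[k] AlphaP.A p k)) := by
  have hℓ : ℓ.Prime := Fact.out
  have hfin : Module.Finite k A := Module.finite_of_finrank_pos (by rw [hA]; exact hℓ.pos)
  have hart : IsArtinianRing A := IsArtinianRing.of_finite k A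
  obtain ⟨N, hN, hst⟩ := KillOrder.exists_stable (RingHom.ker (Bialgebra.counitAlgHom k A))
  have hbot := KillOrder.iInf_ker_pow_eq_bot N hst
  have hn := KillOrder.finrank_eq_card_mul N hbot
  have hdvd : Nat.card (A →ₐ[k] k) ∣ ℓ := ⟨_, by rw [← hA]; exact hn⟩
  rcases (Nat.dvd_prime hℓ).1 hdvd with h1 | hcard
  · -- the connected case
    have hall : ∀ f : A →ₐ[k] k, f = Bialgebra.counitAlgHom k A := by
      have hsub : Subsingleton (A →ₐ[k] k) := (Nat.card_eq_one_iff_unique.1 h1).1
      intro f
      exact Subsingleton.elim _ _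
    have hnil : ∀ a : A, counit (R := k) a = 0 → IsNilpotent a := by
      intro a ha
      rw [← mem_nilradical, ← Groth.Agent.H86.forall_algHom_eq_zero_iff k A]
      intro f
      rw [hall f]
      exact ha
    have hnt : Nontrivial A := by
      refine ⟨⟨1, 0, fun h => ?_⟩⟩
      have := congrArg (counit (R := k)) h
      simp at this
    have hloc : IsLocalRing A := HeightOneDim.isLocalRing_of_nil hnil
    obtain ⟨r, hr⟩ := Groth.Agent.S7950.result k A
    rw [ringExpChar.eq k p, hA] at hr
    have hr0 : r ≠ 0 := by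
      rintro rfl
      rw [pow_zero] at hr
      exact absurd hr hℓ.one_lt.ne'
    have hp : p.Prime := Fact.out
    have hpl : p = ℓ := by
      have : p ∣ ℓ := hr ▸ dvd_pow_self p hr0
      exact (Nat.prime_dvd_prime_iff_eq hp hℓ).1 this
    subst hpl
    refine ⟨fun h => absurd rfl h, fun _ => Or.inr ?_⟩
    exact local_case p hA hnil
  · -- the constant case
    have hE := etale_case (k := k) (A := A) ℓ hA hcard
    refine ⟨fun _ => hE, fun h => Or.inl ?_⟩
    subst h
    exact hE

end Classify

end Groth.Agent.H83.PrimeClassMain
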