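import Groth.Agent.H93.DualMod
import Mathlib

/-! Comodules over a projective coalgebra over a commutative ring: the smallest subcomodule
containing a submodule. -/

set_option autoImplicit false
universe u v w

namespace Groth.Agent.H83

open TensorProduct HopfRep WithConv Groth.Agent.H93

section Expand

variable {A : Type u} [CommRing A] {C : Type v} [AddCommGroup C] [Module A C]
  {V : Type w} [AddCommGroup V] [Module A V]

open Classical in
/-- expansion of a tensor along a dual system of `C` -/
noncomputable def expand (s : C →ₗ[A] C →₀ A) : V ⊗[A] C →ₗ[A] (C →₀ V) :=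
  (TensorProduct.finsuppScalarRight A A V C).toLinearMap ∘ₗ s.lTensor V

/-- `f ↦ Σ f(i) ⊗ i` -/
noncomputable def collapse : (C →₀ V) →ₗ[A] V ⊗[A] C :=
  Finsupp.lsum A (fun i => (TensorProduct.mk A V C).flip i)

theorem collapse_apply (f : C →₀ V) :
    collapse (A := A) f = f.sum fun i v => v ⊗ₜ[A] i := by
  simp only [collapse, Finsupp.lsum_apply]
  rfl

open Classical in
theorem collapse_expand (s : C →ₗ[A] C →₀ A)
    (hs : Finsupp.linearCombination A id ∘ₗ s = LinearMap.id) (x : V ⊗[A] C) :
    collapse (A := A) (expand (V := V) s x) = x := by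
  induction x with
  | zero => simp
  | tmul v d =>
    unfold expand
    rw [LinearMap.comp_apply, LinearMap.lTensor_tmul, LinearEquiv.coe_coe,
      TensorProduct.finsuppScalarRight_apply_tmul (R := A) (S := A) (M := V), collapse_apply]
    rw [Finsupp.sum_sum_index]
    · have h1 : ∀ (i : C) (c : A), (Finsupp.single i (c • v)).sum (fun i v => v ⊗ₜ[A] i) =
          v ⊗ₜ[A] (c • i) := by
        intro i c
        rw [Finsupp.sum_single_index, TensorProduct.smul_tmul]
        simp
      simp only [h1]
      have h2 := LinearMap.congr_fun hs d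
      simp only [LinearMap.comp_apply, LinearMap.id_apply, Finsupp.linearCombination_apply,
        id_eq] at h2
      conv_rhs => rw [← h2]
      rw [Finsupp.sum, Finsupp.sum, TensorProduct.tmul_sum]
    · intro i; simp
    · intro i v₁ v₂; simp [TensorProduct.add_tmul]
  | add x y hx hy => rw [map_add, map_add, hx, hy]

open Classical in
theorem expand_apply (s : C →ₗ[A] C →₀ A) (x : V ⊗[A] C) (i : C) :
    expand (V := V) s x i = slice V (Finsupp.lapply i ∘ₗ s) x := by
  induction x with
  | zero => simp
  | tmul v d =>
    unfold expand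
    rw [LinearMap.comp_apply, LinearMap.lTensor_tmul, LinearEquiv.coe_coe,
      TensorProduct.finsuppScalarRight_apply_tmul_apply (R := A) (S := A) (M := V), slice_tmul]
    rfl
  | add x y hx hy => rw [map_add, map_add, Finsupp.add_apply, hx, hy]

/-- membership in `U ⊗ C` can be tested on slices when `C` is projective -/
theorem mem_range_rTensor_subtype_of_slice [Module.Projective A C] (U : Submodule A V)
    (x : V ⊗[A] C) (h : ∀ ψ : C →ₗ[A] A, slice V ψ x ∈ U) :
    x ∈ LinearMap.range (U.subtype.rTensor C) := by
  obtain ⟨s, hs⟩ := Module.projective_def'.mp (inferInstance : Module.Projective A C)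
  rw [← collapse_expand s hs x, collapse_apply]
  apply Submodule.sum_mem
  intro i _
  refine ⟨(⟨expand (V := V) s x i, ?_⟩ : U) ⊗ₜ[A] i, ?_⟩
  · rw [expand_apply]
    exact h _
  · rw [LinearMap.rTensor_tmul]
    rfl

end Expand

section Smallest

variable {A : Type u} [CommRing A] {C : Type v} [AddCommGroup C] [Module A C] [Coalgebra A C]
  {V : Type w} [AddCommGroup V] [Module A V] [Comod A C V]

theorem isSubcomod_of_dualAct [Module.Projective A C] (U : Submodule A V)
    (h : ∀ (ψ : C →ₗ[A] A) (v : V), v ∈ U → dualAct V ψ v ∈ U) :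
    IsSubcomod (k := A) (A := C) U := by
  intro v hv
  apply mem_range_rTensor_subtype_of_slice
  intro ψ
  exact h ψ v hv

/-- the submodule generated by all `T_ψ m`, `m ∈ M` -/
noncomputable def comodSpan (M : Submodule A V) : Submodule A V :=
  ⨆ ψ : C →ₗ[A] A, M.map (dualAct V ψ)

theorem dualAct_mem_comodSpan (M : Submodule A V) (ψ : C →ₗ[A] A) {m : V} (hm : m ∈ M) :
    dualAct V ψ m ∈ comodSpan (C := C) M :=
  Submodule.mem_iSup_of_mem ψ (Submodule.mem_map_of_mem hm)

theorem le_comodSpan (M : Submodule A V) : M ≤ comodSpan (C := C) M := by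
  intro m hm
  have := dualAct_mem_comodSpan (C := C) M (Coalgebra.counit (R := A) (A := C)) hm
  rw [dualAct_counit] at this
  exact this

theorem comodSpan_le (M W' : Submodule A V) (hW' : IsSubcomod (k := A) (A := C) W')
    (hM : M ≤ W') : comodSpan (C := C) M ≤ W' := by
  apply iSup_le
  intro ψ
  rw [Submodule.map_le_iff_le_comap]
  intro m hm
  exact dualAct_mem_of_isSubcomod hW' ψ (hM hm)

theorem isSubcomod_comodSpan [Module.Projective A C] (M : Submodule A V) :
    IsSubcomod (k := A) (A := C) (comodSpan (C := C) M) := by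
  apply isSubcomod_of_dualAct
  intro φ v hv
  unfold comodSpan at hv
  induction hv using Submodule.iSup_induction' with
  | mem ψ x hx =>
    obtain ⟨m, hm, rfl⟩ := hx
    have h1 := dualAct_mul (V := V) (toConv φ) (toConv ψ)
    have h2 := LinearMap.congr_fun h1 m
    rw [LinearMap.comp_apply] at h2
    change dualAct V φ (dualAct V ψ m) ∈ _
    rw [← h2]
    exact dualAct_mem_comodSpan M _ hm
  | zero => rw [map_zero]; exact Submodule.zero_mem _
  | add x y _ _ hx hy => rw [map_add]; exact Submodule.add_mem _ hx hy

theorem comodSpan_fg [Module.Projective A C] (M : Submodule A V) (hM : M.FG) :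
    (comodSpan (C := C) M).FG := by
  classical
  obtain ⟨s, hs⟩ := Module.projective_def'.mp (inferInstance : Module.Projective A C)
  obtain ⟨t, ht⟩ := hM
  let F : V → Finset C := fun m => (expand (V := V) s (Comod.coact (k := A) (A := C) m)).support
  let G : Finset V := t.biUnion fun m => (F m).image fun i =>
    dualAct V (Finsupp.lapply i ∘ₗ s) m
  refine ⟨G, ?_⟩
  apply le_antisymm
  · rw [Submodule.span_le]
    intro g hg
    obtain ⟨m, hm, hg⟩ := Finset.mem_biUnion.mp hg
    obtain ⟨i, _, rfl⟩ := Finset.mem_image.mp hg
    apply dualAct_mem_comodSpan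
    rw [← ht]
    exact Submodule.subset_span hm
  · apply iSup_le
    intro ψ
    rw [Submodule.map_le_iff_le_comap, ← ht, Submodule.span_le]
    intro m hm
    change dualAct V ψ m ∈ Submodule.span A (G : Set V)
    rw [dualAct_apply, ← collapse_expand s hs (Comod.coact (k := A) (A := C) m), collapse_apply,
      Finsupp.sum, map_sum]
    apply Submodule.sum_mem
    intro i hi
    rw [slice_tmul, expand_apply]
    apply Submodule.smul_mem
    apply Submodule.subset_span
    apply Finset.mem_biUnion.mpr
    refine ⟨m, hm, Finset.mem_image.mpr ⟨i, hi, ?_⟩⟩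
    rw [dualAct_apply]

end Smallest

end Groth.Agent.H83
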