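import Groth.Agent.S11793
import Groth.Prelude.Def_GLin

set_option autoImplicit false
universe u
open TensorProduct

namespace Groth.Agent.H83.RelHilbert

open HopfRep Groth.Agent.H62 Groth.Agent.H59.LinRed Polynomial Groth.Agent.S11793

section Rees

variable {k : Type u} [Field k] {A : Type u} [CommRing A] [Algebra k A]
  {C : Type u} [CommRing C] [Algebra k C] [Algebra A C] [IsScalarTower k A C]

variable (k A C) in
/-- the image of `A` in `C` as a `k`-submodule -/
def Abar : Submodule k C := LinearMap.range (IsScalarTower.toAlgHom k A C).toLinearMap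

lemma mem_Abar (x : C) : x ∈ Abar k A C ↔ ∃ a : A, algebraMap A C a = x := by
  unfold Abar
  rw [LinearMap.mem_range]
  rfl

lemma algebraMap_mem_Abar (a : A) : algebraMap A C a ∈ Abar k A C := (mem_Abar _).mpr ⟨a, rfl⟩

lemma one_mem_Abar : (1 : C) ∈ Abar k A C := (mem_Abar _).mpr ⟨1, map_one _⟩

lemma Abar_mul_Abar : Abar k A C * Abar k A C ≤ Abar k A C := by
  rw [Submodule.mul_le]
  intro x hx y hy
  obtain ⟨a, rfl⟩ := (mem_Abar _).mp hx
  obtain ⟨b, rfl⟩ := (mem_Abar _).mp hy
  rw [← map_mul]
  exact algebraMap_mem_Abar _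

variable (k A) in
/-- the filtration `Abar * V ^ d` -/
def Wf (V : Submodule k C) (d : ℕ) : Submodule k C := Abar k A C * V ^ d

lemma Wf_zero (V : Submodule k C) : Wf k A V 0 = Abar k A C := by
  unfold Wf
  rw [pow_zero, mul_one]

lemma Wf_mul_le (V : Submodule k C) (d e : ℕ) : Wf k A V d * Wf k A V e ≤ Wf k A V (d + e) := by
  unfold Wf
  calc Abar k A C * V ^ d * (Abar k A C * V ^ e)
      = (Abar k A C * Abar k A C) * (V ^ d * V ^ e) := by
        rw [mul_mul_mul_comm]
    _ ≤ Abar k A C * (V ^ d * V ^ e) := mul_le_mul' Abar_mul_Abar le_rfl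
    _ = Abar k A C * V ^ (d + e) := by rw [pow_add]

lemma pow_le_Wf (V : Submodule k C) (d : ℕ) : V ^ d ≤ Wf k A V d := by
  unfold Wf
  calc V ^ d = 1 * V ^ d := (one_mul _).symm
    _ ≤ Abar k A C * V ^ d := mul_le_mul' (Submodule.one_le.mpr one_mem_Abar) le_rfl

lemma Wf_mono (V : Submodule k C) (h1 : (1 : C) ∈ V) : Monotone (Wf k A V) := by
  intro d e hde
  unfold Wf
  exact mul_le_mul' le_rfl (pow_mono_of_one_mem V h1 hde)

/-- coefficients of elements of the relative Rees-type algebra -/
lemma coeff_mem_Wf (V : Submodule k C) (t : Set C) (ht : t ⊆ V) (p : C[X])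
    (hp : p ∈ Algebra.adjoin A ((fun v => monomial 1 v) '' t)) (d : ℕ) :
    coeff p d ∈ Wf k A V d := by
  induction hp using Algebra.adjoin_induction generalizing d with
  | mem x hx =>
    obtain ⟨v, hv, rfl⟩ := hx
    rw [coeff_monomial]
    split_ifs with h
    · subst h
      apply pow_le_Wf (A := A)
      rw [pow_one]; exact ht hv
    · exact Submodule.zero_mem _
  | algebraMap c =>
    rw [Polynomial.algebraMap_apply, coeff_C]
    split_ifs with h
    · subst h; rw [Wf_zero]; exact algebraMap_mem_Abar c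
    · exact Submodule.zero_mem _
  | add x y _ _ hx hy => rw [coeff_add]; exact Submodule.add_mem _ (hx d) (hy d)
  | mul x y _ _ hx hy =>
    rw [coeff_mul]
    refine Submodule.sum_mem _ fun ij hij => ?_
    rw [← Finset.mem_antidiagonal.mp hij]
    exact Wf_mul_le V _ _ (Submodule.mul_mem_mul (hx _) (hy _))

lemma adjoin_le_adjoin (S : Set C[X]) (p : C[X]) (hp : p ∈ Algebra.adjoin k S) :
    p ∈ Algebra.adjoin A S := by
  have : Algebra.adjoin k S ≤ (Algebra.adjoin A S).restrictScalars k :=
    Algebra.adjoin_le (fun x hx => Algebra.subset_adjoin (R := A) hx)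
  exact this hp

/-- monomials with coefficient in `Abar * V ^ d` lie in the relative Rees-type algebra -/
lemma monomial_mem_of_mem_Wf (t : Set C) (d : ℕ) (h : C)
    (hh : h ∈ Wf k A (Submodule.span k t) d) :
    monomial d h ∈ Algebra.adjoin A ((fun v => monomial 1 v) '' t) := by
  unfold Wf at hh
  induction hh using Submodule.mul_induction_on' with
  | mem_mul_mem a ha w hw =>
    obtain ⟨a, rfl⟩ := (mem_Abar _).mp ha
    have h1 : monomial d w ∈ Algebra.adjoin A ((fun v => monomial 1 v) '' t) :=
      adjoin_le_adjoin _ _ (monomial_mem t d w hw)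
    have h2 : monomial d (algebraMap A C a * w) = a • monomial d w := by
      rw [Polynomial.smul_monomial, Algebra.smul_def]
    rw [h2]
    exact Subalgebra.smul_mem _ h1 a
  | add x _ y _ hx hy => rw [map_add]; exact Subalgebra.add_mem _ hx hy

/-- the relative Rees-type algebra of a finitely generated subspace -/
lemma exists_rees' [IsNoetherianRing A] (t : Finset C) :
    ∃ R' : Subalgebra A C[X], IsNoetherianRing R' ∧
      (∀ p ∈ R', ∀ d, coeff p d ∈ Wf k A (Submodule.span k (t : Set C)) d) ∧
      (∀ d, ∀ h ∈ Wf k A (Submodule.span k (t : Set C)) d, monomial d h ∈ R') := by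
  classical
  refine ⟨Algebra.adjoin A ((fun v => monomial 1 v) '' (t : Set C)), ?_,
    fun p hp d => coeff_mem_Wf _ (t : Set C) Submodule.subset_span p hp d,
    fun d h hh => monomial_mem_of_mem_Wf (t : Set C) d h hh⟩
  have hfg : (Algebra.adjoin A ((fun v => monomial 1 v) '' (t : Set C)) : Subalgebra A C[X]).FG := by
    have : ((fun v => monomial 1 v) '' (t : Set C) : Set C[X]) =
        ((t.image fun v => (monomial 1 v : C[X]) : Finset C[X]) : Set C[X]) := by
      rw [Finset.coe_image]
    rw [this]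
    exact Subalgebra.fg_adjoin_finset _
  have : Algebra.FiniteType A
      (Algebra.adjoin A ((fun v => monomial 1 v) '' (t : Set C)) : Subalgebra A C[X]) :=
    (Subalgebra.fg_iff_finiteType _).mp hfg
  exact Algebra.FiniteType.isNoetherianRing A _

end Rees

section Main

variable {k : Type u} [Field k] {H : Type u} [CommRing H] [Bialgebra k H]
variable {A : Type u} [CommRing A] [Algebra k A]
variable {R : Type u} [CommRing R] [Algebra k R] [HopfRep.Comod k H R] [Algebra A R]

theorem main_aux' (hG : HopfRep.IsLinearlyReductive k H)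
    (hmul : ∀ f g : R, HopfRep.Comod.coact (k := k) (A := H) (f * g) =
      HopfRep.Comod.coact (k := k) (A := H) f * HopfRep.Comod.coact (k := k) (A := H) g)
    (W : ℕ → Submodule k R) (hWsub : ∀ d, IsSubcomod (k := k) (A := H) (W d))
    (R' : Subalgebra A R[X]) (hnoeth : IsNoetherianRing R')
    (hcoeff : ∀ p ∈ R', ∀ d, coeff p d ∈ W d)
    (hmon : ∀ d, ∀ h ∈ W d, monomial d h ∈ R')
    (B : Set R) (hbase : ∀ h ∈ W 0, h ∈ fixedPts k H R → h ∈ Algebra.adjoin k B) :
    ∃ s : Finset R, (∀ f ∈ s, f ∈ HopfRep.fixedPts k H R) ∧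
      ∀ d, ∀ h ∈ W d, h ∈ fixedPts k H R → h ∈ Algebra.adjoin k (B ∪ (s : Set R)) := by
  classical
  -- the ideal generated by invariant monomials of positive degree
  let G : Set R' := {x | ∃ d : ℕ, ∃ f : R, 1 ≤ d ∧ f ∈ W d ∧ f ∈ fixedPts k H R ∧
    (x : R[X]) = monomial d f}
  have hJfg : (Ideal.span G).FG := (isNoetherianRing_iff_ideal_fg R').mp inferInstance _
  obtain ⟨T, hTG, hTspan⟩ := (Submodule.fg_span_iff_fg_span_finset_subset G).mp hJfg
  have hT' : ∀ x : R', ∃ d : ℕ, ∃ f : R, x ∈ T → 1 ≤ d ∧ f ∈ W d ∧ f ∈ fixedPts k H R ∧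
      (x : R[X]) = monomial d f := by
    intro x
    by_cases hx : x ∈ T
    · obtain ⟨d, f, h⟩ := hTG hx
      exact ⟨d, f, fun _ => h⟩
    · exact ⟨0, 0, fun h => absurd h hx⟩
  choose dT fT0 hT'' using hT'
  -- make all `fT x` invariant
  let fT : R' → R := fun x => if x ∈ T then fT0 x else 0
  have hfT : ∀ x ∈ T, fT x = fT0 x := fun x hx => if_pos hx
  have hffix : ∀ x, fT x ∈ fixedPts k H R := by
    intro x
    simp only [fT]
    split_ifs with hx
    · exact (hT'' x hx).2.2.1
    · exact Submodule.zero_mem _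
  have hd : ∀ x ∈ T, 1 ≤ dT x := fun x hx => (hT'' x hx).1
  have hxT : ∀ x ∈ T, (x : R[X]) = monomial (dT x) (fT x) := fun x hx => by
    rw [hfT x hx]; exact (hT'' x hx).2.2.2
  refine ⟨T.image fT, ?_, ?_⟩
  · intro f hf
    obtain ⟨x, hx, rfl⟩ := Finset.mem_image.mp hf
    exact hffix x
  -- main induction
  intro d
  induction d using Nat.strong_induction_on with
  | _ d ih =>
    intro h hhV hhfix
    rcases Nat.eq_zero_or_pos d with rfl | hdpos
    · exact Algebra.adjoin_mono Set.subset_union_left (hbase h hhV hhfix)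
    · let xh : R' := ⟨monomial d h, hmon d h hhV⟩
      have hxhG : xh ∈ G := ⟨d, h, hdpos, hhV, hhfix, rfl⟩
      have hxhJ : xh ∈ Submodule.span R' (T : Set R') := by
        have : xh ∈ Ideal.span G := Ideal.subset_span hxhG
        rw [Ideal.span, hTspan] at this
        exact this
      obtain ⟨c, -, hc⟩ := Submodule.mem_span_finset.mp hxhJ
      -- take coefficients
      have hc' : (monomial d h : R[X]) = ∑ x ∈ T, (c x : R[X]) * monomial (dT x) (fT x) := by
        have h0 : (monomial d h : R[X]) = ((∑ a ∈ T, c a • a : R') : R[X]) :=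
          (congrArg Subtype.val hc).symm
        rw [h0, AddSubmonoidClass.coe_finsetSum]
        refine Finset.sum_congr rfl fun x hx => ?_
        rw [smul_eq_mul, MulMemClass.coe_mul, hxT x hx]
      let r : R' → R := fun x => if dT x ≤ d then coeff (c x : R[X]) (d - dT x) else 0
      have hsum : h = 0 + ∑ x ∈ T, fT x * r x := by
        have := congrArg (fun p => coeff p d) hc'
        simp only [coeff_monomial, if_true, finsetSum_coeff, coeff_mul_monomial_ite] at this
        rw [zero_add, this]
        refine Finset.sum_congr rfl fun x _ => ?_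
        simp only [r]
        split_ifs <;> ring
      have hr : ∀ x ∈ T, r x ∈ W (d - dT x) := by
        intro x _
        simp only [r]
        split_ifs
        · exact hcoeff _ (c x).2 _
        · exact Submodule.zero_mem _
      have hbot : IsSubcomod (k := k) (A := H) (⊥ : Submodule k R) := by
        intro w hw
        rw [(Submodule.mem_bot k).mp hw, map_zero]
        exact Submodule.zero_mem _
      obtain ⟨j', hj', r', hr', e⟩ := finite_sum_invariants hG hmul T
        (fun x => W (d - dT x)) (fun x => hWsub _) fT hffix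
        ⊥ hbot h hhfix 0 (Submodule.zero_mem _) r hr hsum
      have hj0 : j' = 0 := (Submodule.mem_bot k).mp hj'.1
      rw [e, hj0, zero_add]
      refine Subalgebra.sum_mem _ fun x hx => ?_
      refine Subalgebra.mul_mem _ (Algebra.subset_adjoin (Set.mem_union_right _
        (Finset.mem_coe.mpr (Finset.mem_image_of_mem fT hx)))) ?_
      have hlt : d - dT x < d := Nat.sub_lt hdpos (hd x hx)
      exact ih _ hlt _ (hr' x hx).1 (hr' x hx).2

end Main

section Final

variable (k : Type u) [Field k] (H : Type u) [CommRing H] [HopfAlgebra k H]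
variable (A : Type u) [CommRing A] [Algebra k A] [IsNoetherianRing A]
  [HopfRep.Comod k H A] [GLin.IsCoactAlg k H A]
variable (C : Type u) [CommRing C] [Algebra k C] [HopfRep.Comod k H C] [GLin.IsCoactAlg k H C]
  [Algebra A C] [IsScalarTower k A C] [Algebra.FiniteType A C]

theorem relHilbert (hG : HopfRep.IsLinearlyReductive k H)
    (hAC : Hoch.IsComodHom H (IsScalarTower.toAlgHom k A C).toLinearMap) :
    ∃ s : Finset C, GLin.invariants k H C =
      Algebra.adjoin k (⇑(algebraMap A C) '' ↑(GLin.invariants k H A) ∪ ↑s) := by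
  classical
  have hmul : ∀ f g : C, HopfRep.Comod.coact (k := k) (A := H) (f * g) =
      HopfRep.Comod.coact (k := k) (A := H) f * HopfRep.Comod.coact (k := k) (A := H) g :=
    GLin.IsCoactAlg.coact_mul
  have hone : HopfRep.Comod.coact (k := k) (A := H) (1 : C) = 1 := GLin.IsCoactAlg.coact_one
  set φ : A →ₗ[k] C := (IsScalarTower.toAlgHom k A C).toLinearMap with hφ
  have hφapp : ∀ a : A, φ a = algebraMap A C a := fun a => rfl
  -- `Abar` is a subcomodule
  have hAbar : IsSubcomod (k := k) (A := H) (Abar k A C) := by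
    have := isSubcomod_map φ hAC ⊤ (isSubcomod_top (k := k) (A := H))
    rwa [Submodule.map_top] at this
  -- Step 1: a finite-dimensional subcomodule `V` containing `1` and algebra generators
  obtain ⟨s₀, hs₀⟩ := (Algebra.FiniteType.out : (⊤ : Subalgebra A C).FG)
  have hex : ∀ x : C, ∃ V0 : Submodule k C, IsSubcomod (k := k) (A := H) V0 ∧
      FiniteDimensional k V0 ∧ x ∈ V0 := fun x => exists_finite_subcomod (k := k) (A := H) x
  choose Vx hVx_sub hVx_fin hVx_mem using hex
  obtain ⟨V, hVdef⟩ : ∃ V : Submodule k C, V = (insert 1 s₀).sup Vx := ⟨_, rfl⟩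
  have hVsub : IsSubcomod (k := k) (A := H) V := by
    rw [hVdef]; exact isSubcomod_finset_sup _ _ (fun i _ => hVx_sub i)
  have hVfin : Module.Finite k V := by
    rw [hVdef]; exact Submodule.finite_finset_sup _ _
  have hle : ∀ x ∈ insert 1 s₀, Vx x ≤ V := fun x hx => by
    rw [hVdef]; exact Finset.le_sup (f := Vx) hx
  have h1V : (1 : C) ∈ V := hle 1 (Finset.mem_insert_self _ _) (hVx_mem 1)
  have hsV : ∀ x ∈ s₀, x ∈ V := fun x hx => hle x (Finset.mem_insert_of_mem hx) (hVx_mem x)
  have hVpow : ∀ d, IsSubcomod (k := k) (A := H) (V ^ d) := isSubcomod_pow hmul hone V hVsub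
  have hWsub : ∀ d, IsSubcomod (k := k) (A := H) (Wf k A V d) := fun d =>
    isSubcomod_mul hmul _ _ hAbar (hVpow d)
  have hmono := Wf_mono (k := k) (A := A) V h1V
  -- every element lies in some `W d`
  have hcover : ∀ x : C, ∃ d, x ∈ Wf k A V d := by
    intro x
    have hx : x ∈ Algebra.adjoin A (s₀ : Set C) := by rw [hs₀]; trivial
    induction hx using Algebra.adjoin_induction with
    | mem x hx => exact ⟨1, pow_le_Wf V 1 (by rw [pow_one]; exact hsV x hx)⟩
    | algebraMap c => exact ⟨0, by rw [Wf_zero]; exact algebraMap_mem_Abar c⟩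
    | add x y _ _ hx hy =>
      obtain ⟨d, hd⟩ := hx
      obtain ⟨e, he⟩ := hy
      exact ⟨max d e, Submodule.add_mem _ (hmono (le_max_left d e) hd) (hmono (le_max_right d e) he)⟩
    | mul x y _ _ hx hy =>
      obtain ⟨d, hd⟩ := hx
      obtain ⟨e, he⟩ := hy
      exact ⟨d + e, Wf_mul_le V d e (Submodule.mul_mem_mul hd he)⟩
  -- a finite spanning set of V
  obtain ⟨t, ht⟩ : ∃ t : Finset C, Submodule.span k (t : Set C) = V :=
    (Module.Finite.iff_fg.mp hVfin)
  obtain ⟨R', hnoeth, hcoeff, hmon⟩ := exists_rees' (k := k) (A := A) t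
  rw [ht] at hcoeff hmon
  -- base case
  have hbase : ∀ h ∈ Wf k A V 0, h ∈ fixedPts k H C →
      h ∈ Algebra.adjoin k (⇑(algebraMap A C) '' ↑(GLin.invariants k H A)) := by
    intro h hh hfix
    rw [Wf_zero] at hh
    obtain ⟨a, rfl⟩ := (mem_Abar _).mp hh
    obtain ⟨a', ha', e⟩ := exists_fixed_preimage hG A C φ hAC a hfix
    rw [hφapp, hφapp] at e
    rw [← e]
    exact Algebra.subset_adjoin ⟨a', ha', rfl⟩
  obtain ⟨s, hs1, hs2⟩ := main_aux' hG hmul (Wf k A V) hWsub R' hnoeth hcoeff hmon _ hbase
  refine ⟨s, le_antisymm ?_ ?_⟩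
  · intro f hf
    obtain ⟨d, hd'⟩ := hcover f
    exact hs2 d f hd' hf
  · apply Algebra.adjoin_le
    rintro x (⟨a, ha, rfl⟩ | hx)
    · exact map_fixedPts φ hAC a ha
    · exact hs1 x hx

end Final

end Groth.Agent.H83.RelHilbert
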