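import Groth.Agent.H93.ReynoldsAlg
import Groth.Agent.H62.Comod
import Groth.Prelude.Def_GLin
import Mathlib.RingTheory.FiniteType
import Mathlib.RingTheory.Polynomial.Basic
import Mathlib.LinearAlgebra.Finsupp.LinearCombination
import Mathlib.RingTheory.Finiteness.Basic
import Mathlib.Algebra.Polynomial.Coeff
import Mathlib.Algebra.Algebra.Operations

/-! Universe-polymorphic version of the relative finiteness theorem for invariants of a linearly
reductive group, through the Reynolds operator attached to a normalised integral. -/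

set_option autoImplicit false
universe u v w w'
open TensorProduct

namespace Groth.Agent.H83.RelHilbertPoly

open HopfRep Groth.Agent.H62 Polynomial

section General

variable {k : Type u} [Field k] {A : Type v} [CommRing A] [Bialgebra k A]

/-- comodule maps preserve fixed vectors -/
lemma map_fixedPts {V : Type w} [AddCommGroup V] [Module k V] [HopfRep.Comod k A V]
    {W : Type w'} [AddCommGroup W] [Module k W] [HopfRep.Comod k A W]
    (f : V →ₗ[k] W) (hf : Hoch.IsComodHom A f) (v : V) (hv : v ∈ fixedPts k A V) :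
    f v ∈ fixedPts k A W := by
  change Comod.coact (k := k) (A := A) (f v) = f v ⊗ₜ[k] (1 : A)
  have h := LinearMap.congr_fun hf v
  simp only [LinearMap.comp_apply] at h
  have hv' : Comod.coact (k := k) (A := A) v = v ⊗ₜ[k] (1 : A) := hv
  rw [h, hv', LinearMap.rTensor_tmul]

lemma isSubcomod_top {V : Type w} [AddCommGroup V] [Module k V] [HopfRep.Comod k A V] :
    IsSubcomod (k := k) (A := A) (⊤ : Submodule k V) := by
  intro w _
  have hs : Function.Surjective ((⊤ : Submodule k V).subtype.rTensor A) := by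
    apply LinearMap.rTensor_surjective
    intro v
    exact ⟨⟨v, trivial⟩, rfl⟩
  exact LinearMap.range_eq_top.mpr hs ▸ Submodule.mem_top

lemma range_rTensor_mono {V : Type w} [AddCommGroup V] [Module k V]
    {M N : Submodule k V} (h : M ≤ N) :
    LinearMap.range (M.subtype.rTensor A) ≤ LinearMap.range (N.subtype.rTensor A) := by
  rintro _ ⟨y, rfl⟩
  refine ⟨(Submodule.inclusion h).rTensor A y, ?_⟩
  rw [← LinearMap.comp_apply, ← LinearMap.rTensor_comp]
  rfl

lemma isSubcomod_sup {V : Type w} [AddCommGroup V] [Module k V] [HopfRep.Comod k A V]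
    (M N : Submodule k V) (hM : IsSubcomod (k := k) (A := A) M)
    (hN : IsSubcomod (k := k) (A := A) N) : IsSubcomod (k := k) (A := A) (M ⊔ N) := by
  intro w hw
  obtain ⟨m, hm, n, hn, rfl⟩ := Submodule.mem_sup.mp hw
  rw [map_add]
  exact Submodule.add_mem _ (range_rTensor_mono le_sup_left (hM m hm))
    (range_rTensor_mono le_sup_right (hN n hn))

lemma isSubcomod_finset_sup {V : Type w} [AddCommGroup V] [Module k V] [HopfRep.Comod k A V]
    {ι : Type*} (T : Finset ι) (M : ι → Submodule k V)
    (hM : ∀ i ∈ T, IsSubcomod (k := k) (A := A) (M i)) :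
    IsSubcomod (k := k) (A := A) (T.sup M) := by
  classical
  induction T using Finset.induction_on with
  | empty =>
    intro w hw
    simp only [Finset.sup_empty, Submodule.mem_bot] at hw
    rw [hw, map_zero]
    exact Submodule.zero_mem _
  | insert a T _ ih =>
    rw [Finset.sup_insert]
    exact isSubcomod_sup _ _ (hM a (Finset.mem_insert_self a T))
      (ih fun i hi => hM i (Finset.mem_insert_of_mem hi))

end General

section Alg

variable {k : Type u} [Field k] {A : Type v} [CommRing A] [Bialgebra k A]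
variable {R : Type w} [CommRing R] [Algebra k R] [HopfRep.Comod k A R]

lemma isSubcomod_one
    (hone : HopfRep.Comod.coact (k := k) (A := A) (1 : R) = 1) :
    IsSubcomod (k := k) (A := A) (1 : Submodule k R) := by
  intro w hw
  obtain ⟨c, rfl⟩ := Submodule.mem_one.mp hw
  refine ⟨c • ((⟨1, Submodule.one_le.mp le_rfl⟩ : (1 : Submodule k R)) ⊗ₜ[k] (1 : A)), ?_⟩
  rw [map_smul, LinearMap.rTensor_tmul, Algebra.algebraMap_eq_smul_one, map_smul, hone,
    Algebra.TensorProduct.one_def]
  rfl

lemma mul_mem_range (M N : Submodule k R) (y : M ⊗[k] A) (z : N ⊗[k] A) :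
    M.subtype.rTensor A y * N.subtype.rTensor A z ∈
      LinearMap.range ((M * N).subtype.rTensor A) := by
  induction y with
  | zero => rw [map_zero, zero_mul]; exact Submodule.zero_mem _
  | add y₁ y₂ h₁ h₂ => rw [map_add, add_mul]; exact Submodule.add_mem _ h₁ h₂
  | tmul m a =>
    induction z with
    | zero => rw [map_zero, mul_zero]; exact Submodule.zero_mem _
    | add z₁ z₂ h₁ h₂ => rw [map_add, mul_add]; exact Submodule.add_mem _ h₁ h₂
    | tmul n b =>
      refine ⟨(⟨(m : R) * (n : R), Submodule.mul_mem_mul m.2 n.2⟩ : (M * N : Submodule k R)) ⊗ₜ[k]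
        (a * b), ?_⟩
      rw [LinearMap.rTensor_tmul, LinearMap.rTensor_tmul, LinearMap.rTensor_tmul,
        Algebra.TensorProduct.tmul_mul_tmul]
      rfl

lemma isSubcomod_mul
    (hmul : ∀ f g : R, HopfRep.Comod.coact (k := k) (A := A) (f * g) =
      HopfRep.Comod.coact (k := k) (A := A) f * HopfRep.Comod.coact (k := k) (A := A) g)
    (M N : Submodule k R) (hM : IsSubcomod (k := k) (A := A) M)
    (hN : IsSubcomod (k := k) (A := A) N) : IsSubcomod (k := k) (A := A) (M * N) := by
  intro w hw
  induction hw using Submodule.mul_induction_on' with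
  | mem_mul_mem m hm n hn =>
    rw [hmul]
    obtain ⟨y, hy⟩ := hM m hm
    obtain ⟨z, hz⟩ := hN n hn
    rw [← hy, ← hz]
    exact mul_mem_range M N y z
  | add x _ y _ hx hy => rw [map_add]; exact Submodule.add_mem _ hx hy

lemma isSubcomod_pow
    (hmul : ∀ f g : R, HopfRep.Comod.coact (k := k) (A := A) (f * g) =
      HopfRep.Comod.coact (k := k) (A := A) f * HopfRep.Comod.coact (k := k) (A := A) g)
    (hone : HopfRep.Comod.coact (k := k) (A := A) (1 : R) = 1)
    (M : Submodule k R) (hM : IsSubcomod (k := k) (A := A) M) (d : ℕ) :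
    IsSubcomod (k := k) (A := A) (M ^ d) := by
  induction d with
  | zero => rw [pow_zero]; exact isSubcomod_one hone
  | succ d ih => rw [pow_succ]; exact isSubcomod_mul hmul _ _ ih hM


end Alg

section Rees0

variable {k : Type u} [Field k] {R : Type w} [CommRing R] [Algebra k R]

lemma coeff_mul_monomial_ite (p : R[X]) (n d : ℕ) (r : R) :
    coeff (p * monomial n r) d = if n ≤ d then coeff p (d - n) * r else 0 := by
  rw [← C_mul_X_pow_eq_monomial, ← mul_assoc, coeff_mul_X_pow', coeff_mul_C]

lemma pow_mono_of_one_mem (V : Submodule k R) (h1 : (1 : R) ∈ V) : Monotone fun d : ℕ => V ^ d := by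
  apply monotone_nat_of_le_succ
  intro d
  have h1' : (1 : Submodule k R) ≤ V := Submodule.one_le.mpr h1
  calc V ^ d = V ^ d * 1 := (mul_one _).symm
    _ ≤ V ^ d * V := mul_le_mul' le_rfl h1'
    _ = V ^ (d + 1) := (pow_succ _ _).symm

/-- monomials with coefficient in `V ^ d` lie in the Rees-type algebra -/
lemma monomial_mem (t : Set R) (d : ℕ) (h : R) (hh : h ∈ (Submodule.span k t) ^ d) :
    monomial d h ∈ Algebra.adjoin k ((fun v => monomial 1 v) '' t) := by
  induction d generalizing h with
  | zero =>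
    rw [pow_zero] at hh
    obtain ⟨c, rfl⟩ := Submodule.mem_one.mp hh
    have : monomial 0 (algebraMap k R c) = algebraMap k R[X] c := by
      rw [Polynomial.algebraMap_apply, monomial_zero_left]
    rw [this]
    exact Subalgebra.algebraMap_mem _ c
  | succ d ih =>
    rw [pow_succ] at hh
    induction hh using Submodule.mul_induction_on' with
    | mem_mul_mem a ha b hb =>
      have hb' : monomial 1 b ∈ Algebra.adjoin k ((fun v => monomial 1 v) '' t) := by
        induction hb using Submodule.span_induction with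
        | mem x hx => exact Algebra.subset_adjoin ⟨x, hx, rfl⟩
        | zero => rw [map_zero]; exact Subalgebra.zero_mem _
        | add x y _ _ hx hy => rw [map_add]; exact Subalgebra.add_mem _ hx hy
        | smul c x _ hx =>
          rw [← Polynomial.smul_monomial]
          exact Subalgebra.smul_mem _ hx c
      have : monomial (d + 1) (a * b) = monomial d a * monomial 1 b := by
        rw [monomial_mul_monomial]
      rw [this]
      exact Subalgebra.mul_mem _ (ih a ha) hb'
    | add x _ y _ hx hy => rw [map_add]; exact Subalgebra.add_mem _ hx hy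


end Rees0

section Rees

variable {k : Type u} [Field k] {A : Type w} [CommRing A] [Algebra k A]
  {C : Type w'} [CommRing C] [Algebra k C] [Algebra A C] [IsScalarTower k A C]

variable (k A C) in
/-- the image of `A` in `C` as a `k`-submodule -/
def Abar : Submodule k C := LinearMap.range (IsScalarTower.toAlgHom k A C).toLinearMap

lemma mem_Abar (x : C) : x ∈ Abar k A C ↔ ∃ a : A, algebraMap A C a = x := by
  unfold Abar
  rw [LinearMap.mem_range]
  rfl

lemma algebraMap_mem_Abar (a : A) : algebraMap A C a ∈ Abar k A C := (mem_Abar _).mpr ⟨a, rfl⟩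

lemma one_mem_Abar : (1 : C) ∈ Abar k A C := (mem_Abar _).mpr ⟨1, map_one _⟩

lemma Abar_mul_Abar : Abar k A C * Abar k A C ≤ Abar k A C := by
  rw [Submodule.mul_le]
  intro x hx y hy
  obtain ⟨a, rfl⟩ := (mem_Abar _).mp hx
  obtain ⟨b, rfl⟩ := (mem_Abar _).mp hy
  rw [← map_mul]
  exact algebraMap_mem_Abar _

variable (k A) in
/-- the filtration `Abar * V ^ d` -/
def Wf (V : Submodule k C) (d : ℕ) : Submodule k C := Abar k A C * V ^ d

lemma Wf_zero (V : Submodule k C) : Wf k A V 0 = Abar k A C := by
  unfold Wf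
  rw [pow_zero, mul_one]

lemma Wf_mul_le (V : Submodule k C) (d e : ℕ) : Wf k A V d * Wf k A V e ≤ Wf k A V (d + e) := by
  unfold Wf
  calc Abar k A C * V ^ d * (Abar k A C * V ^ e)
      = (Abar k A C * Abar k A C) * (V ^ d * V ^ e) := by
        rw [mul_mul_mul_comm]
    _ ≤ Abar k A C * (V ^ d * V ^ e) := mul_le_mul' Abar_mul_Abar le_rfl
    _ = Abar k A C * V ^ (d + e) := by rw [pow_add]

lemma pow_le_Wf (V : Submodule k C) (d : ℕ) : V ^ d ≤ Wf k A V d := by
  unfold Wf
  calc V ^ d = 1 * V ^ d := (one_mul _).symm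
    _ ≤ Abar k A C * V ^ d := mul_le_mul' (Submodule.one_le.mpr one_mem_Abar) le_rfl

lemma Wf_mono (V : Submodule k C) (h1 : (1 : C) ∈ V) : Monotone (Wf k A V) := by
  intro d e hde
  unfold Wf
  exact mul_le_mul' le_rfl (pow_mono_of_one_mem V h1 hde)

/-- coefficients of elements of the relative Rees-type algebra -/
lemma coeff_mem_Wf (V : Submodule k C) (t : Set C) (ht : t ⊆ V) (p : C[X])
    (hp : p ∈ Algebra.adjoin A ((fun v => monomial 1 v) '' t)) (d : ℕ) :
    coeff p d ∈ Wf k A V d := by
  induction hp using Algebra.adjoin_induction generalizing d with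
  | mem x hx =>
    obtain ⟨v, hv, rfl⟩ := hx
    rw [coeff_monomial]
    split_ifs with h
    · subst h
      apply pow_le_Wf (A := A)
      rw [pow_one]; exact ht hv
    · exact Submodule.zero_mem _
  | algebraMap c =>
    rw [Polynomial.algebraMap_apply, coeff_C]
    split_ifs with h
    · subst h; rw [Wf_zero]; exact algebraMap_mem_Abar c
    · exact Submodule.zero_mem _
  | add x y _ _ hx hy => rw [coeff_add]; exact Submodule.add_mem _ (hx d) (hy d)
  | mul x y _ _ hx hy =>
    rw [coeff_mul]
    refine Submodule.sum_mem _ fun ij hij => ?_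
    rw [← Finset.mem_antidiagonal.mp hij]
    exact Wf_mul_le V _ _ (Submodule.mul_mem_mul (hx _) (hy _))

lemma adjoin_le_adjoin (S : Set C[X]) (p : C[X]) (hp : p ∈ Algebra.adjoin k S) :
    p ∈ Algebra.adjoin A S := by
  have : Algebra.adjoin k S ≤ (Algebra.adjoin A S).restrictScalars k :=
    Algebra.adjoin_le (fun x hx => Algebra.subset_adjoin (R := A) hx)
  exact this hp

/-- monomials with coefficient in `Abar * V ^ d` lie in the relative Rees-type algebra -/
lemma monomial_mem_of_mem_Wf (t : Set C) (d : ℕ) (h : C)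
    (hh : h ∈ Wf k A (Submodule.span k t) d) :
    monomial d h ∈ Algebra.adjoin A ((fun v => monomial 1 v) '' t) := by
  unfold Wf at hh
  induction hh using Submodule.mul_induction_on' with
  | mem_mul_mem a ha w hw =>
    obtain ⟨a, rfl⟩ := (mem_Abar _).mp ha
    have h1 : monomial d w ∈ Algebra.adjoin A ((fun v => monomial 1 v) '' t) :=
      adjoin_le_adjoin _ _ (monomial_mem t d w hw)
    have h2 : monomial d (algebraMap A C a * w) = a • monomial d w := by
      rw [Polynomial.smul_monomial, Algebra.smul_def]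
    rw [h2]
    exact Subalgebra.smul_mem _ h1 a
  | add x _ y _ hx hy => rw [map_add]; exact Subalgebra.add_mem _ hx hy

/-- the relative Rees-type algebra of a finitely generated subspace -/
lemma exists_rees' [IsNoetherianRing A] (t : Finset C) :
    ∃ R' : Subalgebra A C[X], IsNoetherianRing R' ∧
      (∀ p ∈ R', ∀ d, coeff p d ∈ Wf k A (Submodule.span k (t : Set C)) d) ∧
      (∀ d, ∀ h ∈ Wf k A (Submodule.span k (t : Set C)) d, monomial d h ∈ R') := by
  classical
  refine ⟨Algebra.adjoin A ((fun v => monomial 1 v) '' (t : Set C)), ?_,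
    fun p hp d => coeff_mem_Wf _ (t : Set C) Submodule.subset_span p hp d,
    fun d h hh => monomial_mem_of_mem_Wf (t : Set C) d h hh⟩
  have hfg : (Algebra.adjoin A ((fun v => monomial 1 v) '' (t : Set C)) : Subalgebra A C[X]).FG := by
    have : ((fun v => monomial 1 v) '' (t : Set C) : Set C[X]) =
        ((t.image fun v => (monomial 1 v : C[X]) : Finset C[X]) : Set C[X]) := by
      rw [Finset.coe_image]
    rw [this]
    exact Subalgebra.fg_adjoin_finset _
  have : Algebra.FiniteType A
      (Algebra.adjoin A ((fun v => monomial 1 v) '' (t : Set C)) : Subalgebra A C[X]) :=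
    (Subalgebra.fg_iff_finiteType _).mp hfg
  exact Algebra.FiniteType.isNoetherianRing A _

end Rees

section Main

variable {k : Type u} [Field k] {H : Type v} [CommRing H] [Bialgebra k H]
variable {A : Type w} [CommRing A] [Algebra k A]
variable {R : Type w'} [CommRing R] [Algebra k R] [HopfRep.Comod k H R] [Algebra A R]

theorem main_aux' (E : R →ₗ[k] R)
    (hE1 : ∀ r, E r ∈ fixedPts k H R)
    (hE2 : ∀ r ∈ fixedPts k H R, E r = r)
    (hE3 : ∀ f ∈ fixedPts k H R, ∀ r, E (f * r) = f * E r)
    (hE4 : ∀ U : Submodule k R, IsSubcomod (k := k) (A := H) U → ∀ r ∈ U, E r ∈ U)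
    (W : ℕ → Submodule k R) (hWsub : ∀ d, IsSubcomod (k := k) (A := H) (W d))
    (R' : Subalgebra A R[X]) (hnoeth : IsNoetherianRing R')
    (hcoeff : ∀ p ∈ R', ∀ d, coeff p d ∈ W d)
    (hmon : ∀ d, ∀ h ∈ W d, monomial d h ∈ R')
    (B : Set R) (hbase : ∀ h ∈ W 0, h ∈ fixedPts k H R → h ∈ Algebra.adjoin k B) :
    ∃ s : Finset R, (∀ f ∈ s, f ∈ HopfRep.fixedPts k H R) ∧
      ∀ d, ∀ h ∈ W d, h ∈ fixedPts k H R → h ∈ Algebra.adjoin k (B ∪ (s : Set R)) := by
  classical
  -- the ideal generated by invariant monomials of positive degree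
  let G : Set R' := {x | ∃ d : ℕ, ∃ f : R, 1 ≤ d ∧ f ∈ W d ∧ f ∈ fixedPts k H R ∧
    (x : R[X]) = monomial d f}
  have hJfg : (Ideal.span G).FG := (isNoetherianRing_iff_ideal_fg R').mp inferInstance _
  obtain ⟨T, hTG, hTspan⟩ := (Submodule.fg_span_iff_fg_span_finset_subset G).mp hJfg
  have hT' : ∀ x : R', ∃ d : ℕ, ∃ f : R, x ∈ T → 1 ≤ d ∧ f ∈ W d ∧ f ∈ fixedPts k H R ∧
      (x : R[X]) = monomial d f := by
    intro x
    by_cases hx : x ∈ T
    · obtain ⟨d, f, h⟩ := hTG hx
      exact ⟨d, f, fun _ => h⟩
    · exact ⟨0, 0, fun h => absurd h hx⟩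
  choose dT fT0 hT'' using hT'
  -- make all `fT x` invariant
  let fT : R' → R := fun x => if x ∈ T then fT0 x else 0
  have hfT : ∀ x ∈ T, fT x = fT0 x := fun x hx => if_pos hx
  have hffix : ∀ x, fT x ∈ fixedPts k H R := by
    intro x
    simp only [fT]
    split_ifs with hx
    · exact (hT'' x hx).2.2.1
    · exact Submodule.zero_mem _
  have hd : ∀ x ∈ T, 1 ≤ dT x := fun x hx => (hT'' x hx).1
  have hxT : ∀ x ∈ T, (x : R[X]) = monomial (dT x) (fT x) := fun x hx => by
    rw [hfT x hx]; exact (hT'' x hx).2.2.2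
  refine ⟨T.image fT, ?_, ?_⟩
  · intro f hf
    obtain ⟨x, hx, rfl⟩ := Finset.mem_image.mp hf
    exact hffix x
  -- main induction
  intro d
  induction d using Nat.strong_induction_on with
  | _ d ih =>
    intro h hhV hhfix
    rcases Nat.eq_zero_or_pos d with rfl | hdpos
    · exact Algebra.adjoin_mono Set.subset_union_left (hbase h hhV hhfix)
    · let xh : R' := ⟨monomial d h, hmon d h hhV⟩
      have hxhG : xh ∈ G := ⟨d, h, hdpos, hhV, hhfix, rfl⟩
      have hxhJ : xh ∈ Submodule.span R' (T : Set R') := by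
        have : xh ∈ Ideal.span G := Ideal.subset_span hxhG
        rw [Ideal.span, hTspan] at this
        exact this
      obtain ⟨c, -, hc⟩ := Submodule.mem_span_finset.mp hxhJ
      -- take coefficients
      have hc' : (monomial d h : R[X]) = ∑ x ∈ T, (c x : R[X]) * monomial (dT x) (fT x) := by
        have h0 : (monomial d h : R[X]) = ((∑ a ∈ T, c a • a : R') : R[X]) :=
          (congrArg Subtype.val hc).symm
        rw [h0, AddSubmonoidClass.coe_finsetSum]
        refine Finset.sum_congr rfl fun x hx => ?_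
        rw [smul_eq_mul, MulMemClass.coe_mul, hxT x hx]
      let r : R' → R := fun x => if dT x ≤ d then coeff (c x : R[X]) (d - dT x) else 0
      have hsum : h = ∑ x ∈ T, fT x * r x := by
        have := congrArg (fun p => coeff p d) hc'
        simp only [coeff_monomial, if_true, finsetSum_coeff, coeff_mul_monomial_ite] at this
        rw [this]
        refine Finset.sum_congr rfl fun x _ => ?_
        simp only [r]
        split_ifs <;> ring
      have hr : ∀ x ∈ T, r x ∈ W (d - dT x) := by
        intro x _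
        simp only [r]
        split_ifs
        · exact hcoeff _ (c x).2 _
        · exact Submodule.zero_mem _
      have hE : h = ∑ x ∈ T, fT x * E (r x) := by
        calc h = E h := (hE2 h hhfix).symm
          _ = E (∑ x ∈ T, fT x * r x) := by rw [← hsum]
          _ = ∑ x ∈ T, fT x * E (r x) := by
            rw [map_sum]
            exact Finset.sum_congr rfl fun x _ => hE3 _ (hffix x) _
      rw [hE]
      refine Subalgebra.sum_mem _ fun x hx => ?_
      refine Subalgebra.mul_mem _ (Algebra.subset_adjoin (Set.mem_union_right _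
        (Finset.mem_coe.mpr (Finset.mem_image_of_mem fT hx)))) ?_
      have hlt : d - dT x < d := Nat.sub_lt hdpos (hd x hx)
      exact ih _ hlt _ (hE4 _ (hWsub _) _ (hr x hx)) (hE1 _)

end Main

section Final

variable (k : Type u) [Field k] (H : Type v) [CommRing H] [HopfAlgebra k H]
variable (A : Type w) [CommRing A] [Algebra k A] [IsNoetherianRing A]
  [HopfRep.Comod k H A] [GLin.IsCoactAlg k H A]
variable (C : Type w') [CommRing C] [Algebra k C] [HopfRep.Comod k H C] [GLin.IsCoactAlg k H C]

open Groth.Agent.H93 in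
theorem relHilbert [Algebra A C] [IsScalarTower k A C] [Algebra.FiniteType A C]
    (hG : HopfRep.IsLinearlyReductive k H)
    (hAC : Hoch.IsComodHom H (IsScalarTower.toAlgHom k A C).toLinearMap) :
    ∃ s : Finset C, GLin.invariants k H C =
      Algebra.adjoin k (⇑(algebraMap A C) '' ↑(GLin.invariants k H A) ∪ ↑s) := by
  classical
  obtain ⟨α, hαint, h1⟩ := exists_integral_of_linRed hG
  have hα := (isComodHom_iff_isInt α).2 hαint
  have hmul : ∀ f g : C, HopfRep.Comod.coact (k := k) (A := H) (f * g) =
      HopfRep.Comod.coact (k := k) (A := H) f * HopfRep.Comod.coact (k := k) (A := H) g :=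
    GLin.IsCoactAlg.coact_mul
  have hone : HopfRep.Comod.coact (k := k) (A := H) (1 : C) = 1 := GLin.IsCoactAlg.coact_one
  set φ : A →ₗ[k] C := (IsScalarTower.toAlgHom k A C).toLinearMap with hφ
  have hφapp : ∀ a : A, φ a = algebraMap A C a := fun a => rfl
  -- `Abar` is a subcomodule
  have hAbar : IsSubcomod (k := k) (A := H) (Abar k A C) := by
    have := isSubcomod_map φ hAC ⊤ (isSubcomod_top (k := k) (A := H))
    rwa [Submodule.map_top] at this
  -- Step 1: a finite-dimensional subcomodule `V` containing `1` and algebra generators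
  obtain ⟨s₀, hs₀⟩ := (Algebra.FiniteType.out : (⊤ : Subalgebra A C).FG)
  have hex : ∀ x : C, ∃ V0 : Submodule k C, IsSubcomod (k := k) (A := H) V0 ∧
      FiniteDimensional k V0 ∧ x ∈ V0 := fun x => exists_finite_subcomod (k := k) (A := H) x
  choose Vx hVx_sub hVx_fin hVx_mem using hex
  obtain ⟨V, hVdef⟩ : ∃ V : Submodule k C, V = (insert 1 s₀).sup Vx := ⟨_, rfl⟩
  have hVsub : IsSubcomod (k := k) (A := H) V := by
    rw [hVdef]; exact isSubcomod_finset_sup _ _ (fun i _ => hVx_sub i)
  have hVfin : Module.Finite k V := by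
    rw [hVdef]; exact Submodule.finite_finset_sup _ _
  have hle : ∀ x ∈ insert 1 s₀, Vx x ≤ V := fun x hx => by
    rw [hVdef]; exact Finset.le_sup (f := Vx) hx
  have h1V : (1 : C) ∈ V := hle 1 (Finset.mem_insert_self _ _) (hVx_mem 1)
  have hsV : ∀ x ∈ s₀, x ∈ V := fun x hx => hle x (Finset.mem_insert_of_mem hx) (hVx_mem x)
  have hVpow : ∀ d, IsSubcomod (k := k) (A := H) (V ^ d) := isSubcomod_pow hmul hone V hVsub
  have hWsub : ∀ d, IsSubcomod (k := k) (A := H) (Wf k A V d) := fun d =>
    isSubcomod_mul hmul _ _ hAbar (hVpow d)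
  have hmono := Wf_mono (k := k) (A := A) V h1V
  -- every element lies in some `W d`
  have hcover : ∀ x : C, ∃ d, x ∈ Wf k A V d := by
    intro x
    have hx : x ∈ Algebra.adjoin A (s₀ : Set C) := by rw [hs₀]; trivial
    induction hx using Algebra.adjoin_induction with
    | mem x hx => exact ⟨1, pow_le_Wf V 1 (by rw [pow_one]; exact hsV x hx)⟩
    | algebraMap c => exact ⟨0, by rw [Wf_zero]; exact algebraMap_mem_Abar c⟩
    | add x y _ _ hx hy =>
      obtain ⟨d, hd⟩ := hx
      obtain ⟨e, he⟩ := hy
      exact ⟨max d e, Submodule.add_mem _ (hmono (le_max_left d e) hd) (hmono (le_max_right d e) he)⟩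
    | mul x y _ _ hx hy =>
      obtain ⟨d, hd⟩ := hx
      obtain ⟨e, he⟩ := hy
      exact ⟨d + e, Wf_mul_le V d e (Submodule.mul_mem_mul hd he)⟩
  -- a finite spanning set of V
  obtain ⟨t, ht⟩ : ∃ t : Finset C, Submodule.span k (t : Set C) = V :=
    (Module.Finite.iff_fg.mp hVfin)
  obtain ⟨R', hnoeth, hcoeff, hmon⟩ := exists_rees' (k := k) (A := A) t
  rw [ht] at hcoeff hmon
  -- base case
  have hbase : ∀ h ∈ Wf k A V 0, h ∈ fixedPts k H C →
      h ∈ Algebra.adjoin k (⇑(algebraMap A C) '' ↑(GLin.invariants k H A)) := by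
    intro h hh hfix
    rw [Wf_zero] at hh
    obtain ⟨a, rfl⟩ := (mem_Abar _).mp hh
    have e : algebraMap A C (reyn A α a) = algebraMap A C a := by
      have h2 := dualAct_comodHom hAC (reynFun k H α) a
      rw [hφapp, hφapp] at h2
      have h3 : dualAct C (reynFun k H α) (algebraMap A C a) = algebraMap A C a :=
        reyn_of_mem_fixedPts α h1 _ hfix
      rw [h3] at h2
      exact h2
    rw [← e]
    exact Algebra.subset_adjoin ⟨reyn A α a, reyn_mem_fixedPts α hα a, rfl⟩
  obtain ⟨s, hs1, hs2⟩ := main_aux' (H := H) (reyn C α)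
    (fun r => reyn_mem_fixedPts α hα r)
    (fun r hr => reyn_of_mem_fixedPts α h1 r hr)
    (fun f hf r => reyn_mul_of_mem_invariants α f hf r)
    (fun U hU r hr => dualAct_mem_of_isSubcomod hU _ hr)
    (Wf k A V) hWsub R' hnoeth hcoeff hmon _ hbase
  refine ⟨s, le_antisymm ?_ ?_⟩
  · intro f hf
    obtain ⟨d, hd'⟩ := hcover f
    exact hs2 d f hd' hf
  · apply Algebra.adjoin_le
    rintro x (⟨a, ha, rfl⟩ | hx)
    · exact map_fixedPts φ hAC a ha
    · exact hs1 x hx

/-- the same with an explicit equivariant algebra map instead of an algebra instance -/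
theorem relHilbert' (hG : HopfRep.IsLinearlyReductive k H) (φ : A →ₐ[k] C)
    (hφ : Hoch.IsComodHom H φ.toLinearMap)
    (t : Finset C) (ht : Algebra.adjoin k (Set.range φ ∪ (t : Set C)) = ⊤) :
    ∃ s : Finset C, (GLin.invariants k H C : Set C) ⊆
      Algebra.adjoin k (⇑φ '' ↑(GLin.invariants k H A) ∪ ↑s) := by
  let _ : Algebra A C := φ.toRingHom.toAlgebra
  have : IsScalarTower k A C := IsScalarTower.of_algebraMap_eq fun c => (φ.commutes c).symm
  have hφalg : ∀ a : A, algebraMap A C a = φ a := fun a => rfl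
  have : Algebra.FiniteType A C := by
    refine ⟨⟨t, ?_⟩⟩
    rw [eq_top_iff]
    intro x _
    have hx : x ∈ Algebra.adjoin k (Set.range φ ∪ (t : Set C)) := by rw [ht]; trivial
    have hle : Algebra.adjoin k (Set.range φ ∪ (t : Set C)) ≤
        (Algebra.adjoin A (t : Set C)).restrictScalars k := by
      apply Algebra.adjoin_le
      rintro y (⟨a, rfl⟩ | hy)
      · exact Subalgebra.algebraMap_mem (Algebra.adjoin A (t : Set C)) a
      · exact Algebra.subset_adjoin hy
    exact hle hx
  have hAC : Hoch.IsComodHom H (IsScalarTower.toAlgHom k A C).toLinearMap := hφ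
  obtain ⟨s, hs⟩ := relHilbert k H A C hG hAC
  refine ⟨s, ?_⟩
  intro x hx
  have hx' : x ∈ GLin.invariants k H C := hx
  rw [hs] at hx'
  exact hx'

end Final

end Groth.Agent.H83.RelHilbertPoly
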