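import Groth.Prelude.Def_HopfRep
import Mathlib

/-! Serre's lemma: over a Noetherian ring, finitely generated submodules of a comodule over a flat
coalgebra are contained in finitely generated subcomodules. -/

set_option autoImplicit false
universe u v w

namespace Groth.Agent.H83

open TensorProduct HopfRep

section

variable {R : Type u} [CommRing R] {C : Type v} [AddCommGroup C] [Module R C] [Coalgebra R C]
  {V : Type w} [AddCommGroup V] [Module R V] [Comod R C V]

/-- `(q ⊗ id) ∘ ρ` for the quotient map `q : V → V ⧸ N` -/
noncomputable def coactMod (N : Submodule R V) : V →ₗ[R] (V ⧸ N) ⊗[R] C :=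
  N.mkQ.rTensor C ∘ₗ Comod.coact (k := R) (A := C)

theorem ker_coactMod_le (N : Submodule R V) : LinearMap.ker (coactMod (C := C) N) ≤ N := by
  intro v hv
  have h1 : coactMod (C := C) N v = 0 := hv
  have hc := LinearMap.congr_fun (Comod.counit_comp (k := R) (A := C) (V := V)) v
  simp only [LinearMap.comp_apply, LinearMap.flip_apply, TensorProduct.mk_apply] at hc
  have h2 : (TensorProduct.rid R (V ⧸ N))
      ((Coalgebra.counit (R := R) (A := C)).lTensor (V ⧸ N) (coactMod (C := C) N v)) = N.mkQ v := by
    unfold coactMod
    rw [LinearMap.comp_apply, ← LinearMap.comp_apply ((Coalgebra.counit (R := R) (A := C)).lTensor _),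
      LinearMap.lTensor_comp_rTensor, ← LinearMap.rTensor_comp_lTensor, LinearMap.comp_apply, hc,
      LinearMap.rTensor_tmul, TensorProduct.rid_tmul, one_smul]
  rw [h1, map_zero, map_zero] at h2
  rw [← Submodule.Quotient.mk_eq_zero]
  exact h2.symm

theorem coactMod_rTensor_coact (N : Submodule R V) (v : V) :
    (coactMod (C := C) N).rTensor C (Comod.coact (k := R) (A := C) v) =
      (TensorProduct.assoc R (V ⧸ N) C C).symm
        ((Coalgebra.comul (R := R) (A := C)).lTensor (V ⧸ N) (coactMod (C := C) N v)) := by
  have hco := LinearMap.congr_fun (Comod.coassoc (k := R) (A := C) (V := V)) v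
  simp only [LinearMap.comp_apply, LinearEquiv.coe_coe] at hco
  unfold coactMod
  rw [LinearMap.rTensor_comp, LinearMap.comp_apply, LinearMap.comp_apply]
  have h1 : (Comod.coact (k := R) (A := C) (V := V)).rTensor C (Comod.coact (k := R) (A := C) v) =
      (TensorProduct.assoc R V C C).symm
        ((Coalgebra.comul (R := R) (A := C)).lTensor V (Comod.coact (k := R) (A := C) v)) := by
    rw [← hco, LinearEquiv.symm_apply_apply]
  rw [h1]
  generalize Comod.coact (k := R) (A := C) v = x
  induction x with
  | zero => simp
  | tmul a c =>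
    rw [LinearMap.lTensor_tmul, LinearMap.rTensor_tmul, LinearMap.lTensor_tmul]
    generalize Coalgebra.comul (R := R) c = t
    induction t with
    | zero => simp
    | tmul c₁ c₂ => simp
    | add x y hx hy => simp only [TensorProduct.tmul_add, map_add, hx, hy]
  | add x y hx hy => simp only [map_add, hx, hy]

theorem isSubcomod_ker_coactMod [Module.Flat R C] (N : Submodule R V) :
    IsSubcomod (k := R) (A := C) (LinearMap.ker (coactMod (C := C) N)) := by
  intro v hv
  have h1 : coactMod (C := C) N v = 0 := hv
  have hex : Function.Exact ((LinearMap.ker (coactMod (C := C) N)).subtype.rTensor C)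
      ((coactMod (C := C) N).rTensor C) :=
    Module.Flat.rTensor_exact C (LinearMap.exact_subtype_ker_map (coactMod (C := C) N))
  rw [← LinearMap.exact_iff.mp hex, LinearMap.mem_ker, coactMod_rTensor_coact, h1, map_zero,
    map_zero]

theorem exists_fg_subcomod [IsNoetherianRing R] [Module.Flat R C] (M : Submodule R V)
    (hM : M.FG) :
    ∃ W : Submodule R V, IsSubcomod (k := R) (A := C) W ∧ M ≤ W ∧ W.FG := by
  obtain ⟨s, hs⟩ := hM
  obtain ⟨N, hNfin, hN⟩ := TensorProduct.exists_finite_submodule_left_of_setFinite
    ((Comod.coact (k := R) (A := C)) '' (s : Set V)) (s.finite_toSet.image _)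
  refine ⟨LinearMap.ker (coactMod (C := C) N), isSubcomod_ker_coactMod N, ?_, ?_⟩
  · rw [← hs, Submodule.span_le]
    intro m hm
    have h1 : Comod.coact (k := R) (A := C) m ∈ LinearMap.range (N.subtype.rTensor C) :=
      hN ⟨m, hm, rfl⟩
    obtain ⟨y, hy⟩ := h1
    change coactMod (C := C) N m = 0
    unfold coactMod
    rw [LinearMap.comp_apply, ← hy, ← LinearMap.comp_apply, ← LinearMap.rTensor_comp]
    have : N.mkQ ∘ₗ N.subtype = 0 := by
      ext x
      simp
    rw [this, LinearMap.rTensor_zero, LinearMap.zero_apply]
  · have hNfg : N.FG := Module.Finite.iff_fg.mp hNfin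
    exact Submodule.FG.of_le hNfg (ker_coactMod_le N)

end

end Groth.Agent.H83
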