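import Groth.Agent.H83.SimpleMult

/-! Simple finite commutative bi-infinitesimal group schemes are `α_p`. -/

set_option autoImplicit false
universe u v

namespace Groth.Agent.H83.SimpleBiinf

open TensorProduct WithConv Coalgebra Groth.Agent.H83.FinDual

section EvalHom

variable {k : Type u} [Field k] {A : Type v} [AddCommGroup A] [Module k A] [Coalgebra k A]

local notation "DD" => WithConv (A →ₗ[k] k)

/-- evaluation at a group-like element is a point of the dual algebra -/
noncomputable def evHom (e : A) (he : IsGroupLikeElem k e) : DD →ₐ[k] k :=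
  AlgHom.ofLinearMap
    ((LinearMap.applyₗ e) ∘ₗ (WithConv.linearEquiv k (A →ₗ[k] k)).toLinearMap)
    (by simp [he.counit_eq_one])
    (by intro f g; simp [LinearMap.convMul_apply, he.comul_eq_tmul_self])

@[simp] theorem evHom_apply (e : A) (he : IsGroupLikeElem k e) (f : DD) :
    evHom e he f = f.ofConv e := rfl

end EvalHom

section Prim

variable {k : Type u} [Field k] {A : Type v} [CommRing A] [Bialgebra k A]
  [Coalgebra.IsCocomm k A] [FiniteDimensional k A]

local notation "DD" => WithConv (A →ₗ[k] k)

/-- if the dual algebra is local and `A` is not one-dimensional, there is a nonzero primitive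
element -/
theorem exists_primitive (hdual : IsLocalRing DD) (hA : 1 < Module.finrank k A) :
    ∃ x : A, x ≠ 0 ∧ comul (R := k) x = x ⊗ₜ[k] (1 : A) + (1 : A) ⊗ₜ[k] x := by
  classical
  have hfinD : Module.Finite k DD :=
    Module.Finite.equiv (WithConv.linearEquiv k (A →ₗ[k] k)).symm
  let ev1 : DD →ₐ[k] k := evHom (1 : A) IsGroupLikeElem.one
  have hsurj : Function.Surjective ev1 := fun c => ⟨algebraMap k DD c, by simp⟩
  have hker : RingHom.ker ev1 = IsLocalRing.maximalIdeal DD := by
    have : (RingHom.ker ev1).IsMaximal := RingHom.ker_isMaximal_of_surjective ev1 hsurj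
    exact IsLocalRing.eq_maximalIdeal this
  set n := IsLocalRing.maximalIdeal DD with hn
  have hart : IsArtinianRing DD := IsArtinianRing.of_finite k DD
  have hnil : IsNilpotent n := by
    have := IsArtinianRing.isNilpotent_jacobson_bot (R := DD)
    rwa [IsLocalRing.jacobson_eq_maximalIdeal ⊥ bot_ne_top] at this
  have hn0 : n ≠ ⊥ := by
    intro h0
    have hinj : Function.Injective ev1.toLinearMap := by
      have : Function.Injective ev1 := by
        rw [← AlgHom.coe_toRingHom, RingHom.injective_iff_ker_eq_bot]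
        exact hker.trans h0
      exact this
    have h1 := LinearMap.finrank_le_finrank_of_injective hinj
    have h2 : Module.finrank k DD = Module.finrank k A := by
      rw [(WithConv.linearEquiv k (A →ₗ[k] k)).finrank_eq]
      exact Subspace.dual_finrank_eq
    rw [h2, Module.finrank_self] at h1
    omega
  have hlt : n ^ 2 < n := by
    refine lt_of_le_of_ne (Ideal.pow_le_self two_ne_zero) fun h => hn0 ?_
    obtain ⟨m, hm⟩ := hnil
    have hall : ∀ j : ℕ, n ^ (j + 1) = n := by
      intro j
      induction j with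
      | zero => simp
      | succ j ih => rw [pow_succ, ih, ← pow_two, h]
    have := hall m
    rw [pow_succ, hm] at this
    rw [← this]
    simp
  obtain ⟨v, hvn, hv2⟩ := SetLike.exists_of_lt hlt
  obtain ⟨d0, hd0v, hd0⟩ :=
    Submodule.exists_le_ker_of_notMem (p := (n ^ 2).restrictScalars k) (v := v)
      (by simpa using hv2)
  let d : DD →ₗ[k] k := d0 - d0 1 • ev1.toLinearMap
  have hd1 : d 1 = 0 := by simp [d]
  have hmem : ∀ u : DD, u ∈ n → ev1 u = 0 := by
    intro u hu
    rw [← RingHom.mem_ker, hker]
    exact hu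
  have hdn2 : ∀ u w : DD, u ∈ n → w ∈ n → d (u * w) = 0 := by
    intro u w hu hw
    have h2 : u * w ∈ n ^ 2 := by
      rw [pow_two]
      exact Ideal.mul_mem_mul hu hw
    have h3 : d0 (u * w) = 0 := hd0 h2
    simp [d, h3, hmem u hu]
  have hsub : ∀ f : DD, f - algebraMap k DD (ev1 f) ∈ n := by
    intro f
    rw [← hker, RingHom.mem_ker]
    simp
  have hder : ∀ f g : DD, d (f * g) = ev1 f * d g + d f * ev1 g := by
    intro f g
    have key : f * g = (f - algebraMap k DD (ev1 f)) * (g - algebraMap k DD (ev1 g))
        + ev1 f • g + ev1 g • f - (ev1 f * ev1 g) • (1 : DD) := by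
      simp only [Algebra.smul_def, map_mul]
      ring
    rw [key]
    simp only [map_add, map_sub, map_smul, hdn2 _ _ (hsub f) (hsub g), hd1, smul_eq_mul]
    ring
  obtain ⟨x, hx⟩ := exists_ev_eq d
  refine ⟨x, ?_, isPrimitive_of_deriv 1 x ?_⟩
  · rintro rfl
    apply hd0v
    have := hx v
    simp only [map_zero] at this
    simpa [d, hmem v hvn] using this
  · intro f g
    rw [← hx, ← hx, ← hx]
    exact hder f g

end Prim

section Struct0

variable {A : Type v} [CommRing A]

/-- a nilpotent element which is a multiple of its square vanishes -/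
theorem eq_zero_of_eq_mul_mul (x y : A) (hnil : IsNilpotent x) (h : x = x * (x * y)) : x = 0 := by
  have hu : IsUnit (1 - x * y) :=
    (Commute.isNilpotent_mul_right (Commute.all x y) hnil).isUnit_one_sub
  have h0 : x * (1 - x * y) = 0 := by
    rw [mul_sub, mul_one, ← h, sub_self]
  exact (hu.mul_left_eq_zero).1 h0

variable {k : Type u} [Field k] [Bialgebra k A]

theorem comul_pow_of_primitive (x : A)
    (hx : comul (R := k) x = x ⊗ₜ[k] (1 : A) + (1 : A) ⊗ₜ[k] x) (j : ℕ) :
    comul (R := k) (x ^ j) =
      ∑ m ∈ Finset.range (j + 1), (j.choose m) • ((x ^ m) ⊗ₜ[k] (x ^ (j - m))) := by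
  rw [Bialgebra.comul_pow, hx, add_pow]
  refine Finset.sum_congr rfl fun m _ => ?_
  rw [Algebra.TensorProduct.tmul_pow, Algebra.TensorProduct.tmul_pow, one_pow, one_pow,
    Algebra.TensorProduct.tmul_mul_tmul, mul_one, one_mul, nsmul_eq_mul, mul_comm]

/-- the powers of a primitive element below the characteristic do not vanish, given a
functional dual to it -/
theorem pow_ne_zero_of_primitive [Nontrivial A] (p : ℕ) [CharP k p] (x : A)
    (hx : comul (R := k) x = x ⊗ₜ[k] (1 : A) + (1 : A) ⊗ₜ[k] x)
    (ψ : A →ₗ[k] k) (hψ1 : ψ 1 = 0) (hψx : ψ x = 1) (hψ2 : ∀ a : A, ψ (x ^ 2 * a) = 0) :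
    ∀ j : ℕ, j < p → x ^ j ≠ 0 := by
  let T : A →ₗ[k] A := (TensorProduct.rid k A).toLinearMap ∘ₗ (LinearMap.lTensor A ψ) ∘ₗ comul
  have hT : ∀ j : ℕ, T (x ^ (j + 1)) = (j + 1) • x ^ j := by
    intro j
    simp only [T, LinearMap.comp_apply, comul_pow_of_primitive x hx, map_sum, map_nsmul,
      LinearMap.lTensor_tmul, LinearEquiv.coe_coe, TensorProduct.rid_tmul]
    rw [Finset.sum_eq_single j]
    · rw [show j + 1 - j = 1 by omega, pow_one, hψx, one_smul]
      congr 1
      rw [Nat.choose_succ_self_right]
    · intro m hm hmj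
      have hm' : m < j + 2 := Finset.mem_range.1 hm
      rcases Nat.lt_or_ge m j with h | h
      · have : x ^ (j + 1 - m) = x ^ 2 * x ^ (j + 1 - m - 2) := by
          rw [← pow_add]
          congr 1
          omega
        rw [this, hψ2, zero_smul, smul_zero]
      · have : m = j + 1 := by omega
        subst this
        rw [Nat.sub_self, pow_zero, hψ1, zero_smul, smul_zero]
    · intro hj
      exact absurd (Finset.mem_range.2 (by omega)) hj
  intro j
  induction j with
  | zero => intro _; simp
  | succ j ih =>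
    intro hj h0
    have h1 := hT j
    rw [h0, map_zero] at h1
    have h2 : ((j + 1 : ℕ) : k) • x ^ j = 0 := by
      rw [Nat.cast_smul_eq_nsmul]
      exact h1.symm
    rcases smul_eq_zero.1 h2 with h | h
    · rw [CharP.cast_eq_zero_iff k p] at h
      exact absurd (Nat.le_of_dvd (Nat.succ_pos j) h) (by omega)
    · exact ih (by omega) h

end Struct0

section Struct

variable {k : Type u} [Field k] {A : Type v} [CommRing A] [HopfAlgebra k A]
  [FiniteDimensional k A] [IsLocalRing A]

open Polynomial in
/-- the structure of a simple local finite Hopf algebra containing a nonzero primitive -/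
theorem structure_of_primitive (p : ℕ) [Fact p.Prime] [CharP k p]
    (hsimple : ∀ I : Ideal A, I.IsHopfIdeal k →
      I = ⊥ ∨ I = RingHom.ker (Bialgebra.counitAlgHom k A))
    (x : A) (hx0 : x ≠ 0) (hx : comul (R := k) x = x ⊗ₜ[k] (1 : A) + (1 : A) ⊗ₜ[k] x) :
    x ^ p = 0 ∧ LinearIndependent k (fun i : Fin p => x ^ (i : ℕ)) ∧
      Module.finrank k A = p := by
  classical
  have hp : p.Prime := Fact.out
  have hp2 : 2 ≤ p := hp.two_le
  have hε : counit (R := k) x = 0 := counit_eq_zero_of_primitive x hx
  have hnil : IsNilpotent x := SimpleMult.isNilpotent_of_counit_eq_zero (k := k) x hε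
  have hchar : CharP (A ⊗[k] A) p :=
    charP_of_injective_algebraMap (algebraMap k (A ⊗[k] A)).injective p
  have hxp : comul (R := k) (x ^ p) = (x ^ p) ⊗ₜ[k] (1 : A) + (1 : A) ⊗ₜ[k] (x ^ p) := by
    rw [Bialgebra.comul_pow, hx, add_pow_char, Algebra.TensorProduct.tmul_pow,
      Algebra.TensorProduct.tmul_pow, one_pow]
  have hxp0 : x ^ p = 0 := by
    rcases hsimple _ (isHopfIdeal_span_primitive (x ^ p) hxp) with h | h
    · simpa [Ideal.span_singleton_eq_bot] using h
    · exfalso
      have hxmem : x ∈ Ideal.span {x ^ p} := by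
        rw [h, RingHom.mem_ker]
        exact hε
      obtain ⟨a, ha⟩ := Ideal.mem_span_singleton'.1 hxmem
      apply hx0
      apply eq_zero_of_eq_mul_mul x (x ^ (p - 2) * a) hnil
      have hpow : x ^ p = x ^ 2 * x ^ (p - 2) := by
        rw [← pow_add]
        congr 1
        omega
      calc x = a * x ^ p := ha.symm
        _ = a * (x ^ 2 * x ^ (p - 2)) := by rw [hpow]
        _ = x * (x * (x ^ (p - 2) * a)) := by ring
  have hker : Ideal.span {x} = RingHom.ker (Bialgebra.counitAlgHom k A) := by
    rcases hsimple _ (isHopfIdeal_span_primitive x hx) with h | h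
    · exact absurd (Ideal.span_singleton_eq_bot.1 h) hx0
    · exact h
  -- a functional dual to `x`
  have hxW : x ∉ Submodule.span k {(1 : A)} ⊔ (Ideal.span {x ^ 2}).restrictScalars k := by
    intro hmem
    obtain ⟨y, hy, z, hz, hyz⟩ := Submodule.mem_sup.1 hmem
    obtain ⟨c, rfl⟩ := Submodule.mem_span_singleton.1 hy
    obtain ⟨a, rfl⟩ := Ideal.mem_span_singleton'.1 ((Submodule.restrictScalars_mem _ _ _).1 hz)
    have hc : c = 0 := by
      have := congrArg (counit (R := k)) hyz
      simpa [hε] using this
    apply hx0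
    apply eq_zero_of_eq_mul_mul x a hnil
    rw [hc, zero_smul, zero_add] at hyz
    calc x = a * x ^ 2 := hyz.symm
      _ = x * (x * a) := by ring
  obtain ⟨ψ0, hψ0x, hψ0⟩ := Submodule.exists_le_ker_of_notMem hxW
  let ψ : A →ₗ[k] k := (ψ0 x)⁻¹ • ψ0
  have hψ1 : ψ 1 = 0 := by
    have : ψ0 1 = 0 := hψ0 (Submodule.mem_sup_left (Submodule.subset_span rfl))
    simp [ψ, this]
  have hψx : ψ x = 1 := by
    simp [ψ, inv_mul_cancel₀ hψ0x]
  have hψ2 : ∀ a : A, ψ (x ^ 2 * a) = 0 := by
    intro a
    have : ψ0 (x ^ 2 * a) = 0 := by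
      apply hψ0
      apply Submodule.mem_sup_right
      rw [Submodule.restrictScalars_mem]
      exact Ideal.mul_mem_right _ _ (Ideal.subset_span rfl)
    simp [ψ, this]
  have hne : ∀ j : ℕ, j < p → x ^ j ≠ 0 := pow_ne_zero_of_primitive p x hx ψ hψ1 hψx hψ2
  -- linear independence through the minimal polynomial
  have hint : IsIntegral k x := Algebra.IsIntegral.isIntegral x
  have hdvd : minpoly k x ∣ (X : k[X]) ^ p := minpoly.dvd k x (by simp [hxp0])
  obtain ⟨m, hm, hassoc⟩ := (dvd_prime_pow Polynomial.prime_X p).1 hdvd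
  have heq : minpoly k x = X ^ m :=
    Polynomial.eq_of_monic_of_associated (minpoly.monic hint) (Polynomial.monic_X_pow m) hassoc
  have hm0 : x ^ m = 0 := by
    have := minpoly.aeval k x
    rw [heq] at this
    simpa using this
  have hmp : m = p := by
    by_contra hne'
    exact hne m (lt_of_le_of_ne hm hne') hm0
  have hdeg : (minpoly k x).natDegree = p := by
    rw [heq, Polynomial.natDegree_X_pow, hmp]
  have hli := linearIndependent_pow (K := k) x
  rw [hdeg] at hli
  -- spanning
  have hspan : ∀ j : ℕ, j ≤ p → ∀ a : A,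
      a ∈ Submodule.span k (Set.range fun i : Fin p => x ^ (i : ℕ)) ⊔
        (Ideal.span {x ^ j}).restrictScalars k := by
    intro j
    induction j with
    | zero =>
      intro _ a
      apply Submodule.mem_sup_right
      rw [Submodule.restrictScalars_mem, pow_zero, Ideal.span_singleton_one]
      trivial
    | succ j ih =>
      intro hj a
      obtain ⟨w, hw, z, hz, rfl⟩ := Submodule.mem_sup.1 (ih (by omega) a)
      obtain ⟨a', rfl⟩ := Ideal.mem_span_singleton'.1 ((Submodule.restrictScalars_mem _ _ _).1 hz)
      have hmem : a' - algebraMap k A (counit (R := k) a') ∈ Ideal.span {x} := by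
        rw [hker, RingHom.mem_ker]
        simp
      obtain ⟨a'', ha''⟩ := Ideal.mem_span_singleton'.1 hmem
      have hdecomp : w + a' * x ^ j = (w + counit (R := k) a' • x ^ j) + a'' * x ^ (j + 1) := by
        have : a' = algebraMap k A (counit (R := k) a') + a'' * x := by
          rw [ha'']; ring
        conv_lhs => rw [this]
        rw [Algebra.smul_def]
        ring
      rw [hdecomp]
      apply Submodule.add_mem_sup
      · apply Submodule.add_mem _ hw
        apply Submodule.smul_mem
        exact Submodule.subset_span ⟨⟨j, by omega⟩, rfl⟩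
      · rw [Submodule.restrictScalars_mem]
        exact Ideal.mul_mem_left _ _ (Ideal.subset_span rfl)
  have htop : ⊤ ≤ Submodule.span k (Set.range fun i : Fin p => x ^ (i : ℕ)) := by
    intro a _
    have := hspan p le_rfl a
    rw [hxp0] at this
    simpa using this
  refine ⟨hxp0, hli, ?_⟩
  have := Module.finrank_eq_card_basis (Module.Basis.mk hli htop)
  simpa using this

end Struct

end Groth.Agent.H83.SimpleBiinf
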