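import Groth.Agent.H83.FinDual

/-! Simple finite étale commutative group schemes over an algebraically closed field have
prime order. -/

set_option autoImplicit false
universe u v

namespace Groth.Agent.H83.SimpleEtale

open TensorProduct WithConv Coalgebra Groth.Agent.H83.FinDual

section Sep

variable {k : Type u} [Field k] {V : Type v} [AddCommGroup V] [Module k V] [FiniteDimensional k V]

/-- a spanning set of functionals separates the elements of `V ⊗ V` -/
theorem tensor_sep_of_span (S : Set (V →ₗ[k] k)) (hS : Submodule.span k S = ⊤) (t : V ⊗[k] V)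
    (h : ∀ f ∈ S, ∀ g ∈ S, LinearMap.mul' k k (TensorProduct.map f g t) = 0) : t = 0 := by
  apply tensor_sep
  intro f g
  have hf : f ∈ Submodule.span k S := hS ▸ Submodule.mem_top
  have hg : g ∈ Submodule.span k S := hS ▸ Submodule.mem_top
  have h1 : ∀ g' ∈ S, LinearMap.mul' k k (TensorProduct.map f g' t) = 0 := by
    intro g' hg'
    induction hf using Submodule.span_induction with
    | mem f' hf' => exact h f' hf' g' hg'
    | zero => simp
    | add f1 f2 _ _ h1 h2 => rw [TensorProduct.map_add_left]; simp [h1, h2]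
    | smul c f1 _ h1 => rw [TensorProduct.map_smul_left]; simp [h1]
  induction hg using Submodule.span_induction with
  | mem g' hg' => exact h1 g' hg'
  | zero => simp
  | add g1 g2 _ _ h1 h2 => rw [TensorProduct.map_add_right]; simp [h1, h2]
  | smul c g1 _ h1 => rw [TensorProduct.map_smul_right]; simp [h1]

end Sep

section Main

variable {k : Type u} [Field k] {A : Type v} [CommRing A] [HopfAlgebra k A]
  [FiniteDimensional k A]

local notation "GG" => WithConv (A →ₐ[k] k)

/-- the ideal of functions vanishing on a subgroup of points -/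
def vanishingIdeal (H : Subgroup GG) : Ideal A :=
  ⨅ h : H, RingHom.ker (h.1.ofConv : A →ₐ[k] k)

omit [FiniteDimensional k A] in
theorem mem_vanishingIdeal (H : Subgroup GG) (a : A) :
    a ∈ vanishingIdeal H ↔ ∀ h ∈ H, h.ofConv a = 0 := by
  simp [vanishingIdeal, RingHom.mem_ker]

/-- the vanishing ideal of a subgroup of points is a Hopf ideal -/
theorem isHopfIdeal_vanishingIdeal (H : Subgroup GG) : (vanishingIdeal H).IsHopfIdeal k := by
  classical
  refine { counit_eq_zero := ?_, map_mkQ_comul_eq_zero := ?_, antipode_mem := ?_ }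
  · intro a ha
    have := (mem_vanishingIdeal H a).1 ha 1 H.one_mem
    simpa using this
  · intro a ha
    set I := (vanishingIdeal H).restrictScalars k with hI
    let hbar : H → (A ⧸ I) →ₗ[k] k := fun h => I.liftQ h.1.ofConv.toLinearMap (by
      intro b hb
      exact (mem_vanishingIdeal H b).1 hb h.1 h.2)
    apply tensor_sep_of_span (Set.range hbar)
    · apply Submodule.span_eq_top_of_ne_zero
      intro z hz
      obtain ⟨b, rfl⟩ := I.mkQ_surjective z
      have hb : b ∉ vanishingIdeal H := by
        intro hb
        apply hz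
        exact (Submodule.Quotient.mk_eq_zero I).2 hb
      rw [mem_vanishingIdeal] at hb
      push Not at hb
      obtain ⟨h, hh, hhb⟩ := hb
      exact ⟨hbar ⟨h, hh⟩, ⟨⟨h, hh⟩, rfl⟩, hhb⟩
    · rintro _ ⟨h, rfl⟩ _ ⟨h', rfl⟩
      rw [TensorProduct.map_map]
      have h1 : hbar h ∘ₗ I.mkQ = h.1.ofConv.toLinearMap := I.liftQ_mkQ _ _
      have h2 : hbar h' ∘ₗ I.mkQ = h'.1.ofConv.toLinearMap := I.liftQ_mkQ _ _
      rw [h1, h2]
      have := (mem_vanishingIdeal H a).1 ha (h.1 * h'.1) (H.mul_mem h.2 h'.2)
      exact this
  · intro a ha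
    rw [mem_vanishingIdeal] at ha ⊢
    intro h hh
    exact ha h⁻¹ (H.inv_mem hh)

/-- a simple finite étale commutative group over an algebraically closed field has prime
order -/
theorem main [IsAlgClosed k] [IsReduced A] (hA : 1 < Module.finrank k A)
    (hsimple : ∀ I : Ideal A, I.IsHopfIdeal k →
      I = ⊥ ∨ I = RingHom.ker (Bialgebra.counitAlgHom k A)) :
    (Module.finrank k A).Prime := by
  classical
  have hfinG : Finite GG := Finite.of_equiv _ (WithConv.equiv (A →ₐ[k] k)).symm
  have hkerne : ∃ a : A, a ≠ 0 ∧ counit (R := k) a = 0 := by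
    by_contra hcon
    push Not at hcon
    have hinj : Function.Injective (counit (R := k) : A →ₗ[k] k) := by
      rw [← LinearMap.ker_eq_bot, eq_bot_iff]
      intro a ha
      by_contra h0
      exact hcon a h0 ha
    have := LinearMap.finrank_le_finrank_of_injective hinj
    rw [Module.finrank_self] at this
    omega
  obtain ⟨a, ha0, haε⟩ := hkerne
  obtain ⟨χ0, hχ0⟩ := exists_algHom_ne_zero (k := k) a ha0
  have hne1 : (toConv χ0 : GG) ≠ 1 := by
    intro h
    apply hχ0
    have := congrArg (fun g : GG => g.ofConv a) h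
    simpa [haε] using this
  have hcard1 : Nat.card GG ≠ 1 := by
    intro h
    rw [Nat.card_eq_one_iff_unique] at h
    exact hne1 (h.1.elim _ _)
  obtain ⟨ℓ, hℓ, hdvd⟩ := Nat.exists_prime_and_dvd hcard1
  have : Fact ℓ.Prime := ⟨hℓ⟩
  obtain ⟨χ, hχ⟩ := exists_prime_orderOf_dvd_card' ℓ hdvd
  have hHcard : Nat.card (Subgroup.zpowers χ) = ℓ := by rw [Nat.card_zpowers, hχ]
  have hχ1 : χ ≠ 1 := by
    rintro rfl
    rw [orderOf_one] at hχ
    exact hℓ.one_lt.ne hχ
  rcases hsimple _ (isHopfIdeal_vanishingIdeal (Subgroup.zpowers χ)) with h | h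
  · let ev : A →ₗ[k] (Subgroup.zpowers χ → k) := LinearMap.pi fun h => h.1.ofConv.toLinearMap
    have hinj : Function.Injective ev := by
      rw [← LinearMap.ker_eq_bot, eq_bot_iff]
      intro b hb
      have hb' : b ∈ vanishingIdeal (Subgroup.zpowers χ) := by
        rw [mem_vanishingIdeal]
        intro h' hh'
        have := congrFun (LinearMap.mem_ker.1 hb) ⟨h', hh'⟩
        simpa [ev] using this
      rw [h] at hb'
      simpa using hb'
    have h1 := LinearMap.finrank_le_finrank_of_injective hinj
    have hfinH : Fintype (Subgroup.zpowers χ) := Fintype.ofFinite _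
    rw [Module.finrank_fintype_fun_eq_card, ← Nat.card_eq_fintype_card, hHcard] at h1
    have h2 : Nat.card GG ≤ Module.finrank k A := by
      have := card_algHom_le_finrank k A k
      rwa [← Nat.card_congr (WithConv.equiv (A →ₐ[k] k))] at this
    have h3 : Nat.card (Subgroup.zpowers χ) ≤ Nat.card GG := Subgroup.card_le_card_group _
    have : Module.finrank k A = ℓ := by omega
    rw [this]
    exact hℓ
  · exfalso
    apply hχ1
    apply WithConv.ofConv_injective
    apply AlgHom.ext
    intro b
    have hmem : b - algebraMap k A (counit (R := k) b) ∈ vanishingIdeal (Subgroup.zpowers χ) := by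
      rw [h, RingHom.mem_ker]
      simp
    have := (mem_vanishingIdeal (Subgroup.zpowers χ) _).1 hmem χ (Subgroup.mem_zpowers χ)
    rw [map_sub, sub_eq_zero] at this
    rw [this]
    simp

end Main

end Groth.Agent.H83.SimpleEtale
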