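import Groth.Agent.H83.NormalFixed
import Groth.Agent.H41.Subcoalg
import Groth.Prelude.Def_W4c6stackyreslrsPsRefl

/-! The stabiliser ideal of a set of vectors of a comodule over a commutative Hopf algebra over a
field is a Hopf ideal, and it is the least ideal whose closed subscheme fixes the set. -/

set_option autoImplicit false
universe u v w w'

namespace Groth.Agent.H83.Stab

open TensorProduct HopfRep Groth.Agent.H83

section Coef

variable {k : Type u} [Field k] {R : Type w} [AddCommGroup R] [Module k R]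

/-- the coefficient of an element of `R ⊗ N` along a functional on `R` -/
noncomputable def cf {N : Type w'} [AddCommGroup N] [Module k N] (e : R →ₗ[k] k) :
    R ⊗[k] N →ₗ[k] N :=
  (TensorProduct.lid k N).toLinearMap ∘ₗ e.rTensor N

theorem cf_tmul {N : Type w'} [AddCommGroup N] [Module k N] (e : R →ₗ[k] k) (r : R) (n : N) :
    cf e (r ⊗ₜ[k] n) = e r • n := by
  simp [cf]

theorem cf_lTensor {N : Type w'} [AddCommGroup N] [Module k N] {N' : Type*} [AddCommGroup N']
    [Module k N'] (e : R →ₗ[k] k) (g : N →ₗ[k] N') (x : R ⊗[k] N) :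
    cf e (g.lTensor R x) = g (cf e x) := by
  induction x with
  | zero => simp
  | tmul r n => simp [cf_tmul]
  | add x y hx hy => simp only [map_add, hx, hy]

theorem eq_zero_of_cf {N : Type w'} [AddCommGroup N] [Module k N] (x : R ⊗[k] N)
    (h : ∀ e : R →ₗ[k] k, cf e x = 0) : x = 0 :=
  Groth.Agent.H41.eq_zero_of_forall_rTensor x h

end Coef

section Stab

variable {k : Type u} [Field k] {A : Type v} [CommRing A] [HopfAlgebra k A]
  {R : Type w} [AddCommGroup R] [Module k R] [Comod k A R]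

variable (k A) in
/-- the defect of invariance -/
noncomputable def dl (f : R) : R ⊗[k] A := Comod.coact (k := k) (A := A) f - f ⊗ₜ[k] (1 : A)

theorem lTensor_dl {N : Type*} [AddCommGroup N] [Module k N] (g : A →ₗ[k] N) (f : R) :
    g.lTensor R (dl k A f) = ptAct g f - f ⊗ₜ[k] g 1 := by
  rw [dl, map_sub, LinearMap.lTensor_tmul, ptAct_apply]

theorem mem_quotInvariants_iff' (I : Ideal A) (f : R) :
    f ∈ GLin.quotInvariants k A R I ↔ ∀ e : R →ₗ[k] k, cf e (dl k A f) ∈ I := by
  rw [GLin.mem_quotInvariants_iff]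
  have key : ∀ e : R →ₗ[k] k, Ideal.Quotient.mk I (cf e (dl k A f)) =
      cf e ((Ideal.Quotient.mkₐ k I).toLinearMap.lTensor R (Comod.coact (k := k) (A := A) f) -
        f ⊗ₜ[k] (1 : A ⧸ I)) := by
    intro e
    have := cf_lTensor e (Ideal.Quotient.mkₐ k I).toLinearMap (dl k A f)
    rw [lTensor_dl, ptAct_apply] at this
    have h1 : (Ideal.Quotient.mkₐ k I).toLinearMap (1 : A) = (1 : A ⧸ I) :=
      map_one (Ideal.Quotient.mkₐ k I)
    rw [h1] at this
    rw [this]
    rfl
  constructor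
  · intro h e
    rw [← Ideal.Quotient.eq_zero_iff_mem, key, h, sub_self, map_zero]
  · intro h
    rw [← sub_eq_zero]
    apply eq_zero_of_cf
    intro e
    rw [← key, Ideal.Quotient.eq_zero_iff_mem]
    exact h e

theorem quotInvariants_mono {I I' : Ideal A} (h : I ≤ I') :
    GLin.quotInvariants k A R I ≤ GLin.quotInvariants k A R I' := by
  intro f hf
  rw [mem_quotInvariants_iff'] at hf ⊢
  exact fun e => h (hf e)

variable (k A) in
/-- the ideal of the stabiliser of a set of vectors -/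
noncomputable def stabIdeal (F : Set R) : Ideal A :=
  Ideal.span {a | ∃ f ∈ F, ∃ e : R →ₗ[k] k, a = cf e (dl k A f)}

theorem subset_quotInvariants_iff (F : Set R) (I : Ideal A) :
    (∀ f ∈ F, f ∈ GLin.quotInvariants k A R I) ↔ stabIdeal k A F ≤ I := by
  rw [stabIdeal, Ideal.span_le]
  constructor
  · rintro h a ⟨f, hf, e, rfl⟩
    exact (mem_quotInvariants_iff' I f).mp (h f hf) e
  · intro h f hf
    rw [mem_quotInvariants_iff']
    exact fun e => h ⟨f, hf, e, rfl⟩

theorem ptAct_mk_stabIdeal (F : Set R) (f : R) (hf : f ∈ F) :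
    ptAct (Ideal.Quotient.mkₐ k (stabIdeal k A F)).toLinearMap f =
      f ⊗ₜ[k] (1 : A ⧸ stabIdeal k A F) :=
  (GLin.mem_quotInvariants_iff k A R _ f).mp
    ((subset_quotInvariants_iff F (stabIdeal k A F)).mpr le_rfl f hf)

end Stab

section Hopf

variable {k : Type u} [Field k] {A : Type v} [CommRing A] [HopfAlgebra k A]
  {R : Type w} [AddCommGroup R] [Module k R] [Comod k A R]

theorem counit_lTensor_coact (f : R) :
    (Coalgebra.counit (R := k) (A := A)).lTensor R (Comod.coact (k := k) (A := A) f) =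
      f ⊗ₜ[k] (1 : k) := by
  have h2 := LinearMap.congr_fun (Comod.counit_comp (k := k) (A := A) (V := R)) f
  simpa only [LinearMap.comp_apply, LinearMap.flip_apply, TensorProduct.mk_apply] using h2

theorem counit_cf_dl (e : R →ₗ[k] k) (f : R) :
    Coalgebra.counit (R := k) (cf e (dl k A f)) = 0 := by
  have h := cf_lTensor e (Coalgebra.counit (R := k) (A := A)) (dl k A f)
  rw [← h, lTensor_dl, ptAct_apply, counit_lTensor_coact, Bialgebra.counit_one, sub_self, map_zero]

theorem map_ptAct_eq_rTensor {N N' : Type*} [AddCommGroup N] [Module k N] [AddCommGroup N']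
    [Module k N'] (g : A →ₗ[k] N) (g' : A →ₗ[k] N') (f : R) :
    TensorProduct.map (ptAct (V := R) g) g' (Comod.coact (k := k) (A := A) f) =
      (ptAct (V := R) g).rTensor N' (ptAct g' f) := by
  have : TensorProduct.map (ptAct (V := R) g) g' =
      (ptAct (V := R) g).rTensor N' ∘ₗ g'.lTensor R := by
    rw [LinearMap.rTensor_comp_lTensor]
  rw [this, LinearMap.comp_apply, ← ptAct_apply]

theorem ptAct_comul_of_fixed {Q : Type*} [CommRing Q] [Algebra k Q] (π : A →ₐ[k] Q) (f : R)
    (hf : ptAct π.toLinearMap f = f ⊗ₜ[k] (1 : Q)) :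
    ptAct (TensorProduct.map π.toLinearMap π.toLinearMap ∘ₗ Coalgebra.comul) f =
      f ⊗ₜ[k] (1 : Q ⊗[k] Q) := by
  have h := map_ptAct_coact (V := R) π.toLinearMap π.toLinearMap f
  rw [map_ptAct_eq_rTensor, hf, LinearMap.rTensor_tmul, hf] at h
  have h2 := congrArg (TensorProduct.assoc k R Q Q) h
  rw [LinearEquiv.apply_symm_apply, TensorProduct.assoc_tmul] at h2
  rw [← h2, Algebra.TensorProduct.one_def]

theorem ptAct_antipode_of_fixed {Q : Type*} [CommRing Q] [Algebra k Q] (π : A →ₐ[k] Q) (f : R)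
    (hf : ptAct π.toLinearMap f = f ⊗ₜ[k] (1 : Q)) :
    ptAct (π.toLinearMap ∘ₗ HopfAlgebra.antipode k) f = f ⊗ₜ[k] (1 : Q) := by
  obtain ⟨σ, hσ⟩ : ∃ σ : A →ₗ[k] Q, σ = π.toLinearMap ∘ₗ HopfAlgebra.antipode k := ⟨_, rfl⟩
  rw [← hσ]
  have h := map_ptAct_coact (V := R) σ π.toLinearMap f
  rw [map_ptAct_eq_rTensor, hf, LinearMap.rTensor_tmul] at h
  have h2 := congrArg (fun z => (LinearMap.mul' k Q).lTensor R (TensorProduct.assoc k R Q Q z)) h
  simp only [LinearEquiv.apply_symm_apply] at h2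
  rw [lTensor_mul'_assoc_tmul_one] at h2
  have h3 : LinearMap.mul' k Q ∘ₗ TensorProduct.map σ π.toLinearMap ∘ₗ Coalgebra.comul =
      (Algebra.linearMap k Q) ∘ₗ Coalgebra.counit := by
    have e1 : LinearMap.mul' k Q ∘ₗ TensorProduct.map σ π.toLinearMap =
        π.toLinearMap ∘ₗ LinearMap.mul' k A ∘ₗ (HopfAlgebra.antipode k).rTensor A := by
      rw [hσ]
      ext a b
      simp
    rw [← LinearMap.comp_assoc, e1, LinearMap.comp_assoc, LinearMap.comp_assoc,
      HopfAlgebra.mul_antipode_rTensor_comul, ← LinearMap.comp_assoc]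
    congr 1
    ext
    simp
  rw [h2, ptAct_apply, ← LinearMap.comp_apply, ← LinearMap.lTensor_comp, h3,
    LinearMap.lTensor_comp, LinearMap.comp_apply, counit_lTensor_coact, LinearMap.lTensor_tmul]
  simp

theorem isHopfIdeal_stabIdeal (F : Set R) : (stabIdeal k A F).IsHopfIdeal k := by
  obtain ⟨J, hJ⟩ : ∃ J : Ideal A, J = stabIdeal k A F := ⟨_, rfl⟩
  have hfix : ∀ f ∈ F, ptAct (Ideal.Quotient.mkₐ k J).toLinearMap f = f ⊗ₜ[k] (1 : A ⧸ J) := by
    rw [hJ]; exact fun f hf => ptAct_mk_stabIdeal F f hf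
  have hspan : J = Ideal.span {a | ∃ f ∈ F, ∃ e : R →ₗ[k] k, a = cf e (dl k A f)} := hJ
  rw [← hJ]
  -- counit
  have hcounit : ∀ x ∈ J, Coalgebra.counit (R := k) x = 0 := by
    have : J ≤ RingHom.ker (Bialgebra.counitAlgHom k A) := by
      rw [hspan, Ideal.span_le]
      rintro a ⟨f, -, e, rfl⟩
      exact counit_cf_dl e f
    exact fun x hx => this hx
  -- comultiplication
  obtain ⟨Ψ, hΨdef⟩ : ∃ Ψ : A →ₐ[k] (A ⧸ J) ⊗[k] (A ⧸ J), Ψ =
      (Algebra.TensorProduct.map (Ideal.Quotient.mkₐ k J) (Ideal.Quotient.mkₐ k J)).comp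
        (Bialgebra.comulAlgHom k A) := ⟨_, rfl⟩
  have hΨlin : Ψ.toLinearMap = TensorProduct.map (Ideal.Quotient.mkₐ k J).toLinearMap
      (Ideal.Quotient.mkₐ k J).toLinearMap ∘ₗ Coalgebra.comul := by
    rw [hΨdef]; rfl
  have hΨ : ∀ x ∈ J, Ψ x = 0 := by
    have : J ≤ RingHom.ker Ψ := by
      refine le_trans hspan.le (Ideal.span_le.mpr ?_)
      rintro a ⟨f, hf, e, rfl⟩
      change Ψ (cf e (dl k A f)) = 0
      have h := cf_lTensor e Ψ.toLinearMap (dl k A f)
      rw [lTensor_dl, hΨlin, ptAct_comul_of_fixed _ f (hfix f hf), ← hΨlin] at h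
      have h1 : Ψ.toLinearMap (1 : A) = 1 := map_one Ψ
      rw [h1, sub_self, map_zero] at h
      exact h.symm
    exact fun x hx => this hx
  have hco : (J.restrictScalars k).IsCoideal :=
    { counit_eq_zero := fun x hx => hcounit x hx
      map_mkQ_comul_eq_zero := fun x hx => by
        have := hΨ x hx
        rw [hΨdef] at this
        exact this }
  exact
    { toIsCoideal := hco
      antipode_mem := by
        have : J ≤ J.comap (HopfAlgebra.antipodeAlgHom k A) := by
          refine le_trans hspan.le (Ideal.span_le.mpr ?_)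
          rintro a ⟨f, hf, e, rfl⟩
          change HopfAlgebra.antipode k (cf e (dl k A f)) ∈ J
          rw [← Ideal.Quotient.eq_zero_iff_mem]
          have h := cf_lTensor e ((Ideal.Quotient.mkₐ k J).toLinearMap ∘ₗ HopfAlgebra.antipode k)
            (dl k A f)
          rw [lTensor_dl, ptAct_antipode_of_fixed _ f (hfix f hf)] at h
          have h1 : ((Ideal.Quotient.mkₐ k J).toLinearMap ∘ₗ HopfAlgebra.antipode k) (1 : A) = 1 := by
            rw [LinearMap.comp_apply, HopfAlgebra.antipode_one]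
            exact map_one (Ideal.Quotient.mkₐ k J)
          rw [h1, sub_self, map_zero] at h
          exact h.symm
        exact fun x hx => this hx }

end Hopf

end Groth.Agent.H83.Stab
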