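import Groth.Agent.H83.PrimeClassMain
import Groth.Agent.H83.FrobFixed
import Groth.Agent.H83.Antipode

/-! A non-reduced finite group scheme over an algebraically closed field of characteristic `p`
contains `μ_p` or `α_p`. -/

set_option autoImplicit false
universe u v

namespace Groth.Agent.H83.SubMuAlpha

open TensorProduct WithConv Coalgebra Groth.Agent.H83.InvDer Groth.Agent.H83.PrimeOrder
  Groth.Agent.H83.PrimeClassLocal

section Reduced

variable {k : Type u} [Field k] [IsAlgClosed k] {A : Type v} [CommRing A] [HopfAlgebra k A]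
  [Module.Finite k A]

/-- a finite group scheme whose cotangent space at the identity vanishes is reduced -/
theorem isReduced_of_le_sq
    (h : RingHom.ker (Bialgebra.counitAlgHom k A) ≤ RingHom.ker (Bialgebra.counitAlgHom k A) ^ 2) :
    IsReduced A := by
  have hart : IsArtinianRing A := IsArtinianRing.of_finite k A
  have hpow : ∀ n : ℕ, n ≠ 0 → RingHom.ker (Bialgebra.counitAlgHom k A) ^ n =
      RingHom.ker (Bialgebra.counitAlgHom k A) := by
    intro n hn
    induction n with
    | zero => exact absurd rfl hn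
    | succ n ih =>
      rcases Nat.eq_zero_or_pos n with rfl | hpos
      · rw [zero_add, pow_one]
      · rw [pow_succ, ih hpos.ne', ← sq]
        exact le_antisymm (Ideal.pow_le_self two_ne_zero) h
  obtain ⟨N, hN, hst⟩ := KillOrder.exists_stable (RingHom.ker (Bialgebra.counitAlgHom k A))
  have hbot := KillOrder.iInf_ker_pow_eq_bot N hst
  have h2 : ∀ x : A →ₐ[k] k, RingHom.ker x ^ N = RingHom.ker x := by
    intro x
    rw [KillOrder.ker_pow_eq_map x N, hpow N hN, ← KillOrder.ker_eq_map]
  simp_rw [h2] at hbot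
  rw [KillOrder.iInf_ker_eq] at hbot
  exact nilradical_eq_bot_iff.1 hbot

omit [IsAlgClosed k] [Module.Finite k A] in
/-- a point derivation with a coordinate, when the cotangent space at the identity is nonzero -/
theorem exists_pointDer_of_not_le
    (h : ¬ RingHom.ker (Bialgebra.counitAlgHom k A) ≤
      RingHom.ker (Bialgebra.counitAlgHom k A) ^ 2) :
    ∃ (d : A →ₗ[k] k) (x : A), IsPointDer d ∧ counit (R := k) x = 0 ∧ d x = 1 := by
  obtain ⟨I, hI⟩ : ∃ I : Ideal A, I = RingHom.ker (Bialgebra.counitAlgHom k A) := ⟨_, rfl⟩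
  rw [← hI] at h
  have hImem : ∀ a : A, a ∈ I ↔ counit (R := k) a = 0 := by
    intro a
    rw [hI, RingHom.mem_ker]
    rfl
  have hex : ∃ x : I, I.toCotangent x ≠ 0 := by
    by_contra hall
    push Not at hall
    exact h fun x hx => (Ideal.toCotangent_eq_zero I ⟨x, hx⟩).1 (hall ⟨x, hx⟩)
  obtain ⟨x, hx⟩ := hex
  obtain ⟨φ, hφ⟩ := Module.Projective.exists_dual_eq_one k hx
  refine ⟨HeightOne.pointDer I hImem φ, (x : A), HeightOne.pointDer_mul I hImem φ,
    (hImem _).1 x.2, ?_⟩
  rw [HeightOne.pointDer_apply_of_mem I hImem φ _ x.2]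
  exact hφ

end Reduced

section PointDerSub

variable {k : Type u} [Field k] {A : Type v} [CommRing A] [Bialgebra k A]

local notation "DD" => WithConv (A →ₗ[k] k)

/-- the subspace of point derivations at the identity -/
def pointDerSub : Submodule k DD where
  carrier := {f | IsPointDer f.ofConv}
  add_mem' := by
    intro f g hf hg a b
    have h1 := hf a b
    have h2 := hg a b
    simp only [WithConv.ofConv_add, LinearMap.add_apply, h1, h2]
    ring
  zero_mem' := by
    intro a b
    simp
  smul_mem' := by
    intro c f hf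
    exact IsPointDer.smul hf c

theorem mem_pointDerSub (f : DD) : f ∈ pointDerSub (k := k) (A := A) ↔ IsPointDer f.ofConv :=
  Iff.rfl

theorem pow_pow_mem (p : ℕ) [Fact p.Prime] [CharP k p] (y : DD)
    (hy : y ∈ pointDerSub (k := k) (A := A)) (i : ℕ) : y ^ (p ^ i) ∈ pointDerSub := by
  induction i with
  | zero => rwa [pow_zero, pow_one]
  | succ i ih =>
    rw [pow_succ, pow_mul]
    exact isPointDer_pow p _ ih

/-- the powers of an element with `v ^ p = 0` or `v ^ p = v` lie in the span of the first `p` -/
theorem pow_mem_span (p : ℕ) (hp : 2 ≤ p) (v : DD) (hv : v ^ p = 0 ∨ v ^ p = v) (n : ℕ) :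
    v ^ n ∈ Submodule.span k (Set.range fun i : Fin p => v ^ (i : ℕ)) := by
  induction n using Nat.strong_induction_on with
  | _ n ih =>
    rcases Nat.lt_or_ge n p with hn | hn
    · exact Submodule.subset_span ⟨⟨n, hn⟩, rfl⟩
    · obtain ⟨m, rfl⟩ := Nat.exists_eq_add_of_le hn
      rw [pow_add]
      rcases hv with h0 | h1
      · rw [h0, zero_mul]
        exact Submodule.zero_mem _
      · rw [h1, ← pow_succ']
        exact ih _ (by omega)

end PointDerSub

section SubIdeal

variable {k : Type u} [Field k] {A : Type v} [CommRing A] [HopfAlgebra k A]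

local notation "DD" => WithConv (A →ₗ[k] k)

/-- the iterates of a derivation followed by the counit kill the ideal generated by an element
on which they all vanish -/
theorem counit_der_pow_mul (D : Derivation k A A) (n : ℕ) (a b : A)
    (ha : ∀ m : ℕ, counit (R := k) (((D : A →ₗ[k] A) ^ m) a) = 0) :
    counit (R := k) (((D : A →ₗ[k] A) ^ n) (b * a)) = 0 := by
  induction n generalizing a b with
  | zero =>
    have h0 := ha 0
    rw [pow_zero, Module.End.one_apply] at h0 ⊢
    rw [Bialgebra.counit_mul, h0, mul_zero]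
  | succ n ih =>
    rw [pow_succ, Module.End.mul_apply]
    have h1 : (D : A →ₗ[k] A) (b * a) = b * D a + D b * a := by
      show D (b * a) = _
      rw [Derivation.leibniz, smul_eq_mul, smul_eq_mul]
      ring
    have h2 : ∀ m : ℕ, counit (R := k) (((D : A →ₗ[k] A) ^ m) (D a)) = 0 := by
      intro m
      have := ha (m + 1)
      rwa [pow_succ, Module.End.mul_apply] at this
    rw [h1, map_add, map_add, ih (D a) b h2, ih a (D b) ha, add_zero]

/-- the ideal of the subgroup scheme attached to a point derivation -/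
def subIdeal (d : A →ₗ[k] k) (hd : IsPointDer d) : Ideal A where
  carrier := {a | ∀ n : ℕ, ((toConv d : DD) ^ n).ofConv a = 0}
  add_mem' := by
    intro a b ha hb n
    rw [map_add, ha n, hb n, add_zero]
  zero_mem' := by
    intro n
    rw [map_zero]
  smul_mem' := by
    intro c a ha n
    rw [smul_eq_mul, pow_apply d hd]
    apply counit_der_pow_mul
    intro m
    rw [← pow_apply d hd]
    exact ha m

theorem mem_subIdeal (d : A →ₗ[k] k) (hd : IsPointDer d) (a : A) :
    a ∈ subIdeal d hd ↔ ∀ n : ℕ, ((toConv d : DD) ^ n).ofConv a = 0 := Iff.rfl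

theorem mem_subIdeal_of_lt (p : ℕ) (hp : 2 ≤ p) (d : A →ₗ[k] k) (hd : IsPointDer d)
    (hvp : (toConv d : DD) ^ p = 0 ∨ (toConv d : DD) ^ p = toConv d) (a : A)
    (h : ∀ i : Fin p, ((toConv d : DD) ^ (i : ℕ)).ofConv a = 0) : a ∈ subIdeal d hd := by
  intro n
  have hmem := pow_mem_span p hp (toConv d : DD) hvp n
  obtain ⟨w, hw⟩ : ∃ w : DD, w = (toConv d : DD) ^ n := ⟨_, rfl⟩
  rw [← hw] at hmem ⊢
  clear hw
  induction hmem using Submodule.span_induction with
  | mem f hf =>
    obtain ⟨i, rfl⟩ := hf
    exact h i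
  | zero => rfl
  | add f g _ _ hf hg =>
    rw [WithConv.ofConv_add, LinearMap.add_apply, hf, hg, add_zero]
  | smul c f _ hf =>
    rw [WithConv.ofConv_smul, LinearMap.smul_apply, hf, smul_zero]

end SubIdeal

section Coideal

variable {k : Type u} [Field k] {A : Type v} [CommRing A] [HopfAlgebra k A] [Module.Finite k A]

local notation "DD" => WithConv (A →ₗ[k] k)

/-- the comultiplication maps the ideal into the kernel of the tensor square of the quotient -/
theorem map_mk_comul_eq_zero (p : ℕ) (hp : 2 ≤ p) (d : A →ₗ[k] k) (hd : IsPointDer d)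
    (hvp : (toConv d : DD) ^ p = 0 ∨ (toConv d : DD) ^ p = toConv d) (a : A)
    (ha : a ∈ subIdeal d hd) :
    Algebra.TensorProduct.map (Ideal.Quotient.mkₐ k (subIdeal d hd))
      (Ideal.Quotient.mkₐ k (subIdeal d hd)) (comul (R := k) a) = 0 := by
  obtain ⟨J, hJ⟩ : ∃ J : Ideal A, J = subIdeal d hd := ⟨_, rfl⟩
  rw [← hJ]
  apply FinDual.tensor_sep
  intro f g
  have key : ∀ t : A ⊗[k] A, LinearMap.mul' k k (TensorProduct.map f g
      (Algebra.TensorProduct.map (Ideal.Quotient.mkₐ k J) (Ideal.Quotient.mkₐ k J) t)) =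
      LinearMap.mul' k k (TensorProduct.map (f ∘ₗ (Ideal.Quotient.mkₐ k J).toLinearMap)
        (g ∘ₗ (Ideal.Quotient.mkₐ k J).toLinearMap) t) := by
    intro t
    induction t using TensorProduct.induction_on with
    | zero => simp
    | tmul x y => simp
    | add x y hx hy => simp only [map_add, hx, hy]
  rw [key]
  have hspan : ∀ f : (A ⧸ J) →ₗ[k] k, (f ∘ₗ (Ideal.Quotient.mkₐ k J).toLinearMap) ∈
      Submodule.span k (Set.range fun i : Fin p => ((toConv d : DD) ^ (i : ℕ)).ofConv) := by
    intro f
    apply mem_span_of_iInf_ker_le_ker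
    intro x hx
    rw [Submodule.mem_iInf] at hx
    have hxJ : x ∈ J := by
      rw [hJ]
      exact mem_subIdeal_of_lt p hp d hd hvp x fun i => hx i
    rw [LinearMap.mem_ker, LinearMap.comp_apply]
    have : (Ideal.Quotient.mkₐ k J).toLinearMap x = 0 := Ideal.Quotient.eq_zero_iff_mem.2 hxJ
    rw [this, map_zero]
  have hbil : ∀ φ ∈ Submodule.span k
        (Set.range fun i : Fin p => ((toConv d : DD) ^ (i : ℕ)).ofConv),
      ∀ ψ ∈ Submodule.span k (Set.range fun i : Fin p => ((toConv d : DD) ^ (i : ℕ)).ofConv),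
      LinearMap.mul' k k (TensorProduct.map φ ψ (comul (R := k) a)) = 0 := by
    intro φ hφ ψ hψ
    induction hφ using Submodule.span_induction with
    | mem φ hφ =>
      obtain ⟨i, rfl⟩ := hφ
      induction hψ using Submodule.span_induction with
      | mem ψ hψ =>
        obtain ⟨j, rfl⟩ := hψ
        have h1 := ha ((i : ℕ) + (j : ℕ))
        rw [pow_add] at h1
        exact h1
      | zero => simp
      | add ψ ψ' _ _ h1 h2 =>
        rw [TensorProduct.map_add_right, LinearMap.add_apply, map_add, h1, h2, add_zero]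
      | smul c ψ _ h1 =>
        rw [TensorProduct.map_smul_right, LinearMap.smul_apply, map_smul, h1, smul_zero]
    | zero => simp
    | add φ φ' _ _ h1 h2 =>
      rw [TensorProduct.map_add_left, LinearMap.add_apply, map_add, h1, h2, add_zero]
    | smul c φ _ h1 =>
      rw [TensorProduct.map_smul_left, LinearMap.smul_apply, map_smul, h1, smul_zero]
  exact hbil _ (hspan f) _ (hspan g)

end Coideal

section AntipodeStable

variable {k : Type u} [Field k] {A : Type v} [CommRing A] [HopfAlgebra k A]

local notation "DD" => WithConv (A →ₗ[k] k)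

theorem mul'_map_counit_left (F : A →ₗ[k] k) (a : A) :
    LinearMap.mul' k k (TensorProduct.map (counit (R := k)) F (comul (R := k) a)) = F a := by
  have e : (Algebra.linearMap k k ∘ₗ counit (R := k) : A →ₗ[k] k) = counit := by
    ext x
    simp
  have h := congrArg (fun f : DD => f.ofConv a) (one_mul (toConv F : DD))
  change LinearMap.mul' k k (TensorProduct.map (Algebra.linearMap k k ∘ₗ counit (R := k)) F
    (comul (R := k) a)) = F a at h
  rwa [e] at h

theorem mul'_map_counit_right (F : A →ₗ[k] k) (a : A) :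
    LinearMap.mul' k k (TensorProduct.map F (counit (R := k)) (comul (R := k) a)) = F a := by
  have e : (Algebra.linearMap k k ∘ₗ counit (R := k) : A →ₗ[k] k) = counit := by
    ext x
    simp
  have h := congrArg (fun f : DD => f.ofConv a) (mul_one (toConv F : DD))
  change LinearMap.mul' k k (TensorProduct.map F (Algebra.linearMap k k ∘ₗ counit (R := k))
    (comul (R := k) a)) = F a at h
  rwa [e] at h

/-- transport of functionals along the antipode reverses the convolution product -/
theorem conv_comp_antipode (f g : DD) (a : A) :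
    (f * g).ofConv (HopfAlgebra.antipode k a) =
      ((toConv (g.ofConv ∘ₗ HopfAlgebra.antipode k) : DD) *
        toConv (f.ofConv ∘ₗ HopfAlgebra.antipode k)).ofConv a := by
  show LinearMap.mul' k k (TensorProduct.map f.ofConv g.ofConv
      (comul (R := k) (HopfAlgebra.antipode k a))) =
    LinearMap.mul' k k (TensorProduct.map (g.ofConv ∘ₗ HopfAlgebra.antipode k)
      (f.ofConv ∘ₗ HopfAlgebra.antipode k) (comul (R := k) a))
  rw [Groth.Agent.H83.comul_antipode]
  have key : ∀ t : A ⊗[k] A, LinearMap.mul' k k (TensorProduct.map f.ofConv g.ofConv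
      (TensorProduct.map (HopfAlgebra.antipode k) (HopfAlgebra.antipode k)
        (TensorProduct.comm k A A t))) =
      LinearMap.mul' k k (TensorProduct.map (g.ofConv ∘ₗ HopfAlgebra.antipode k)
        (f.ofConv ∘ₗ HopfAlgebra.antipode k) t) := by
    intro t
    induction t using TensorProduct.induction_on with
    | zero => simp
    | tmul x y => simp [mul_comm]
    | add x y hx hy => simp only [map_add, hx, hy]
  exact key _

/-- a point derivation is odd under the antipode -/
theorem pointDer_antipode (d : A →ₗ[k] k) (hd : IsPointDer d) (a : A) :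
    d (HopfAlgebra.antipode k a) = -d a := by
  have key : ∀ t : A ⊗[k] A,
      d (LinearMap.mul' k A (LinearMap.lTensor A (HopfAlgebra.antipode k) t)) =
      LinearMap.mul' k k (TensorProduct.map (counit (R := k)) (d ∘ₗ HopfAlgebra.antipode k) t) +
        LinearMap.mul' k k (TensorProduct.map d (counit (R := k)) t) := by
    intro t
    induction t using TensorProduct.induction_on with
    | zero => simp
    | tmul x y => simp [hd x (HopfAlgebra.antipode k y)]
    | add x y hx hy =>
      simp only [map_add, hx, hy]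
      ring
  have h1 := key (comul (R := k) a)
  rw [HopfAlgebra.mul_antipode_lTensor_comul_apply, mul'_map_counit_left, mul'_map_counit_right,
    Algebra.algebraMap_eq_smul_one, map_smul, hd.map_one, smul_zero, LinearMap.comp_apply] at h1
  linear_combination -h1

theorem antipode_mem_subIdeal (d : A →ₗ[k] k) (hd : IsPointDer d) (a : A)
    (ha : a ∈ subIdeal d hd) : HopfAlgebra.antipode k a ∈ subIdeal d hd := by
  have key : ∀ n : ℕ, ∀ a : A, ((toConv d : DD) ^ n).ofConv (HopfAlgebra.antipode k a) =
      ((-(toConv d : DD)) ^ n).ofConv a := by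
    intro n
    induction n with
    | zero =>
      intro a
      rw [pow_zero, pow_zero]
      show algebraMap k k (counit (R := k) (HopfAlgebra.antipode k a)) =
        algebraMap k k (counit (R := k) a)
      rw [HopfAlgebra.counit_antipode]
    | succ n ih =>
      intro a
      rw [pow_succ, conv_comp_antipode, pow_succ']
      have h1 : (toConv ((toConv d : DD).ofConv ∘ₗ HopfAlgebra.antipode k) : DD) = -toConv d := by
        apply WithConv.ofConv_injective
        ext x
        simp [pointDer_antipode d hd]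
      have h2 : (toConv (((toConv d : DD) ^ n).ofConv ∘ₗ HopfAlgebra.antipode k) : DD) =
          (-toConv d) ^ n := by
        apply WithConv.ofConv_injective
        ext x
        exact ih x
      rw [h1, h2]
  intro n
  rw [key]
  rcases Nat.even_or_odd n with he | ho
  · rw [show (-(toConv d : DD)) ^ n = (toConv d : DD) ^ n from Even.neg_pow (α := DD) he (toConv d)]
    exact ha n
  · rw [show (-(toConv d : DD)) ^ n = -(toConv d : DD) ^ n from Odd.neg_pow (α := DD) ho (toConv d),
      WithConv.ofConv_neg, LinearMap.neg_apply, ha n, neg_zero]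

end AntipodeStable

section HopfIdeal

variable {k : Type u} [Field k] {A : Type v} [CommRing A] [HopfAlgebra k A] [Module.Finite k A]

local notation "DD" => WithConv (A →ₗ[k] k)

/-- the ideal of the subgroup scheme attached to a point derivation with `v ^ p ∈ {0, v}` is a
Hopf ideal -/
theorem isHopfIdeal_subIdeal (p : ℕ) (hp : 2 ≤ p) (d : A →ₗ[k] k) (hd : IsPointDer d)
    (hvp : (toConv d : DD) ^ p = 0 ∨ (toConv d : DD) ^ p = toConv d) :
    (subIdeal d hd).IsHopfIdeal k := by
  refine { counit_eq_zero := ?_, map_mkQ_comul_eq_zero := ?_, antipode_mem := ?_ }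
  · intro a ha
    have h0 := ha 0
    rw [pow_zero] at h0
    exact h0
  · intro a ha
    exact map_mk_comul_eq_zero p hp d hd hvp a ha
  · intro a ha
    exact antipode_mem_subIdeal d hd a ha

end HopfIdeal

section Quot

variable {k : Type u} [Field k] {A : Type v} [CommRing A] [HopfAlgebra k A] [Module.Finite k A]

local notation "DD" => WithConv (A →ₗ[k] k)

/-- the order of the subgroup scheme attached to a point derivation with `v ^ p ∈ {0, v}` -/
theorem finrank_quot (p : ℕ) [Fact p.Prime] [CharP k p] (d : A →ₗ[k] k) (hd : IsPointDer d)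
    (hvp : (toConv d : DD) ^ p = 0 ∨ (toConv d : DD) ^ p = toConv d)
    (x : A) (hx : counit (R := k) x = 0) (hdx : d x = 1) :
    Module.finrank k (A ⧸ subIdeal d hd) = p := by
  have hp : p.Prime := Fact.out
  obtain ⟨L, hL⟩ : ∃ L : Fin p → Module.Dual k A,
      L = fun i : Fin p => ((toConv d : DD) ^ (i : ℕ)).ofConv := ⟨_, rfl⟩
  have hli : LinearIndependent k L := by
    have h1 := linearIndependent_pow p (factorial_ne_zero p hp) d hd x hx hdx
    have h2 := h1.map' (WithConv.linearEquiv k (A →ₗ[k] k)).toLinearMap (LinearEquiv.ker _)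
    rw [hL]
    exact h2
  obtain ⟨Φ, hΦ⟩ : ∃ Φ : Subspace k (Module.Dual k A), Φ = Submodule.span k (Set.range L) :=
    ⟨_, rfl⟩
  have hΦrank : Module.finrank k Φ = p := by
    rw [hΦ, finrank_span_eq_card hli, Fintype.card_fin]
  have hJ : (subIdeal d hd).restrictScalars k = Φ.dualCoannihilator := by
    ext a
    rw [Submodule.restrictScalars_mem, Submodule.mem_dualCoannihilator]
    constructor
    · intro ha φ hφ
      rw [hΦ] at hφ
      induction hφ using Submodule.span_induction with
      | mem φ hφ =>
        obtain ⟨i, rfl⟩ := hφ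
        rw [hL]
        exact ha i
      | zero => rfl
      | add f g _ _ hf hg => rw [LinearMap.add_apply, hf, hg, add_zero]
      | smul c f _ hf => rw [LinearMap.smul_apply, hf, smul_zero]
    · intro h
      apply mem_subIdeal_of_lt p hp.two_le d hd hvp a
      intro i
      have := h (L i) (by rw [hΦ]; exact Submodule.subset_span ⟨i, rfl⟩)
      rw [hL] at this
      exact this
  have h1 := Subspace.finrank_add_finrank_dualCoannihilator_eq Φ
  have h2 := Submodule.finrank_quotient_add_finrank ((subIdeal d hd).restrictScalars k)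
  rw [hJ] at h2
  have h3 : Module.finrank k (A ⧸ subIdeal d hd) =
      Module.finrank k (A ⧸ (subIdeal d hd).restrictScalars k) :=
    (Submodule.Quotient.restrictScalarsEquiv k (subIdeal d hd)).finrank_eq.symm
  rw [h3, hJ]
  omega

/-- there is no nonzero point derivation on a constant group scheme -/
theorem pointDer_constGrp_eq_zero {G : Type*} [Group G] [Fintype G] [DecidableEq G]
    (δ : ConstGrp.F k G →ₗ[k] k) (hδ : IsPointDer δ) : δ = 0 := by
  apply ConstGrp.linearMap_ext
  intro g
  have h := hδ (ConstGrp.e k g) (ConstGrp.e k g)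
  rw [ConstGrp.e_mul_e, if_pos rfl, ConstGrp.counit_apply, ConstGrp.e_apply] at h
  rw [LinearMap.zero_apply]
  by_cases hg : (1 : G) = g
  · rw [if_pos hg] at h
    linear_combination -h
  · rw [if_neg hg] at h
    linear_combination h

end Quot

section Main

variable (k : Type u) [Field k] [IsAlgClosed k] (A : Type v) [CommRing A] [HopfAlgebra k A]
  [Module.Finite k A]

local notation "DD" => WithConv (A →ₗ[k] k)

/-- a non-reduced finite group scheme over an algebraically closed field of characteristic `p`
contains `μ_p` or `α_p` -/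
theorem exists_surjective (p : ℕ) [Fact p.Prime] [CharP k p] (hA : ¬ IsReduced A) :
    (∃ f : A →ₐc[k] MonoidAlgebra k (Multiplicative (ZMod p)), Function.Surjective f) ∨
      (∃ f : A →ₐc[k] AlphaP.A p k, Function.Surjective f) := by
  have hp : p.Prime := Fact.out
  have hnle : ¬ RingHom.ker (Bialgebra.counitAlgHom k A) ≤
      RingHom.ker (Bialgebra.counitAlgHom k A) ^ 2 := fun h => hA (isReduced_of_le_sq h)
  obtain ⟨d₀, x₀, hd₀, hx₀, hdx₀⟩ := exists_pointDer_of_not_le hnle
  have hy : (toConv d₀ : DD) ≠ 0 := by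
    intro h
    have h1 := congrArg (fun f : DD => f.ofConv x₀) h
    simp only [WithConv.ofConv_zero, LinearMap.zero_apply] at h1
    rw [hdx₀] at h1
    exact one_ne_zero h1
  have hfinD : Module.Finite k DD :=
    Module.Finite.equiv (WithConv.linearEquiv k (A →ₗ[k] k)).symm
  obtain ⟨n, c, hv0, hvp⟩ := FrobFixed.exists_fixed (k := k) p (toConv d₀ : DD) hy
  obtain ⟨v, hv⟩ : ∃ v : DD, v = ∑ i ∈ Finset.range n, c i • (toConv d₀ : DD) ^ (p ^ i) :=
    ⟨_, rfl⟩
  rw [← hv] at hv0 hvp
  have hvmem : v ∈ pointDerSub (k := k) (A := A) := by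
    rw [hv]
    exact Submodule.sum_mem _ fun i _ => Submodule.smul_mem _ _ (pow_pow_mem p _ hd₀ i)
  obtain ⟨d, hd⟩ : ∃ d : A →ₗ[k] k, d = v.ofConv := ⟨_, rfl⟩
  have hdv : (toConv d : DD) = v := by
    rw [hd]
  have hdP : IsPointDer d := by
    rw [hd]
    exact hvmem
  have hex : ∃ b : A, d b ≠ 0 := by
    by_contra h
    push Not at h
    apply hv0
    rw [← hdv]
    apply WithConv.ofConv_injective
    ext b
    exact h b
  obtain ⟨b, hb⟩ := hex
  obtain ⟨x, hxdef⟩ : ∃ x : A, x = (d b)⁻¹ • (b - algebraMap k A (counit (R := k) b)) :=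
    ⟨_, rfl⟩
  have hx : counit (R := k) x = 0 := by
    rw [hxdef, map_smul, map_sub, Bialgebra.counit_algebraMap]
    simp
  have hdx : d x = 1 := by
    rw [hxdef, map_smul, map_sub, Algebra.algebraMap_eq_smul_one, map_smul, hdP.map_one,
      smul_zero, sub_zero, smul_eq_mul, inv_mul_cancel₀ hb]
  rw [← hdv] at hvp
  have hH : (subIdeal d hdP).IsHopfIdeal k := isHopfIdeal_subIdeal p hp.two_le d hdP hvp
  have hfin : Module.finrank k (A ⧸ subIdeal d hdP) = p := finrank_quot p d hdP hvp x hx hdx
  obtain ⟨_, h2⟩ := PrimeClassMain.classify k (A ⧸ subIdeal d hdP) p p hfin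
  have hmk : Function.Surjective (Bialgebra.Quotient.mkBialgHom (R := k) (subIdeal d hdP)) :=
    Ideal.Quotient.mk_surjective
  rcases h2 rfl with ⟨⟨e⟩⟩ | ⟨⟨e⟩⟩ | ⟨⟨e⟩⟩
  · exfalso
    -- the induced point derivation on the quotient
    have hle : (subIdeal d hdP).restrictScalars k ≤ LinearMap.ker d := by
      intro a ha
      have h1 := ha 1
      rw [pow_one] at h1
      exact h1
    obtain ⟨δ, hδ⟩ : ∃ δ : ConstGrp.F k (Multiplicative (ZMod p)) →ₗ[k] k,
        ∀ a : A, δ (e (Ideal.Quotient.mk (subIdeal d hdP) a)) = d a := by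
      refine ⟨(((subIdeal d hdP).restrictScalars k).liftQ d hle) ∘ₗ
        (Submodule.Quotient.restrictScalarsEquiv k (subIdeal d hdP)).symm.toLinearMap ∘ₗ
        (e.symm : ConstGrp.F k (Multiplicative (ZMod p)) →ₗ[k] A ⧸ subIdeal d hdP), fun a => ?_⟩
      simp only [LinearMap.comp_apply]
      have h1 : (e.symm : ConstGrp.F k (Multiplicative (ZMod p)) →ₗ[k] A ⧸ subIdeal d hdP)
          (e (Ideal.Quotient.mk (subIdeal d hdP) a)) = Ideal.Quotient.mk (subIdeal d hdP) a :=
        e.symm_apply_apply _
      rw [h1]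
      rfl
    have hδP : IsPointDer δ := by
      intro f g
      have hsurj : Function.Surjective e := EquivLike.surjective e
      obtain ⟨f', rfl⟩ := hsurj f
      obtain ⟨g', rfl⟩ := hsurj g
      obtain ⟨a, rfl⟩ := Ideal.Quotient.mk_surjective f'
      obtain ⟨a', rfl⟩ := Ideal.Quotient.mk_surjective g'
      rw [← map_mul, ← map_mul, hδ, hδ, hδ, hdP a a']
      have hc : ∀ z : A ⧸ subIdeal d hdP, counit (R := k) (e z) = counit (R := k) z := fun z =>
        CoalgHomClass.counit_comp_apply e z
      rw [hc, hc]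
      rfl
    have h0 := pointDer_constGrp_eq_zero δ hδP
    have h1 := hδ x
    rw [h0, LinearMap.zero_apply, hdx] at h1
    exact zero_ne_one h1
  · left
    exact ⟨(e : (A ⧸ subIdeal d hdP) →ₐc[k] MonoidAlgebra k (Multiplicative (ZMod p))).comp
      (Bialgebra.Quotient.mkBialgHom (R := k) (subIdeal d hdP)), e.surjective.comp hmk⟩
  · right
    exact ⟨(e : (A ⧸ subIdeal d hdP) →ₐc[k] AlphaP.A p k).comp
      (Bialgebra.Quotient.mkBialgHom (R := k) (subIdeal d hdP)), e.surjective.comp hmk⟩

end Main

end Groth.Agent.H83.SubMuAlpha
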