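import Groth.Prelude.Def_CAlgX
import Mathlib.RingTheory.Flat.FaithfullyFlat.Basic
import Mathlib.RingTheory.TensorProduct.Basic
import Mathlib.LinearAlgebra.TensorProduct.Tower

set_option autoImplicit false
universe u v w

namespace Groth.Agent.H83

open TensorProduct

variable {A : Type u} {A' : Type u} [CommRing A] [CommRing A'] [Algebra A A']
  {M N : Type v} [AddCommGroup M] [Module A M] [AddCommGroup N] [Module A N]

/-- `(A' ⊗ M) ⊗_{A'} Q ≃ M ⊗_A Q`, `(a ⊗ m) ⊗ q ↦ m ⊗ a q` -/
noncomputable def cancelEquiv (M : Type v) [AddCommGroup M] [Module A M]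
    (Q : Type w) [AddCommGroup Q] [Module A Q] [Module A' Q] [IsScalarTower A A' Q] :
    (A' ⊗[A] M) ⊗[A'] Q ≃ₗ[A] M ⊗[A] Q :=
  ((TensorProduct.comm A' (A' ⊗[A] M) Q).restrictScalars A) ≪≫ₗ
    ((TensorProduct.AlgebraTensorModule.cancelBaseChange A A' A' Q M).restrictScalars A) ≪≫ₗ
      TensorProduct.comm A Q M

theorem cancelEquiv_tmul (Q : Type w) [AddCommGroup Q] [Module A Q] [Module A' Q]
    [IsScalarTower A A' Q] (a : A') (m : M) (q : Q) :
    cancelEquiv (A := A) (A' := A') M Q ((a ⊗ₜ[A] m) ⊗ₜ[A'] q) = m ⊗ₜ[A] (a • q) := by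
  simp [cancelEquiv]

theorem cancelEquiv_natural (u : M →ₗ[A] N) (Q : Type w) [AddCommGroup Q] [Module A Q]
    [Module A' Q] [IsScalarTower A A' Q] (x : (A' ⊗[A] M) ⊗[A'] Q) :
    cancelEquiv (A := A) (A' := A') N Q ((u.baseChange A').rTensor Q x) =
      u.rTensor Q (cancelEquiv (A := A) (A' := A') M Q x) := by
  induction x using TensorProduct.induction_on with
  | zero => simp
  | tmul y q =>
    induction y using TensorProduct.induction_on with
    | zero => simp
    | tmul a m =>
      rw [LinearMap.rTensor_tmul, LinearMap.baseChange_tmul, cancelEquiv_tmul, cancelEquiv_tmul,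
        LinearMap.rTensor_tmul]
    | add y z hy hz => simp only [TensorProduct.add_tmul, map_add, hy, hz]
  | add x y hx hy => simp only [map_add, hx, hy]

theorem injective_rTensor_baseChange_iff (u : M →ₗ[A] N) (Q : Type w) [AddCommGroup Q]
    [Module A Q] [Module A' Q] [IsScalarTower A A' Q] :
    Function.Injective ((u.baseChange A').rTensor Q) ↔ Function.Injective (u.rTensor Q) := by
  constructor
  · intro h x y hxy
    obtain ⟨x', rfl⟩ := (cancelEquiv (A := A) (A' := A') M Q).surjective x
    obtain ⟨y', rfl⟩ := (cancelEquiv (A := A) (A' := A') M Q).surjective y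
    rw [← cancelEquiv_natural, ← cancelEquiv_natural] at hxy
    rw [h ((cancelEquiv (A := A) (A' := A') N Q).injective hxy)]
  · intro h x y hxy
    apply (cancelEquiv (A := A) (A' := A') M Q).injective
    apply h
    rw [← cancelEquiv_natural, ← cancelEquiv_natural, hxy]

end Groth.Agent.H83

namespace Groth.Agent.H83

open TensorProduct

variable {A : Type u} {A' : Type u} [CommRing A] [CommRing A'] [Algebra A A']
  {M N : Type v} [AddCommGroup M] [Module A M] [AddCommGroup N] [Module A N]

theorem leftComm_natural (u : M →ₗ[A] N) (Q : Type w) [AddCommGroup Q] [Module A Q]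
    (x : A' ⊗[A] (M ⊗[A] Q)) :
    TensorProduct.leftComm A A' N Q ((u.rTensor Q).lTensor A' x) =
      u.rTensor (A' ⊗[A] Q) (TensorProduct.leftComm A A' M Q x) := by
  induction x using TensorProduct.induction_on with
  | zero => simp
  | tmul a y =>
    induction y using TensorProduct.induction_on with
    | zero => simp
    | tmul m q => simp
    | add y z hy hz => simp only [TensorProduct.tmul_add, map_add, hy, hz]
  | add x y hx hy => simp only [map_add, hx, hy]

theorem injective_lTensor_rTensor_iff (u : M →ₗ[A] N) (Q : Type w) [AddCommGroup Q] [Module A Q] :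
    Function.Injective ((u.rTensor Q).lTensor A') ↔
      Function.Injective (u.rTensor (A' ⊗[A] Q)) := by
  constructor
  · intro h x y hxy
    obtain ⟨x', rfl⟩ := (TensorProduct.leftComm A A' M Q).surjective x
    obtain ⟨y', rfl⟩ := (TensorProduct.leftComm A A' M Q).surjective y
    rw [← leftComm_natural, ← leftComm_natural] at hxy
    rw [h ((TensorProduct.leftComm A A' N Q).injective hxy)]
  · intro h x y hxy
    apply (TensorProduct.leftComm A A' M Q).injective
    apply h
    rw [← leftComm_natural, ← leftComm_natural, hxy]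

end Groth.Agent.H83
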